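import Cfsg.Agent.EqLemmas
import Cfsg.Agent.Lib.Cores.Fitting
import Cfsg.Agent.Lib.Coprime.Invariant
import Cfsg.Agent.Lib.FittingLength.Coprime

/-!
# The second Fitting subgroup of a subgroup

* `F2 G`, `f2 H` : the second term of the upper Fitting chain, of `G` and of a subgroup `H`
* `mem_f2_iff` : membership through the nilpotent residual; `f2_mono`, `f2_map`
* `oq q H` : the `q`-core of a subgroup; `xp p H` : the preimage of `O_p(H / F(H))`
* `le_oq_of_le_xp`, `mem_oq_self_of_commute`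
-/

set_option autoImplicit false
set_option linter.style.haveILetI false

namespace Cfsg.Agent.SecondFitting

open scoped Pointwise commutatorElement

universe u

variable {G : Type u} [Group G]

/-- The second term of the upper Fitting chain. -/
def F2 (G : Type u) [Group G] : Subgroup G :=
  (Cfsg.fittingSubgroup (G ⧸ Cfsg.fittingSubgroup G)).comap
    (QuotientGroup.mk' (Cfsg.fittingSubgroup G))

theorem F2_normal : (F2 G).Normal :=
  (Cores.fittingSubgroup_normal _).comap _

/-- The second term of the upper Fitting chain of a subgroup. -/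
def f2 (H : Subgroup G) : Subgroup G := (F2 H).map H.subtype

/-- `O_q` of a subgroup. -/
def oq (q : ℕ) (H : Subgroup G) : Subgroup G := (Cfsg.pCore q H).map H.subtype

/-- The preimage of `O_p(H / F(H))`. -/
def xp (p : ℕ) (H : Subgroup G) : Subgroup G :=
  ((Cfsg.pCore p (↥H ⧸ Cfsg.fittingSubgroup H)).comap
    (QuotientGroup.mk' (Cfsg.fittingSubgroup H))).map H.subtype

/-- Normal subgroups with nilpotent quotient over a nilpotent normal subgroup. -/
theorem le_F2_of_res [Finite G] {X : Subgroup G} [X.Normal]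
    (h : Group.IsNilpotent (FittingLength.res X)) : X ≤ F2 G := by
  have hn : (FittingLength.res X).Normal := by
    have := FittingLength.normal_resIter X 1
    rwa [FittingLength.resIter_succ, FittingLength.resIter_zero] at this
  have hF := Cores.le_fittingSubgroup hn h
  set f := QuotientGroup.mk' (Cfsg.fittingSubgroup G)
  have h0 : FittingLength.res (X.map f) = ⊥ := by
    rw [← FittingLength.map_res, Subgroup.map_eq_bot_iff, QuotientGroup.ker_mk']
    exact hF
  exact Subgroup.map_le_iff_le_comap.1 (Cores.le_fittingSubgroup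
    ((inferInstance : X.Normal).map f (QuotientGroup.mk'_surjective _))
    (FittingLength.isNilpotent_of_res_eq_bot h0))

theorem res_eq_bot_of_isNilpotent {H : Subgroup G} (h : Group.IsNilpotent H) :
    FittingLength.res H = ⊥ := by
  obtain ⟨n, hn⟩ := H.isNilpotent_iff_lowerCentralSeries.1 h
  exact le_bot_iff.1 ((iInf_le _ n).trans hn.le)

theorem isNilpotent_res_F2 [Finite G] : Group.IsNilpotent (FittingLength.res (F2 G)) := by
  refine Cores.isNilpotent_of_le_fittingSubgroup ?_
  rw [← QuotientGroup.ker_mk' (Cfsg.fittingSubgroup G), ← Subgroup.map_eq_bot_iff,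
    FittingLength.map_res]
  refine res_eq_bot_of_isNilpotent (Cores.isNilpotent_of_le_fittingSubgroup ?_)
  exact Subgroup.map_comap_le _ _

theorem f2_le (H : Subgroup G) : f2 H ≤ H := Subgroup.map_subtype_le _

theorem normalizer_map_subtype {H : Subgroup G} {N : Subgroup H} (hN : N.Normal) :
    H ≤ Subgroup.normalizer (N.map H.subtype : Set G) := by
  have h := Subgroup.le_normalizer_map (H := N) H.subtype
  rwa [Subgroup.normalizer_eq_top_iff.2 hN, ← MonoidHom.range_eq_map,
    Subgroup.range_subtype] at h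

theorem subgroupOf_map_subtype {H X : Subgroup G} (h : X ≤ H) :
    (X.subgroupOf H).map H.subtype = X := by
  rw [Subgroup.map_subgroupOf_eq_of_le h]

theorem isNilpotent_of_map {G' : Type*} [Group G'] (f : G →* G') (hf : Function.Injective f)
    {X : Subgroup G} (h : Group.IsNilpotent (X.map f)) : Group.IsNilpotent X :=
  Group.nilpotent_of_mulEquiv (_h := h) (X.equivMapOfInjective f hf).symm

theorem mem_f2_iff [Finite G] {H : Subgroup G} {x : G} :
    x ∈ f2 H ↔ ∃ X : Subgroup G, X ≤ H ∧ H ≤ Subgroup.normalizer (X : Set G) ∧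
      Group.IsNilpotent (FittingLength.res X) ∧ x ∈ X := by
  constructor
  · intro hx
    refine ⟨f2 H, f2_le H, normalizer_map_subtype F2_normal, ?_, hx⟩
    rw [f2, ← FittingLength.map_res]
    exact Cores.isNilpotent_map _ isNilpotent_res_F2
  · rintro ⟨X, hXH, hXN, hX, hx⟩
    haveI : (X.subgroupOf H).Normal := Subgroup.normal_subgroupOf_of_le_normalizer hXN
    have h1 : Group.IsNilpotent (FittingLength.res (X.subgroupOf H)) := by
      refine isNilpotent_of_map H.subtype H.subtype_injective ?_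
      rwa [FittingLength.map_res, subgroupOf_map_subtype hXH]
    exact ⟨⟨x, hXH hx⟩, le_F2_of_res h1 (Subgroup.mem_subgroupOf.2 hx), rfl⟩

theorem f2_mono [Finite G] {H K : Subgroup G} (h : K ≤ H) {x : G} (hx : x ∈ f2 H) (hxK : x ∈ K) :
    x ∈ f2 K := by
  obtain ⟨X, hXH, hXN, hX, hxX⟩ := mem_f2_iff.1 hx
  refine mem_f2_iff.2 ⟨X ⊓ K, inf_le_right, fun k hk => ?_,
    Cores.isNilpotent_of_le (FittingLength.res_mono inf_le_left) hX, hxX, hxK⟩
  exact Coprime.mem_normalizer_of_forall fun z hz =>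
    ⟨(Subgroup.mem_normalizer_iff.1 (hXN (h hk)) z).1 hz.1,
      K.mul_mem (K.mul_mem hk hz.2) (K.inv_mem hk)⟩

theorem f2_map [Finite G] {G' : Type*} [Group G'] [Finite G'] (f : G →* G') {H : Subgroup G}
    {x : G} (hx : x ∈ f2 H) : f x ∈ f2 (H.map f) := by
  obtain ⟨X, hXH, hXN, hX, hxX⟩ := mem_f2_iff.1 hx
  refine mem_f2_iff.2 ⟨X.map f, Subgroup.map_mono hXH,
    (Subgroup.map_mono hXN).trans (Subgroup.le_normalizer_map f), ?_, ⟨x, hxX, rfl⟩⟩
  rw [← FittingLength.map_res]
  exact Cores.isNilpotent_map _ hX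

theorem f2_map_iff [Finite G] {G' : Type*} [Group G'] [Finite G'] (f : G →* G')
    (hf : Function.Injective f) {H : Subgroup G} {x : G} :
    f x ∈ f2 (H.map f) ↔ x ∈ f2 H := by
  refine ⟨fun hx => ?_, f2_map f⟩
  obtain ⟨X, hXH, hXN, hX, hxX⟩ := mem_f2_iff.1 hx
  obtain ⟨X, rfl⟩ : ∃ Y : Subgroup G, Y.map f = X :=
    ⟨X.comap f, Subgroup.map_comap_eq_self (hXH.trans (Subgroup.map_le_range f H))⟩
  refine mem_f2_iff.2 ⟨X, (Subgroup.map_le_map_iff_of_injective hf).1 hXH, fun g hg => ?_, ?_,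
    (Subgroup.mem_map_iff_mem hf).1 hxX⟩
  · refine Coprime.mem_normalizer_of_forall fun z hz => (Subgroup.mem_map_iff_mem hf).1 ?_
    rw [map_mul, map_mul, map_inv]
    exact (Subgroup.mem_normalizer_iff.1 (hXN ⟨g, hg, rfl⟩) _).1 ⟨z, hz, rfl⟩
  · rw [← FittingLength.map_res] at hX
    exact isNilpotent_of_map f hf hX

theorem mem_f2_top_iff [Finite G] {x : G} : x ∈ f2 (⊤ : Subgroup G) ↔ x ∈ F2 G := by
  constructor
  · intro hx
    obtain ⟨X, -, hXN, hX, hxX⟩ := mem_f2_iff.1 hx
    haveI : X.Normal := Subgroup.normalizer_eq_top_iff.1 (top_le_iff.1 hXN)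
    exact le_F2_of_res hX hxX
  · intro hx
    exact mem_f2_iff.2 ⟨F2 G, le_top,
      (Subgroup.normalizer_eq_top_iff.2 F2_normal).ge, isNilpotent_res_F2, hx⟩

/-! ## `O_q` of a subgroup -/

section Oq

variable {q : ℕ} {H : Subgroup G}

theorem oq_le : oq q H ≤ H := Subgroup.map_subtype_le _

theorem le_normalizer_oq : H ≤ Subgroup.normalizer (oq q H : Set G) :=
  normalizer_map_subtype (Cores.pCore_normal q H)

theorem isPGroup_oq : IsPGroup q (oq q H) := (Cores.isPGroup_pCore q H).map _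

theorem le_oq {N : Subgroup G} (hNH : N ≤ H) (hN : H ≤ Subgroup.normalizer (N : Set G))
    (hq : IsPGroup q N) : N ≤ oq q H := by
  rw [← subgroupOf_map_subtype hNH]
  exact Subgroup.map_mono (Cores.le_pCore (Subgroup.normal_subgroupOf_of_le_normalizer hN)
    (hq.comap_of_injective _ H.subtype_injective))

theorem oq_commute {t : ℕ} [Fact q.Prime] [Fact t.Prime] (hne : q ≠ t) :
    oq t H ≤ Subgroup.centralizer (oq q H : Set G) := by
  rintro _ ⟨y, hy, rfl⟩ _ ⟨z, hz, rfl⟩
  exact congrArg Subtype.val (Cores.pCore_commute hne hz hy).eq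

theorem mem_normalizer_oq_of_mem_normalizer [Finite G] {g : G}
    (hg : g ∈ Subgroup.normalizer (H : Set G)) : g ∈ Subgroup.normalizer (oq q H : Set G) :=
  Cores.normalizer_le_normalizer_map (H := H) (Cfsg.pCore q H) hg

end Oq

/-- A `q`-subgroup of a nilpotent normal subgroup lies in `O_q`. -/
theorem le_pCore_of_le_fitting [Finite G] {q : ℕ} [Fact q.Prime] {W : Subgroup G}
    (hW : IsPGroup q W) (h : W ≤ Cfsg.fittingSubgroup G) : W ≤ Cfsg.pCore q G := by
  obtain ⟨P, hP⟩ := (hW.comap_of_injective (Cfsg.fittingSubgroup G).subtype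
    (Cfsg.fittingSubgroup G).subtype_injective).exists_le_sylow
  haveI : (P : Subgroup (Cfsg.fittingSubgroup G)).Normal :=
    P.normal_of_normalizerCondition Group.normalizerCondition_of_isNilpotent
  calc W = (W.subgroupOf (Cfsg.fittingSubgroup G)).map (Cfsg.fittingSubgroup G).subtype :=
        (subgroupOf_map_subtype h).symm
    _ ≤ (Cfsg.pCore q (Cfsg.fittingSubgroup G)).map (Cfsg.fittingSubgroup G).subtype :=
        Subgroup.map_mono (hP.trans (Cores.pCore_eq_sylow P).ge)
    _ = _ := Cores.pCore_fittingSubgroup q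

theorem eq_bot_of_isPGroup {p q : ℕ} [Fact p.Prime] [Fact q.Prime] (hne : p ≠ q) {W : Subgroup G}
    (hp : IsPGroup p W) (hq : IsPGroup q W) : W = ⊥ := by
  simpa using IsPGroup.disjoint_of_ne p q hne W W hp hq

/-- A `q`-subgroup of the preimage of `O_p(H / F(H))` lies in `O_q(H)`. -/
theorem le_oq_of_le_xp [Finite G] {p q : ℕ} [Fact p.Prime] [Fact q.Prime] (hne : p ≠ q)
    {H W : Subgroup G} (hW : IsPGroup q W) (h : W ≤ xp p H) : W ≤ oq q H := by
  have hWH : W ≤ H := h.trans (Subgroup.map_subtype_le _)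
  rw [← subgroupOf_map_subtype hWH]
  refine Subgroup.map_mono (le_pCore_of_le_fitting (hW.comap_of_injective _ H.subtype_injective) ?_)
  set f := QuotientGroup.mk' (Cfsg.fittingSubgroup H) with hf
  rw [← QuotientGroup.ker_mk' (Cfsg.fittingSubgroup H), ← Subgroup.map_eq_bot_iff]
  refine eq_bot_of_isPGroup hne ((Cores.isPGroup_pCore p _).to_le ?_)
    ((hW.comap_of_injective _ H.subtype_injective).map f)
  rw [Subgroup.map_le_iff_le_comap]
  intro w hw
  obtain ⟨v, hv, hvw⟩ := h (Subgroup.mem_subgroupOf.1 hw)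
  rwa [show v = w from Subtype.ext hvw] at hv

theorem le_normalizer_xp {p : ℕ} {H : Subgroup G} :
    H ≤ Subgroup.normalizer (xp p H : Set G) :=
  normalizer_map_subtype ((Cores.pCore_normal p _).comap _)

theorem xp_le {p : ℕ} {H : Subgroup G} : xp p H ≤ H := Subgroup.map_subtype_le _

theorem isPGroup_zpowers_of_orderOf {p k : ℕ} {x : G} (h : orderOf x = p ^ k) :
    IsPGroup p (Subgroup.zpowers x) :=
  IsPGroup.of_card (by rw [Nat.card_zpowers, h])

/-- A `p`-element of the second Fitting subgroup lies in the preimage of `O_p(H / F(H))`. -/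
theorem mem_xp_of_mem_f2 [Finite G] {p : ℕ} [Fact p.Prime] {H : Subgroup G} {x : G}
    (hp : IsPGroup p (Subgroup.zpowers x)) (hx : x ∈ f2 H) : x ∈ xp p H := by
  obtain ⟨y, hy, rfl⟩ := hx
  refine ⟨y, ?_, rfl⟩
  set f := QuotientGroup.mk' (Cfsg.fittingSubgroup H)
  have h1 : IsPGroup p (Subgroup.zpowers (f y)) := by
    rw [← MonoidHom.map_zpowers]
    refine IsPGroup.map ?_ f
    have := hp.comap_of_injective H.subtype H.subtype_injective
    refine this.to_le ?_
    rw [Subgroup.zpowers_le]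
    exact Subgroup.mem_zpowers (H.subtype y)
  exact le_pCore_of_le_fitting h1 (Subgroup.zpowers_le.2 hy) (Subgroup.mem_zpowers _)

/-- A `p`-element of `xp p G` centralising every `O_q(G)`, `q ≠ p`, lies in `O_p(G)`. -/
theorem mem_pCore_of_commute [Finite G] {p : ℕ} [hp : Fact p.Prime] {w : G}
    (hw : IsPGroup p (Subgroup.zpowers w))
    (hwx : (QuotientGroup.mk' (Cfsg.fittingSubgroup G)) w ∈
      Cfsg.pCore p (G ⧸ Cfsg.fittingSubgroup G))
    (hc : ∀ q : ℕ, q.Prime → q ≠ p → ∀ y ∈ Cfsg.pCore q G, Commute w y) :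
    w ∈ Cfsg.pCore p G := by
  set F := Cfsg.fittingSubgroup G with hFdef
  set f := QuotientGroup.mk' F with hf
  set E : Subgroup G := ⨆ q : {q : Nat.Primes // (q : ℕ) ≠ p}, Cfsg.pCore (q.1 : ℕ) G with hE
  haveI : E.Normal := Subgroup.iSup_normal _
  set X := (Cfsg.pCore p (G ⧸ F)).comap f with hX
  haveI : X.Normal := (Cores.pCore_normal p _).comap f
  set D : Subgroup G := X ⊓ Subgroup.centralizer (E : Set G) with hD
  haveI : D.Normal := inferInstance
  have hwD : w ∈ D := by
    refine ⟨hwx, ?_⟩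
    have : E ≤ Subgroup.centralizer ({w} : Set G) := iSup_le fun q y hy =>
      Subgroup.mem_centralizer_singleton_iff.2 (hc _ q.1.2 q.2 y hy).eq.symm
    exact fun e he => Subgroup.mem_centralizer_singleton_iff.1 (this he)
  have hOpD : Cfsg.pCore p G ≤ D := by
    refine le_inf (fun y hy => ?_) ?_
    · show f y ∈ Cfsg.pCore p (G ⧸ F)
      rw [show f y = 1 from (QuotientGroup.eq_one_iff y).2 (Cores.pCore_le_fittingSubgroup p hy)]
      exact one_mem _
    · rw [Subgroup.le_centralizer_iff]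
      refine iSup_le fun q => ?_
      haveI : Fact (q.1 : ℕ).Prime := ⟨q.1.2⟩
      exact fun y hy z hz => (Cores.pCore_commute (Ne.symm q.2) hz hy).eq
  obtain ⟨P, hP⟩ := (hw.comap_of_injective D.subtype D.subtype_injective).exists_le_sylow
  set N : Subgroup D := Subgroup.normalizer ((P : Subgroup D) : Set D) with hN
  have hFN : F.subgroupOf D ≤ N := by
    intro y hy
    have hyF : (y : G) ∈ F := hy
    have hsplit : F ≤ Cfsg.pCore p G ⊔ E := by
      rw [hFdef, Cores.fittingSubgroup_eq_iSup_pCore]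
      refine iSup_le fun q => ?_
      rcases eq_or_ne (q : ℕ) p with h | h
      · exact h ▸ le_sup_left
      · exact le_sup_of_le_right
          (le_iSup (fun q : {q : Nat.Primes // (q : ℕ) ≠ p} => Cfsg.pCore (q.1 : ℕ) G) ⟨q, h⟩)
    obtain ⟨a, ha, e, he, hae⟩ := Subgroup.mem_sup_of_normal_right.1 (hsplit hyF)
    have haP : (⟨a, hOpD ha⟩ : D) ∈ (P : Subgroup D) := by
      haveI : ((Cfsg.pCore p G).subgroupOf D).Normal := inferInstance
      exact ((Cores.isPGroup_pCore p G).comap_subtype (K := D)).le_sylow_of_normal P ha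
    have heD : e ∈ D := by
      have : e = a⁻¹ * y := by rw [← hae]; group
      rw [this]
      exact D.mul_mem (D.inv_mem (hOpD ha)) y.2
    have hy' : y = (⟨a, hOpD ha⟩ : D) * ⟨e, heD⟩ := Subtype.ext hae.symm
    rw [hy']
    refine N.mul_mem (Subgroup.le_normalizer haP) ?_
    refine Coprime.mem_normalizer_of_forall fun z hz => ?_
    have : (⟨e, heD⟩ : D) * z * (⟨e, heD⟩ : D)⁻¹ = z := by
      apply Subtype.ext
      show e * (z : G) * e⁻¹ = z
      rw [(Subgroup.mem_centralizer_iff.1 z.2.2 e he)]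
      group
    rwa [this]
  have hNtop : N = ⊤ := by
    rw [← Subgroup.index_eq_one]
    have h1 : N.index ∣ (P : Subgroup D).index := Subgroup.index_dvd_of_le Subgroup.le_normalizer
    have h2 : N.index ∣ (F.subgroupOf D).index := Subgroup.index_dvd_of_le hFN
    obtain ⟨k, hk⟩ : ∃ k, (F.subgroupOf D).index = p ^ k := by
      have hker : F.subgroupOf D = (f.comp D.subtype).ker := by
        rw [← MonoidHom.comap_ker, QuotientGroup.ker_mk']; rfl
      rw [hker, Subgroup.index_ker]
      refine IsPGroup.iff_card.1 ((Cores.isPGroup_pCore p (G ⧸ F)).to_le ?_)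
      rintro _ ⟨d, rfl⟩
      exact d.2.1
    exact Nat.eq_one_of_dvd_coprimes
      ((Nat.Prime.coprime_iff_not_dvd hp.out).2 P.not_dvd_index |>.pow_left k) (hk ▸ h2) h1
  haveI hPn : (P : Subgroup D).Normal := Subgroup.normalizer_eq_top_iff.1 hNtop
  have h3 : (Cfsg.pCore p D).map D.subtype ≤ Cfsg.pCore p G :=
    (Cores.pCore_map_subtype D p).le.trans inf_le_left
  refine h3 ⟨⟨w, hwD⟩, (Cores.pCore_eq_sylow P).ge (hP ?_), rfl⟩
  exact Subgroup.mem_zpowers w

theorem mem_oq_self_of_commute [Finite G] {p : ℕ} [Fact p.Prime] {H : Subgroup G} {w : G}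
    (hw : IsPGroup p (Subgroup.zpowers w)) (hx : w ∈ xp p H)
    (hc : ∀ q : ℕ, q.Prime → q ≠ p → ∀ y ∈ oq q H, Commute w y) : w ∈ oq p H := by
  obtain ⟨v, hv, rfl⟩ := hx
  refine ⟨v, mem_pCore_of_commute ?_ hv fun q hq hne y hy => ?_, rfl⟩
  · exact (hw.comap_of_injective H.subtype H.subtype_injective).to_le
      (Subgroup.zpowers_le.2 (Subgroup.mem_zpowers (H.subtype v)))
  · exact Subtype.ext (hc q hq hne _ ⟨y, hy, rfl⟩).eq

end Cfsg.Agent.SecondFitting
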