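import Cfsg.Agent.Lib.SecondFitting.Setting
import Cfsg.Agent.Lib.Isolated.Basic

/-!
# Invariant `q`-subgroups moved by `E`: uniqueness of the maximal ones

* `Om E Y q U` : `U` is an `E`-invariant `q`-group with `C_U(E) ≤ Y`
* `Clu E Y q U` : `U` is maximal such and `[U, E] ≠ 1`
* `Frame.unique`, `Frame.same` : a moved subgroup lies in only one; two meeting one proper subgroup
  containing `E` in moved subgroups are equal
-/

set_option autoImplicit false
set_option linter.style.haveILetI false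
set_option linter.unusedSectionVars false

namespace Cfsg.Agent.SecondFitting

open scoped Pointwise commutatorElement

universe u

variable {G : Type u} [Group G]

/-- An `E`-invariant `q`-group whose fixed points lie in `Y`. -/
def Om (E Y : Subgroup G) (q : ℕ) (U : Subgroup G) : Prop :=
  IsPGroup q U ∧ E ≤ Subgroup.normalizer (U : Set G) ∧ U ⊓ Subgroup.centralizer (E : Set G) ≤ Y

/-- A maximal one, moved by `E`. -/
structure Clu (E Y : Subgroup G) (q : ℕ) (U : Subgroup G) : Prop where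
  om : Om E Y q U
  max : ∀ V, Om E Y q V → U ≤ V → V = U
  mov : ⁅U, E⁆ ≠ ⊥

/-- What the uniqueness argument needs from `E`, `Y`, `q`. -/
structure Frame (E Y : Subgroup G) (q : ℕ) : Prop where
  qprime : q.Prime
  solv : Group.IsSolvable E
  cop : ∀ W : Subgroup G, IsPGroup q W → (Nat.card E).Coprime (Nat.card W)
  key : ∀ H W : Subgroup G, H ≠ ⊤ → E ≤ H → IsPGroup q W → W ≤ H →
    E ≤ Subgroup.normalizer (W : Set G) → ⁅W, E⁆ ≤ ⁅oq q H, E⁆
  good : ∀ W : Subgroup G, IsPGroup q W → E ≤ Subgroup.normalizer (W : Set G) →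
    ⁅W, E⁆ ⊓ Subgroup.centralizer (E : Set G) ≤ Y
  Yq : IsPGroup q Y
  Yc : Y ≤ Subgroup.centralizer (E : Set G)
  Yn : Subgroup.centralizer (E : Set G) ≤ Subgroup.normalizer (Y : Set G)
  proper : ∀ D : Subgroup G, IsPGroup q D → D ≠ ⊥ → Subgroup.normalizer (D : Set G) ≠ ⊤

namespace Frame

variable [Finite G] {E Y : Subgroup G} {q : ℕ} (F : Frame E Y q)

include F

theorem comm_le {W : Subgroup G} (hEW : E ≤ Subgroup.normalizer (W : Set G)) : ⁅W, E⁆ ≤ W :=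
  Subgroup.le_normalizer_iff_commutator_le_left.1 hEW

theorem comm_comm {W : Subgroup G} (hW : IsPGroup q W)
    (hEW : E ≤ Subgroup.normalizer (W : Set G)) : ⁅⁅W, E⁆, E⁆ = ⁅W, E⁆ :=
  Coprime.commutator_commutator_eq hEW (F.cop W hW) (Or.inl F.solv)

theorem om_comm {W : Subgroup G} (hW : IsPGroup q W)
    (hEW : E ≤ Subgroup.normalizer (W : Set G)) : Om E Y q ⁅W, E⁆ :=
  ⟨hW.to_le (F.comm_le hEW), le_normalizer_comm hEW Subgroup.le_normalizer, F.good W hW hEW⟩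

theorem exists_max {V : Subgroup G} (hV : Om E Y q V) :
    ∃ U, Om E Y q U ∧ V ≤ U ∧ ∀ W, Om E Y q W → U ≤ W → W = U := by
  obtain ⟨U, ⟨hU, hVU⟩, hmax⟩ :=
    exists_maximal_of_wellFoundedGT (fun U : Subgroup G => Om E Y q U ∧ V ≤ U) ⟨V, hV, le_rfl⟩
  exact ⟨U, hU, hVU, fun W hW hUW => le_antisymm (hmax ⟨hW, hVU.trans hUW⟩ hUW) hUW⟩

theorem exists_clu {W : Subgroup G} (hW : IsPGroup q W)
    (hEW : E ≤ Subgroup.normalizer (W : Set G)) (hne : ⁅W, E⁆ ≠ ⊥) :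
    ∃ U, Clu E Y q U ∧ ⁅W, E⁆ ≤ U := by
  obtain ⟨U, hU, hle, hmax⟩ := F.exists_max (F.om_comm hW hEW)
  refine ⟨U, ⟨hU, hmax, fun h => hne ?_⟩, hle⟩
  rw [← F.comm_comm hW hEW]
  exact le_bot_iff.1 (h ▸ Subgroup.commutator_mono hle le_rfl)

/-- A moved subgroup lies in only one maximal member. -/
theorem unique {U U' A : Subgroup G} (hU : Clu E Y q U) (hU' : Clu E Y q U') (hA : A ≤ U)
    (hA' : A ≤ U') (hne : ⁅A, E⁆ ≠ ⊥) : U = U' := by
  haveI : Fact q.Prime := ⟨F.qprime⟩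
  by_contra hne'
  -- a counterexample with maximal intersection
  obtain ⟨D, ⟨U, U', hU, hU', hUne, rfl, hD⟩, hmax⟩ := exists_maximal_of_wellFoundedGT
    (fun D : Subgroup G => ∃ U U' : Subgroup G, Clu E Y q U ∧ Clu E Y q U' ∧ U ≠ U' ∧
      D = U ⊓ U' ∧ ⁅D, E⁆ ≠ ⊥)
    ⟨U ⊓ U', U, U', hU, hU', hne', rfl,
      fun h => hne (le_bot_iff.1 (h ▸ Subgroup.commutator_mono (le_inf hA hA') le_rfl))⟩
  set D := U ⊓ U' with hDdef
  have hDq : IsPGroup q D := hU.om.1.to_le inf_le_left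
  have hED : E ≤ Subgroup.normalizer (D : Set G) := le_normalizer_inf hU.om.2.1 hU'.om.2.1
  have hD1 : D ≠ ⊥ := fun h => hD (le_bot_iff.1 ((F.comm_le hED).trans h.le))
  set H := Subgroup.normalizer (D : Set G) with hH
  have hHtop : H ≠ ⊤ := F.proper D hDq hD1
  set S := ⁅oq q H, E⁆ ⊔ (Y ⊓ H) with hS
  have hEoq : E ≤ Subgroup.normalizer (oq q H : Set G) := hED.trans le_normalizer_oq
  have hYN : Y ⊓ H ≤ Subgroup.normalizer ((⁅oq q H, E⁆ : Subgroup G) : Set G) :=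
    le_normalizer_comm (inf_le_right.trans le_normalizer_oq)
      ((inf_le_left.trans F.Yc).trans (centralizer_le_normalizer_self E))
  have hSom : Om E Y q S := by
    refine ⟨?_, le_normalizer_sup (le_normalizer_comm hEoq Subgroup.le_normalizer)
      (le_normalizer_iff.2 fun e he y hy => ?_), ?_⟩
    · rw [hS, sup_comm]
      exact (F.Yq.to_le inf_le_left).to_sup_of_normal_right'
        (isPGroup_oq.to_le (F.comm_le hEoq)) hYN
    · rw [(F.Yc hy.1 e he), mul_inv_cancel_right]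
      exact hy
    · rintro z ⟨hz, hzc⟩
      obtain ⟨r, hr, y, hy, rfl⟩ := (Coprime.mem_sup_iff hYN).1 hz
      refine Y.mul_mem (F.good _ isPGroup_oq hEoq ⟨hr, ?_⟩) hy.1
      simpa using Subgroup.mul_mem _ hzc (Subgroup.inv_mem _ (F.Yc hy.1))
  have side : ∀ V, Clu E Y q V → D ≤ V → D ≠ V →
      ∃ V₁ : Subgroup G, V₁ ≤ V ∧ V₁ ≤ S ∧ D < V₁ := by
    intro V hV hDV hne2
    refine ⟨V ⊓ H, inf_le_left, ?_, ?_⟩
    · have hEV₁ : E ≤ Subgroup.normalizer ((V ⊓ H : Subgroup G) : Set G) :=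
        le_normalizer_inf hV.om.2.1 (hED.trans Subgroup.le_normalizer)
      refine le_trans (Coprime.commutator_sup_centralizer hEV₁
        (F.cop _ (hV.om.1.to_le inf_le_left)) (Or.inl F.solv)).ge
        (sup_le (le_sup_of_le_left ?_) (le_sup_of_le_right ?_))
      · exact F.key H _ hHtop hED (hV.om.1.to_le inf_le_left) inf_le_right hEV₁
      · exact le_inf (le_trans (inf_le_inf_right _ inf_le_left) hV.om.2.2)
          (inf_le_left.trans inf_le_right)
    · exact lt_of_le_of_ne (le_inf hDV Subgroup.le_normalizer) fun h => hne2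
        (Isolated.eq_of_normalizer_le hV.om.1 hDV fun g hgV hgN => h.ge ⟨hgV, hgN⟩)
  have hDU : D ≠ U := fun h => hUne (hU.max U' hU'.om (inf_eq_left.1 h)).symm
  have hDU' : D ≠ U' := fun h => hUne (hU'.max U hU.om (inf_eq_right.1 h))
  obtain ⟨U'', hU''om, hSU'', hU''max⟩ := F.exists_max hSom
  have fin : ∀ V, Clu E Y q V → D ≤ V → D ≠ V → V = U'' := by
    intro V hV hDV hne2
    obtain ⟨V₁, hV₁V, hV₁S, hlt⟩ := side V hV hDV hne2
    have hne3 : ⁅V₁, E⁆ ≠ ⊥ := fun h =>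
      hD (le_bot_iff.1 (h ▸ Subgroup.commutator_mono hlt.le le_rfl))
    have hU'' : Clu E Y q U'' := ⟨hU''om, hU''max, fun h =>
      hne3 (le_bot_iff.1 (h ▸ Subgroup.commutator_mono (hV₁S.trans hSU'') le_rfl))⟩
    by_contra hVne
    have hle : V₁ ≤ V ⊓ U'' := le_inf hV₁V (hV₁S.trans hSU'')
    have := hmax ⟨V, U'', hV, hU'', hVne, rfl,
      fun h => hne3 (le_bot_iff.1 (h ▸ Subgroup.commutator_mono hle le_rfl))⟩
      (hlt.le.trans hle)
    exact absurd (hle.trans this) hlt.not_ge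
  exact hUne ((fin U hU inf_le_left hDU).trans (fin U' hU' inf_le_right hDU').symm)

/-- Two moved subgroups of one proper subgroup lie in the same maximal member. -/
theorem same {U U' : Subgroup G} (hU : Clu E Y q U) (hU' : Clu E Y q U') {H : Subgroup G}
    (hH : H ≠ ⊤) (hEH : E ≤ H) (h : ⁅U ⊓ H, E⁆ ≠ ⊥) (h' : ⁅U' ⊓ H, E⁆ ≠ ⊥) : U = U' := by
  haveI : Fact q.Prime := ⟨F.qprime⟩
  have hEoq : E ≤ Subgroup.normalizer (oq q H : Set G) := hEH.trans le_normalizer_oq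
  have h1 : ∀ V, Clu E Y q V → ⁅V ⊓ H, E⁆ ≠ ⊥ →
      E ≤ Subgroup.normalizer ((V ⊓ H : Subgroup G) : Set G) ∧
      ⁅V ⊓ H, E⁆ ≤ ⁅oq q H, E⁆ := fun V hV hne => by
    have hn : E ≤ Subgroup.normalizer ((V ⊓ H : Subgroup G) : Set G) :=
      le_normalizer_inf hV.om.2.1 (hEH.trans Subgroup.le_normalizer)
    exact ⟨hn, F.key H _ hH hEH (hV.om.1.to_le inf_le_left) inf_le_right hn⟩
  obtain ⟨W, hW, hWle⟩ := F.exists_clu isPGroup_oq hEoq fun h0 =>
    h (le_bot_iff.1 ((h1 U hU h).2.trans h0.le))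
  have h2 : ∀ V, Clu E Y q V → ⁅V ⊓ H, E⁆ ≠ ⊥ → V = W := fun V hV hne => by
    obtain ⟨hn, hle⟩ := h1 V hV hne
    refine F.unique hV hW (A := ⁅V ⊓ H, E⁆) ((F.comm_le hn).trans inf_le_left) (hle.trans hWle) ?_
    rw [F.comm_comm (hV.om.1.to_le inf_le_left) hn]
    exact hne
  rw [h2 U hU h, h2 U' hU' h']

theorem om_cj {c : G} (hc : c ∈ Subgroup.centralizer (E : Set G)) {U : Subgroup G}
    (hU : Om E Y q U) : Om E Y q (cj c U) := by
  have hE : cj c E = E := cj_eq_self (centralizer_le_normalizer_self E hc)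
  refine ⟨isPGroup_cj hU.1, ?_, ?_⟩
  · rw [normalizer_cj, ← hE]
    exact cj_mono hU.2.1
  · rintro z ⟨hz, hzc⟩
    have h1 : c⁻¹ * z * c ∈ U ⊓ Subgroup.centralizer (E : Set G) :=
      ⟨mem_cj.1 hz, Subgroup.mul_mem _ (Subgroup.mul_mem _ (Subgroup.inv_mem _ hc) hzc) hc⟩
    simpa [mul_assoc] using le_normalizer_iff.1 F.Yn c hc _ (hU.2.2 h1)

theorem clu_cj {c : G} (hc : c ∈ Subgroup.centralizer (E : Set G)) {U : Subgroup G}
    (hU : Clu E Y q U) : Clu E Y q (cj c U) := by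
  have hE : cj c E = E := cj_eq_self (centralizer_le_normalizer_self E hc)
  refine ⟨F.om_cj hc hU.om, fun V hV hle => ?_, fun h => hU.mov ?_⟩
  · rw [← cj_cj_inv c V, hU.max _ (F.om_cj (inv_mem hc) hV) (by
      rw [← cj_inv_cj c U]; exact cj_mono hle)]
  · rw [← cj_eq_bot (g := c), cj_comm, hE]
    exact h

theorem Y_le {U : Subgroup G} (hU : Clu E Y q U) (hY : Y ≤ Subgroup.normalizer (U : Set G)) :
    Y ≤ U := by
  haveI : Fact q.Prime := ⟨F.qprime⟩
  refine le_sup_right.trans (hU.max (U ⊔ Y) ⟨?_, ?_, ?_⟩ le_sup_left).le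
  · rw [sup_comm]
    exact F.Yq.to_sup_of_normal_right' hU.om.1 hY
  · refine le_normalizer_sup hU.om.2.1 (le_normalizer_iff.2 fun e he y hy => ?_)
    rw [(F.Yc hy e he), mul_inv_cancel_right]
    exact hy
  · rintro z ⟨hz, hzc⟩
    obtain ⟨r, hr, y, hy, rfl⟩ := (Coprime.mem_sup_iff hY).1 hz
    refine Y.mul_mem (hU.om.2.2 ⟨hr, ?_⟩) hy
    simpa using Subgroup.mul_mem _ hzc (Subgroup.inv_mem _ (F.Yc hy))

end Frame

end Cfsg.Agent.SecondFitting
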