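import Cfsg.Agent.Lib.SecondFitting.Main
import Cfsg.Agent.Lib.FPF.Kernel

/-!
# The maximal subgroups over the members cover `G`; the Frobenius contradiction

* `Ctx.rr_commute` : members of different primes in one proper subgroup have commuting `[U, x]`
* `Ctx.le_of_meet`, `Ctx.false` : the setting is impossible
-/

set_option autoImplicit false
set_option linter.style.haveILetI false
set_option linter.unusedSectionVars false

namespace Cfsg.Agent.SecondFitting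

open scoped Pointwise commutatorElement

universe u

variable {G : Type u} [Group G] [Finite G]

theorem le_normalizer_of_comm_eq {A E : Subgroup G} (h : ⁅A, E⁆ = A) :
    E ≤ Subgroup.normalizer (A : Set G) := by
  rw [← h]
  exact Subgroup.normalizer_commutator_ge_right A E

/-- A maximal subgroup over some member. -/
def IsTop (p : ℕ) (x : G) (M : Subgroup G) : Prop :=
  ∃ q : ℕ, q.Prime ∧ q ≠ p ∧ ∃ U, Cl x q U ∧ Ctx.Over x U M

/-- `x` moves no `O_t(H)`, `t ≠ p`. -/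
def Triv (p : ℕ) (x : G) (H : Subgroup G) : Prop :=
  ∀ t : ℕ, t.Prime → t ≠ p → ⁅oq t H, Subgroup.zpowers x⁆ = ⊥

namespace Ctx

variable {p : ℕ} {x : G} (C : Ctx G p x)

include C

section TwoPrimes

variable {q r : ℕ} [Fact q.Prime] [Fact r.Prime] (hne : q ≠ p) (hner : r ≠ p) (hqr : q ≠ r)
  {U V M : Subgroup G} (hU : Cl x q U) (hV : Cl x r V) (hM : Over x U M)

include hne hner hqr hU hV hM

/-- If `x` moves `Z(O_q(M))`, commutation with a moved subgroup of another prime spreads to all of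
`[U, x]`. -/
theorem grow (hZ : ¬ oq q M ⊓ Subgroup.centralizer (oq q M : Set G) ≤ cn x)
    (P : Subgroup G → Prop) (hP : ∀ B, P B → IsPGroup r B ∧ ⁅B, Subgroup.zpowers x⁆ = B)
    {A₀ B₀ : Subgroup G} (hA₀ : A₀ ≤ rr x U) (hA₀x : ⁅A₀, Subgroup.zpowers x⁆ = A₀)
    (hA₀1 : A₀ ≠ ⊥) (hB₀ : P B₀) (hAB : A₀ ≤ Subgroup.centralizer (B₀ : Set G)) :
    ∃ B, P B ∧ rr x U ≤ Subgroup.centralizer (B : Set G) := by
  set Q := oq q M with hQ
  set Z := Q ⊓ Subgroup.centralizer (Q : Set G) with hZdef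
  have hxM := C.mem_over hne hU hM
  have hxQ : Subgroup.zpowers x ≤ Subgroup.normalizer (Q : Set G) :=
    (Subgroup.zpowers_le.2 hxM).trans le_normalizer_oq
  have hxZ : Subgroup.zpowers x ≤ Subgroup.normalizer (Z : Set G) :=
    le_normalizer_inf hxQ (le_normalizer_iff.2 fun a ha c hc s hs => by
      have h1 : a⁻¹ * s * a ∈ Q := by
        simpa using le_normalizer_iff.1 hxQ a⁻¹ ((Subgroup.zpowers x).inv_mem ha) s hs
      calc s * (a * c * a⁻¹) = a * ((a⁻¹ * s * a) * c) * a⁻¹ := by group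
        _ = a * (c * (a⁻¹ * s * a)) * a⁻¹ := by rw [hc _ h1]
        _ = _ := by group)
  set Z₀ := ⁅Z, Subgroup.zpowers x⁆ with hZ₀
  have hZ₀Z : Z₀ ≤ Z := Subgroup.le_normalizer_iff_commutator_le_left.1 hxZ
  have hZ₀q : IsPGroup q Z₀ := (isPGroup_oq (q := q) (H := M)).to_le (hZ₀Z.trans inf_le_left)
  have hZ₀x : ⁅Z₀, Subgroup.zpowers x⁆ = Z₀ :=
    C.comm_comm ((isPGroup_oq (q := q) (H := M)).to_le inf_le_left) hne
      (hxZ (Subgroup.mem_zpowers x))
  have hZ₀1 : Z₀ ≠ ⊥ := fun h => hZ (Subgroup.commutator_eq_bot_iff_le_centralizer.1 h)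
  have hRQ : rr x U ≤ Q := C.rr_le_oq_over hne hU hM
  obtain ⟨A, ⟨hA, hAx, hA1, B, hB, hAB'⟩, hmax⟩ := exists_maximal_of_wellFoundedGT
    (fun A : Subgroup G => A ≤ rr x U ∧ ⁅A, Subgroup.zpowers x⁆ = A ∧ A ≠ ⊥ ∧
      ∃ B, P B ∧ A ≤ Subgroup.centralizer (B : Set G))
    ⟨A₀, hA₀, hA₀x, hA₀1, B₀, hB₀, hAB⟩
  obtain ⟨hBr, hBx⟩ := hP B hB
  have hAq : IsPGroup q A := (C.rr_q hne hU).to_le hA
  have hxA : x ∈ Subgroup.normalizer (A : Set G) :=
    le_normalizer_of_comm_eq hAx (Subgroup.mem_zpowers x)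
  have hxB : x ∈ Subgroup.normalizer (B : Set G) :=
    le_normalizer_of_comm_eq hBx (Subgroup.mem_zpowers x)
  set H := Subgroup.normalizer (A : Set G) with hH
  have hHtop : H ≠ ⊤ := C.normalizer_ne_top' hAq hA1
  have hBH : B ≤ H := (Subgroup.le_centralizer_iff.1 hAB').trans (centralizer_le_normalizer_self A)
  have hZ₀H : Z₀ ≤ H :=
    ((hZ₀Z.trans inf_le_right).trans (Subgroup.centralizer_le (hA.trans hRQ))).trans
      (centralizer_le_normalizer_self A)
  have hxO : Subgroup.zpowers x ≤ Subgroup.normalizer (oq q H : Set G) :=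
    (Subgroup.zpowers_le.2 hxA).trans le_normalizer_oq
  have hBO : B ≤ oq r H := by
    rw [← hBx]
    exact (C.key hner hHtop hxA hBr hBH hxB).trans
      (Subgroup.le_normalizer_iff_commutator_le_left.1
        ((Subgroup.zpowers_le.2 hxA).trans le_normalizer_oq))
  set A' := ⁅oq q H, Subgroup.zpowers x⁆ with hA'
  have hA'le : A' ≤ rr x U := C.comm_oq_le hne hU hHtop hxA (hA.trans (C.rr_le hne hU))
    Subgroup.le_normalizer (by rw [hAx]; exact hA1)
  have hAA' : A ≤ A' := by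
    conv_lhs => rw [← hAx]
    exact C.key hne hHtop hxA hAq Subgroup.le_normalizer hxA
  have hA'B : A' ≤ Subgroup.centralizer (B : Set G) :=
    (Subgroup.le_normalizer_iff_commutator_le_left.1 hxO).trans
      ((oq_commute (Ne.symm hqr)).trans (Subgroup.centralizer_le hBO))
  have hA'A : A' ≤ A := hmax ⟨hA'le, C.comm_comm isPGroup_oq hne (le_normalizer_oq hxA),
    fun h => hA1 (le_bot_iff.1 (hAA'.trans h.le)), B, hB, hA'B⟩ hAA'
  have hZ₀A : Z₀ ≤ A := by
    refine le_trans ?_ hA'A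
    conv_lhs => rw [← hZ₀x]
    exact C.key hne hHtop hxA hZ₀q hZ₀H (le_normalizer_of_comm_eq hZ₀x (Subgroup.mem_zpowers x))
  set H₂ := Subgroup.normalizer (Z₀ : Set G) with hH₂
  have hH₂top : H₂ ≠ ⊤ := C.normalizer_ne_top' hZ₀q hZ₀1
  have hxH₂ : x ∈ H₂ := le_normalizer_of_comm_eq hZ₀x (Subgroup.mem_zpowers x)
  have hRH₂ : rr x U ≤ H₂ := (hRQ.trans (Subgroup.le_centralizer_iff.1
    (hZ₀Z.trans inf_le_right))).trans (centralizer_le_normalizer_self Z₀)
  have hBH₂ : B ≤ H₂ := ((Subgroup.le_centralizer_iff.1 hAB').trans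
    (Subgroup.centralizer_le hZ₀A)).trans (centralizer_le_normalizer_self Z₀)
  have hBO₂ : B ≤ oq r H₂ := by
    rw [← hBx]
    exact (C.key hner hH₂top hxH₂ hBr hBH₂ hxB).trans
      (Subgroup.le_normalizer_iff_commutator_le_left.1
        ((Subgroup.zpowers_le.2 hxH₂).trans le_normalizer_oq))
  refine ⟨B, hB, ?_⟩
  exact ((C.rr_le_oq hne hU hH₂top hxH₂ hRH₂).trans
    (Subgroup.le_normalizer_iff_commutator_le_left.1
      ((Subgroup.zpowers_le.2 hxH₂).trans le_normalizer_oq))).trans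
    ((oq_commute (Ne.symm hqr)).trans (Subgroup.centralizer_le hBO₂))

end TwoPrimes

theorem rr_le_cn_of_central {q : ℕ} [Fact q.Prime] (hne : q ≠ p) {U M : Subgroup G}
    (hU : Cl x q U) (hM : Over x U M)
    (hZ : oq q M ⊓ Subgroup.centralizer (oq q M : Set G) ≤ cn x) :
    ∃ z : G, z ≠ 1 ∧ x ∈ cn z ∧
      ∀ (r : ℕ), r.Prime → r ≠ p → ∀ V, Cl x r V → rr x V ≤ cn z := by
  obtain ⟨hs, z, hzR, hz1, hzZ⟩ := C.single_of_central hne hU hM hZ
  refine ⟨z, hz1, mem_cn.2 (mem_cn.1 (hZ hzZ)).symm, fun r hr hrp V hV => ?_⟩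
  haveI : Fact r.Prime := ⟨hr⟩
  by_cases hrq : r = q
  · subst hrq
    rw [hs V U hV hU]
    exact fun g hg => mem_cn.2 (hzZ.2 g (C.rr_le_oq_over hne hU hM hg)).symm
  · exact fun g hg => mem_cn.2 (C.central_commute hne hU hM hZ hzR hzZ hrp hrq hV g hg)

variable {q r : ℕ} [Fact q.Prime] [Fact r.Prime]

/-- Members of different primes in one proper subgroup: the `[U, x]` commute. -/
theorem rr_commute (hne : q ≠ p) (hner : r ≠ p) (hqr : q ≠ r) {U V H A B : Subgroup G}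
    (hU : Cl x q U) (hV : Cl x r V) (hH : H ≠ ⊤) (hxH : x ∈ H)
    (hA : A ≤ U) (hAH : A ≤ H) (hA1 : ⁅A, Subgroup.zpowers x⁆ ≠ ⊥)
    (hB : B ≤ V) (hBH : B ≤ H) (hB1 : ⁅B, Subgroup.zpowers x⁆ ≠ ⊥) :
    rr x V ≤ Subgroup.centralizer (rr x U : Set G) := by
  obtain ⟨M, hM₁, hM₂⟩ := C.exists_maximal hne hU
  have hM : Over x U M := ⟨hM₁, hM₂⟩
  obtain ⟨MV, hMV₁, hMV₂⟩ := C.exists_maximal hner hV
  have hMV : Over x V MV := ⟨hMV₁, hMV₂⟩
  by_cases hZU : oq q M ⊓ Subgroup.centralizer (oq q M : Set G) ≤ cn x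
  · obtain ⟨z, hz1, hxz, hz⟩ := C.rr_le_cn_of_central hne hU hM hZU
    have hcn := C.cn_ne_top hz1
    exact ((C.rr_le_oq hner hV hcn hxz (hz r Fact.out hner V hV)).trans
      (Subgroup.le_normalizer_iff_commutator_le_left.1
        ((Subgroup.zpowers_le.2 hxz).trans le_normalizer_oq))).trans
      ((oq_commute hqr).trans (Subgroup.centralizer_le
        ((C.rr_le_oq hne hU hcn hxz (hz q Fact.out hne U hU)).trans
          (Subgroup.le_normalizer_iff_commutator_le_left.1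
            ((Subgroup.zpowers_le.2 hxz).trans le_normalizer_oq)))))
  by_cases hZV : oq r MV ⊓ Subgroup.centralizer (oq r MV : Set G) ≤ cn x
  · obtain ⟨z, hz1, hxz, hz⟩ := C.rr_le_cn_of_central hner hV hMV hZV
    have hcn := C.cn_ne_top hz1
    exact ((C.rr_le_oq hner hV hcn hxz (hz r Fact.out hner V hV)).trans
      (Subgroup.le_normalizer_iff_commutator_le_left.1
        ((Subgroup.zpowers_le.2 hxz).trans le_normalizer_oq))).trans
      ((oq_commute hqr).trans (Subgroup.centralizer_le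
        ((C.rr_le_oq hne hU hcn hxz (hz q Fact.out hne U hU)).trans
          (Subgroup.le_normalizer_iff_commutator_le_left.1
            ((Subgroup.zpowers_le.2 hxz).trans le_normalizer_oq)))))
  -- two commuting members
  have hxO : ∀ t, Subgroup.zpowers x ≤ Subgroup.normalizer (oq t H : Set G) := fun t =>
    (Subgroup.zpowers_le.2 hxH).trans le_normalizer_oq
  set A₀ := ⁅oq q H, Subgroup.zpowers x⁆ with hA₀
  set B₀ := ⁅oq r H, Subgroup.zpowers x⁆ with hB₀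
  have hA₀le : A₀ ≤ rr x U := C.comm_oq_le hne hU hH hxH hA hAH hA1
  have hB₀le : B₀ ≤ rr x V := C.comm_oq_le hner hV hH hxH hB hBH hB1
  have hA₀x : ⁅A₀, Subgroup.zpowers x⁆ = A₀ := C.comm_comm isPGroup_oq hne (le_normalizer_oq hxH)
  have hB₀x : ⁅B₀, Subgroup.zpowers x⁆ = B₀ := C.comm_comm isPGroup_oq hner (le_normalizer_oq hxH)
  have moved : ∀ {t : ℕ} [Fact t.Prime], t ≠ p → ∀ {W T : Subgroup G}, Cl x t W → T ≤ W → T ≤ H →
      ⁅T, Subgroup.zpowers x⁆ ≠ ⊥ → ⁅oq t H, Subgroup.zpowers x⁆ ≠ ⊥ := by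
    intro t _ ht W T hW hTW hTH hT1 h0
    have hxN : x ∈ Subgroup.normalizer ((W ⊓ H : Subgroup G) : Set G) :=
      le_normalizer_inf (hW.om.2.1) ((Subgroup.zpowers_le.2 hxH).trans Subgroup.le_normalizer)
        (Subgroup.mem_zpowers x)
    refine hT1 (le_bot_iff.1 (((Subgroup.commutator_mono (le_inf hTW hTH) le_rfl).trans ?_).trans
      h0.le))
    exact C.key ht hH hxH (hW.om.1.to_le inf_le_left) inf_le_right hxN
  have hcomm : A₀ ≤ Subgroup.centralizer (B₀ : Set G) :=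
    (Subgroup.le_normalizer_iff_commutator_le_left.1 (hxO q)).trans
      ((oq_commute (Ne.symm hqr)).trans
        (Subgroup.centralizer_le (Subgroup.le_normalizer_iff_commutator_le_left.1 (hxO r))))
  obtain ⟨B', ⟨hB'le, hB'x, hB'1⟩, hUB'⟩ := C.grow hne hner hqr hU hV hM hZU
    (fun B => B ≤ rr x V ∧ ⁅B, Subgroup.zpowers x⁆ = B ∧ B ≠ ⊥)
    (fun B hB => ⟨(C.rr_q hner hV).to_le hB.1, hB.2.1⟩) hA₀le hA₀x (moved hne hU hA hAH hA1)
    ⟨hB₀le, hB₀x, moved hner hV hB hBH hB1⟩ hcomm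
  obtain ⟨R, rfl, hR⟩ := C.grow hner hne (Ne.symm hqr) hV hU hMV hZV
    (fun B => B = rr x U) (fun B hB => by
      subst hB
      exact ⟨C.rr_q hne hU, C.rr_comm hne hU⟩) hB'le hB'x hB'1 rfl
    (Subgroup.le_centralizer_iff.1 hUB')
  exact hR

theorem le_of_triv {H : Subgroup G} (hH : H ≠ ⊤) (hxH : x ∈ H) (ht : Triv p x H) {M : Subgroup G}
    (hM : IsTop p x M) : H ≤ M := by
  obtain ⟨q, hq, hne, U, hU, hMU⟩ := hM
  haveI : Fact q.Prime := ⟨hq⟩
  haveI := C.fact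
  obtain ⟨S, hS, hxS⟩ := exists_sylIn C.isPGroup
    (Subgroup.zpowers_le.2 (C.mem_xp hH (IsConj.refl x) hxH))
  refine (le_sup_normalizer hS).trans (sup_le ?_ ?_)
  · refine (iSup_le fun s => ?_).trans (C.cn_le_over hne hU hMU)
    exact Subgroup.commutator_eq_bot_iff_le_centralizer.1 (ht _ s.1.2 s.2.1)
  · exact inf_le_right.trans
      ((C.loc hne hU hMU).norm S hS.isP (hxS (Subgroup.mem_zpowers x)))

theorem le_of_meet (hne : q ≠ p) {U M H A : Subgroup G} (hU : Cl x q U) (hM : Over x U M)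
    (hH : H ≠ ⊤) (hxH : x ∈ H) (hA : A ≤ U) (hAH : A ≤ H) (hA1 : ⁅A, Subgroup.zpowers x⁆ ≠ ⊥) :
    H ≤ M := by
  haveI := C.fact
  obtain ⟨S, hS, hxS⟩ := exists_sylIn C.isPGroup
    (Subgroup.zpowers_le.2 (C.mem_xp hH (IsConj.refl x) hxH))
  refine (le_sup_normalizer hS).trans (sup_le ?_ ?_)
  · refine iSup_le fun s => ?_
    haveI : Fact (s.1 : ℕ).Prime := ⟨s.1.2⟩
    rw [← C.split s.2.1 isPGroup_oq (le_normalizer_oq hxH)]
    refine sup_le ?_ (inf_le_right.trans (C.cn_le_over hne hU hM))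
    by_cases h : ⁅oq (s.1 : ℕ) H, Subgroup.zpowers x⁆ = ⊥
    · exact h ▸ bot_le
    obtain ⟨V, hV, hle⟩ := C.exists_cl s.2.1 isPGroup_oq (le_normalizer_oq hxH) h
    refine hle.trans ?_
    have hB : ⁅oq (s.1 : ℕ) H, Subgroup.zpowers x⁆ ≤ H :=
      (Subgroup.le_normalizer_iff_commutator_le_left.1
        ((Subgroup.zpowers_le.2 hxH).trans le_normalizer_oq)).trans oq_le
    have hBV := hle.trans (C.rr_le s.2.1 hV)
    have hB1 : ⁅⁅oq (s.1 : ℕ) H, Subgroup.zpowers x⁆, Subgroup.zpowers x⁆ ≠ ⊥ := by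
      rw [C.comm_comm isPGroup_oq s.2.1 (le_normalizer_oq hxH)]
      exact h
    by_cases hsq : (s.1 : ℕ) = q
    · have hV' : Cl x q V := hsq ▸ hV
      have hB1' := hB1
      have hBV' := hBV
      rw [C.eq_of_meet hne hV' hU hH hxH hBV hB hB1 hA hAH hA1]
      exact C.rr_le_over hne hU hM
    · exact (C.rr_commute hne s.2.1 (Ne.symm hsq) hU hV hH hxH hA hAH hA1 hBV hB hB1).trans
        ((centralizer_le_normalizer_self _).trans hM.le)
  · exact inf_le_right.trans ((C.loc hne hU hM).norm S hS.isP (hxS (Subgroup.mem_zpowers x)))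

theorem isTop_of_moved {H : Subgroup G} (hH : H ≠ ⊤) (hxH : x ∈ H) (ht : ¬ Triv p x H) :
    ∃ M, IsTop p x M ∧ H ≤ M := by
  simp only [Triv, not_forall] at ht
  obtain ⟨t, ht1, ht2, ht3⟩ := ht
  haveI : Fact t.Prime := ⟨ht1⟩
  obtain ⟨V, hV, hle⟩ := C.exists_cl ht2 isPGroup_oq (le_normalizer_oq hxH) ht3
  obtain ⟨M, hM₁, hM₂⟩ := C.exists_maximal ht2 hV
  refine ⟨M, ⟨t, ht1, ht2, V, hV, hM₁, hM₂⟩, ?_⟩
  refine C.le_of_meet ht2 hV ⟨hM₁, hM₂⟩ hH hxH (A := ⁅oq t H, Subgroup.zpowers x⁆)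
    (hle.trans (C.rr_le ht2 hV))
    ((Subgroup.le_normalizer_iff_commutator_le_left.1
      ((Subgroup.zpowers_le.2 hxH).trans le_normalizer_oq)).trans oq_le) ?_
  rw [C.comm_comm isPGroup_oq ht2 (le_normalizer_oq hxH)]
  exact ht3

theorem exists_isTop : ∃ M, IsTop p x M := by
  by_contra h
  haveI := C.fact
  have htriv : ∀ g : G, ∀ H : Subgroup G, H ≠ ⊤ → g * x * g⁻¹ ∈ H →
      g * x * g⁻¹ ∈ oq p H := by
    intro g H hH hgH
    refine (C.conj g).mem_oq_self hH hgH fun t ht htp y hy => ?_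
    haveI : Fact t.Prime := ⟨ht⟩
    by_contra hc
    have hH' : cj g⁻¹ H ≠ ⊤ := cj_ne_top hH
    have hx' : x ∈ cj g⁻¹ H := mem_cj.2 (by simpa using hgH)
    by_cases htr : Triv p x (cj g⁻¹ H)
    · have h1 := Subgroup.commutator_eq_bot_iff_le_centralizer.1 (htr t ht htp)
      have h2 : g⁻¹ * y * g ∈ oq t (cj g⁻¹ H) := by
        rw [← oq_cj, mem_cj]
        simpa [mul_assoc] using hy
      have h3 : Commute x (g⁻¹ * y * g) := mem_cn.1 (h1 h2)
      have h4 := h3.map (MulAut.conj g)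
      exact hc (by simpa [mul_assoc] using h4)
    · obtain ⟨M, hM, -⟩ := C.isTop_of_moved hH' hx' htr
      exact h ⟨M, hM⟩
  have hpair : ∀ g : G, IsPGroup p ↥(Subgroup.closure ({x, g * x * g⁻¹} : Set G)) := by
    intro g
    set K := Subgroup.closure ({x, g * x * g⁻¹} : Set G) with hK
    have hxK : x ∈ K := Subgroup.subset_closure (Or.inl rfl)
    have h1 : x ∈ oq p K := by
      simpa using htriv 1 K (C.gen _) (by simpa using hxK)
    have h2 : g * x * g⁻¹ ∈ oq p K := htriv g K (C.gen _) (Subgroup.subset_closure (Or.inr rfl))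
    refine (isPGroup_oq (q := p) (H := K)).to_le ?_
    conv_lhs => rw [hK]
    rw [Subgroup.closure_le]
    exact Set.pair_subset h1 h2
  have hp := Involution.baer_suzuki_element x hpair
  have h1 : Subgroup.normalClosure ({x} : Set G) ≤ Cfsg.fittingSubgroup G :=
    Cores.le_fittingSubgroup Subgroup.normalClosure_normal hp.isNilpotent
  rw [C.fit] at h1
  exact C.ne_one (Subgroup.mem_bot.1 (h1 (Subgroup.subset_normalClosure rfl)))

theorem exists_isTop_ge {H : Subgroup G} (hH : H ≠ ⊤) (hxH : x ∈ H) : ∃ M, IsTop p x M ∧ H ≤ M := by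
  by_cases ht : Triv p x H
  · obtain ⟨M, hM⟩ := C.exists_isTop
    exact ⟨M, hM, C.le_of_triv hH hxH ht hM⟩
  · exact C.isTop_of_moved hH hxH ht

theorem isTop_facts {M : Subgroup G} (hM : IsTop p x M) : M ≠ ⊤ ∧ x ∈ M ∧ IsCoatom M := by
  obtain ⟨q, hq, hne, U, hU, hMU⟩ := hM
  haveI : Fact q.Prime := ⟨hq⟩
  exact ⟨hMU.coatom.1, C.mem_over hne hU hMU, hMU.coatom⟩

theorem inter_triv {M M' : Subgroup G} (hM : IsTop p x M) (hM' : IsTop p x M') (h : M ≠ M') :
    Triv p x (M ⊓ M') := by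
  obtain ⟨hMt, hxM, hMc⟩ := C.isTop_facts hM
  obtain ⟨hM't, hxM', hM'c⟩ := C.isTop_facts hM'
  intro t ht htp
  haveI : Fact t.Prime := ⟨ht⟩
  by_contra hne
  have hxI : x ∈ M ⊓ M' := ⟨hxM, hxM'⟩
  obtain ⟨V, hV, hle⟩ := C.exists_cl htp isPGroup_oq (le_normalizer_oq hxI) hne
  obtain ⟨MV, hMV₁, hMV₂⟩ := C.exists_maximal htp hV
  have hAV := hle.trans (C.rr_le htp hV)
  have hAI : ⁅oq t (M ⊓ M'), Subgroup.zpowers x⁆ ≤ M ⊓ M' :=
    (Subgroup.le_normalizer_iff_commutator_le_left.1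
      ((Subgroup.zpowers_le.2 hxI).trans le_normalizer_oq)).trans oq_le
  have hA1 : ⁅⁅oq t (M ⊓ M'), Subgroup.zpowers x⁆, Subgroup.zpowers x⁆ ≠ ⊥ := by
    rw [C.comm_comm isPGroup_oq htp (le_normalizer_oq hxI)]
    exact hne
  have key : ∀ L, IsCoatom L → x ∈ L → M ⊓ M' ≤ L → L = MV := fun L hL hxL hIL =>
    ((hL.le_iff.1 (C.le_of_meet htp hV ⟨hMV₁, hMV₂⟩ hL.1 hxL hAV (hAI.trans hIL) hA1)).resolve_left
      hMV₁.1).symm
  exact h ((key M hMc hxM inf_le_left).trans (key M' hM'c hxM' inf_le_right).symm)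

/-- The setting is impossible. -/
theorem «false» : False := by
  haveI := C.fact
  have hcover : ∀ g : G, ∃ M, IsTop p x M ∧ g ∈ M := fun g => by
    obtain ⟨M, hM, hle⟩ :=
      C.exists_isTop_ge (C.gen g) (Subgroup.subset_closure (Or.inl rfl))
    exact ⟨M, hM, hle (Subgroup.subset_closure (Or.inr rfl))⟩
  obtain ⟨M₁, hM₁⟩ := C.exists_isTop
  obtain ⟨g₂, -, hg₂⟩ : ∃ g : G, g ∈ (⊤ : Subgroup G) ∧ g ∉ M₁ := by
    by_contra h
    push Not at h
    exact (C.isTop_facts hM₁).1 (top_le_iff.1 h)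
  obtain ⟨M₂, hM₂, hg₂M⟩ := hcover g₂
  have h12 : M₁ ≠ M₂ := fun h => hg₂ (h ▸ hg₂M)
  set Λ := M₁ ⊓ M₂ with hΛ
  have hinter : ∀ {A B : Subgroup G}, IsTop p x A → IsTop p x B → A ≠ B → A ⊓ B = Λ := by
    intro A B hA hB hAB
    have le : ∀ {A B A' B' : Subgroup G}, IsTop p x A → IsTop p x B → A ≠ B →
        IsTop p x A' → IsTop p x B' → A ⊓ B ≤ A' ⊓ B' := by
      intro A B A' B' hA hB hAB hA' hB'
      obtain ⟨hAt, hxA, -⟩ := C.isTop_facts hA
      obtain ⟨-, hxB, -⟩ := C.isTop_facts hB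
      have hne : A ⊓ B ≠ ⊤ := fun h => hAt (top_le_iff.1 (h.ge.trans inf_le_left))
      exact le_inf (C.le_of_triv hne ⟨hxA, hxB⟩ (C.inter_triv hA hB hAB) hA')
        (C.le_of_triv hne ⟨hxA, hxB⟩ (C.inter_triv hA hB hAB) hB')
    exact le_antisymm (le hA hB hAB hM₁ hM₂) (le hM₁ hM₂ h12 hA hB)
  have hΛle : ∀ {A : Subgroup G}, IsTop p x A → Λ ≤ A := by
    intro A hA
    by_cases h : A = M₁
    · exact h ▸ inf_le_left
    · exact (hinter hA hM₁ h).ge.trans inf_le_left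
  have hxΛ : x ∈ Λ := ⟨(C.isTop_facts hM₁).2.1, (C.isTop_facts hM₂).2.1⟩
  have hΛtop : Λ ≠ ⊤ := fun h => (C.isTop_facts hM₁).1 (top_le_iff.1 (h.ge.trans inf_le_left))
  have hxO : x ∈ oq p Λ := C.mem_oq_self hΛtop hxΛ fun t ht htp y hy =>
    mem_cn.1 (Subgroup.commutator_eq_bot_iff_le_centralizer.1
      (C.inter_triv hM₁ hM₂ h12 t ht htp) hy)
  -- the core of `Λ` is trivial
  have hcore : Λ.normalCore = ⊥ := by
    by_contra hK
    set K := Λ.normalCore with hKdef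
    haveI : K.Normal := Subgroup.normalCore_normal Λ
    have hxC : x ∈ Subgroup.centralizer (K : Set G) := fun k hk => by
      have hk' : k ∈ Λ := Λ.normalCore_le hk
      have h1 : k * x * k⁻¹ * x⁻¹ ∈ oq p Λ ⊓ K := by
        refine ⟨(oq p Λ).mul_mem (le_normalizer_iff.1 le_normalizer_oq k hk' x hxO)
          ((oq p Λ).inv_mem hxO), ?_⟩
        rw [show k * x * k⁻¹ * x⁻¹ = k * (x * k⁻¹ * x⁻¹) by group]
        exact K.mul_mem hk ((inferInstance : K.Normal).conj_mem _ (K.inv_mem hk) x)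
      set P := oq p Λ ⊓ K
      have hPn : (P.subgroupOf K).Normal := Subgroup.normal_subgroupOf_of_le_normalizer
        (le_normalizer_inf ((Λ.normalCore_le).trans le_normalizer_oq) Subgroup.le_normalizer)
      have h2 : P ≤ Cfsg.pCore p G := by
        refine (subgroupOf_map_subtype (H := K) (X := P) inf_le_right).symm.le.trans ?_
        refine (Subgroup.map_mono (Cores.le_pCore hPn
          (((isPGroup_oq (q := p) (H := Λ)).to_le inf_le_left).comap_of_injective _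
            K.subtype_injective))).trans ((Cores.pCore_map_subtype K p).le.trans inf_le_left)
      have h3 := (Cores.pCore_le_fittingSubgroup p) (h2 h1)
      rw [C.fit, Subgroup.mem_bot, mul_inv_eq_one, mul_inv_eq_iff_eq_mul] at h3
      exact h3
    haveI : (Subgroup.centralizer (K : Set G)).Normal :=
      Subgroup.normalizer_eq_top_iff.1 (top_le_iff.1
        ((Subgroup.normalizer_eq_top K).ge.trans (le_normalizer_iff.2 fun a ha c hc s hs => by
          have h1 : a⁻¹ * s * a ∈ K := by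
            simpa using (inferInstance : K.Normal).conj_mem s hs a⁻¹
          calc s * (a * c * a⁻¹) = a * ((a⁻¹ * s * a) * c) * a⁻¹ := by group
            _ = a * (c * (a⁻¹ * s * a)) * a⁻¹ := by rw [hc _ h1]
            _ = _ := by group)))
    set Z := K ⊓ Subgroup.centralizer (K : Set G) with hZdef
    haveI : Z.Normal := inferInstance
    haveI : IsMulCommutative Z := ⟨⟨fun a b => Subtype.ext (b.2.2 a a.2.1)⟩⟩
    have hZ := C.meet K _ inferInstance inferInstance hK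
      (fun h => C.ne_one (Subgroup.mem_bot.1 (h ▸ hxC)))
    exact hZ (le_bot_iff.1 ((Cores.le_fittingSubgroup_of_isMulCommutative Z).trans C.fit.le))
  -- `Λ` is a Frobenius complement
  have aux : ∀ g c : G, g ∉ Λ → c ∈ Λ → g⁻¹ * c * g ∈ Λ → ∀ M, IsTop p x M → g ∈ M →
      ∀ h : G, h ∉ M → h⁻¹ * c * h ∈ Λ := by
    intro g c hg hc hc' M hM hgM h hh
    obtain ⟨A, hA, hhA⟩ := hcover h
    obtain ⟨B, hB, hgB⟩ := hcover (g⁻¹ * h)
    have hAB : A ≠ B := fun e => by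
      subst e
      have hgA : g ∈ A := by
        simpa using A.mul_mem hhA (A.inv_mem hgB)
      by_cases hAM : A = M
      · exact hh (hAM ▸ hhA)
      · exact hg ((hinter hA hM hAM).le ⟨hgA, hgM⟩)
    rw [← hinter hA hB hAB]
    refine ⟨A.mul_mem (A.mul_mem (A.inv_mem hhA) (hΛle hA hc)) hhA, ?_⟩
    have e : h⁻¹ * c * h = (g⁻¹ * h)⁻¹ * (g⁻¹ * c * g) * (g⁻¹ * h) := by group
    rw [e]
    exact B.mul_mem (B.mul_mem (B.inv_mem hgB) (hΛle hB hc')) hgB
  have hFrob : Cfsg.IsFrobeniusComplement Λ := by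
    refine ⟨fun h => C.ne_one (Subgroup.mem_bot.1 (h ▸ hxΛ)), hΛtop, fun g hg => ?_⟩
    rw [eq_bot_iff, ← hcore]
    rintro c ⟨hc, hcg⟩
    have hc' : g⁻¹ * c * g ∈ Λ := Coprime.mem_conj.1 hcg
    obtain ⟨M, hM, hgM⟩ := hcover g
    intro b
    by_cases hbΛ : b⁻¹ ∈ Λ
    · simpa using Λ.mul_mem (Λ.mul_mem (Λ.inv_mem hbΛ) hc) hbΛ
    suffices h : b⁻¹⁻¹ * c * b⁻¹ ∈ Λ by simpa using h
    by_cases hbM : b⁻¹ ∈ M
    · obtain ⟨g', -, hg'⟩ : ∃ g' : G, g' ∈ (⊤ : Subgroup G) ∧ g' ∉ M := by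
        by_contra h
        push Not at h
        exact (C.isTop_facts hM).1 (top_le_iff.1 h)
      obtain ⟨M', hM', hg'M⟩ := hcover g'
      have hMM : M ≠ M' := fun e => hg' (e ▸ hg'M)
      refine aux g' c (fun h => hg' (hΛle hM h)) hc (aux g c hg hc hc' M hM hgM g' hg') M' hM' hg'M
        _ fun h => hbΛ ?_
      rw [← hinter hM hM' hMM]
      exact ⟨hbM, h⟩
    · exact aux g c hg hc hc' M hM hgM _ hbM
  obtain ⟨N, hN, hNn, hNnil⟩ : ∃ N : Subgroup G, (N : Set G) = Cfsg.frobeniusKernel Λ ∧ N.Normal ∧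
      Group.IsNilpotent N := ⟨_, Frobenius.coe_frobKernel hFrob, Frobenius.frobKernel_normal hFrob,
    FPF.isNilpotent_frobKernel hFrob⟩
  obtain ⟨N', hN', -, hcompl⟩ := Frobenius.exists_kernel hFrob
  have hNN : N' = N := SetLike.coe_injective (hN'.trans hN.symm)
  have hNbot : N = ⊥ := le_bot_iff.1 ((Cores.le_fittingSubgroup hNn hNnil).trans C.fit.le)
  subst hNN
  subst hNbot
  exact hΛtop (Subgroup.isComplement'_bot_left.1 hcompl)

end Ctx

end Cfsg.Agent.SecondFitting
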