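import Cfsg.Agent.Lib.SecondFitting.Setting
import Cfsg.Agent.Lib.Cores.Frattini

/-!
# Flavell's second Fitting theorem: a minimal counterexample has `F(G) = 1`

* `mem_F2_of_le_frattini`, `mem_F2_of_split`, `fitting_eq_bot`
-/

set_option autoImplicit false
set_option linter.style.haveILetI false

namespace Cfsg.Agent.SecondFitting

open scoped Pointwise commutatorElement

universe u

variable {G : Type u} [Group G] [Finite G]

theorem mem_F2_of_le_frattini (N : Subgroup G) [N.Normal] (hN : N ≤ frattini G) {x : G}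
    (hx : (QuotientGroup.mk' N) x ∈ F2 (G ⧸ N)) : x ∈ F2 G := by
  set f := QuotientGroup.mk' N
  have hker : f.ker = N := QuotientGroup.ker_mk' N
  haveI : ((F2 (G ⧸ N)).comap f).Normal := F2_normal.comap f
  refine le_F2_of_res (X := (F2 (G ⧸ N)).comap f) ?_ hx
  refine Cores.isNilpotent_of_le_fittingSubgroup ?_
  have h1 : (FittingLength.res ((F2 (G ⧸ N)).comap f)).map f ≤
      (Cfsg.fittingSubgroup G).map f := by
    rw [FittingLength.map_res, Subgroup.map_comap_eq_self_of_surjective (QuotientGroup.mk'_surjective N),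
      Cores.fittingSubgroup_map_of_ker_le_frattini f (QuotientGroup.mk'_surjective N)
        (hker.le.trans hN)]
    refine Cores.le_fittingSubgroup ?_ isNilpotent_res_F2
    haveI : (F2 (G ⧸ N)).Normal := F2_normal
    have := FittingLength.normal_resIter (F2 (G ⧸ N)) 1
    rwa [FittingLength.resIter_succ, FittingLength.resIter_zero] at this
  rw [Subgroup.map_le_map_iff, hker] at h1
  exact h1.trans (sup_le le_rfl (hN.trans Cores.frattini_fittingSubgroup))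

theorem le_normalizer_centralizer {A S : Subgroup G} (h : A ≤ Subgroup.normalizer (S : Set G)) :
    A ≤ Subgroup.normalizer ((Subgroup.centralizer (S : Set G) : Subgroup G) : Set G) :=
  le_normalizer_iff.2 fun a ha c hc s hs => by
    have h1 : a⁻¹ * s * a ∈ S := by
      simpa using le_normalizer_iff.1 h a⁻¹ (A.inv_mem ha) s hs
    calc s * (a * c * a⁻¹) = a * ((a⁻¹ * s * a) * c) * a⁻¹ := by group
      _ = a * (c * (a⁻¹ * s * a)) * a⁻¹ := by rw [hc _ h1]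
      _ = _ := by group

theorem centralizes_of_trivial_action {Q N C₀ : Subgroup G}
    (hQN : Q ≤ Subgroup.normalizer (N : Set G)) (hQC : Q ≤ Subgroup.normalizer (C₀ : Set G))
    (hcop : (Nat.card Q).Coprime (Nat.card N)) (hsolv : Group.IsSolvable Q)
    (hC₀N : C₀ ≤ N) (hfix : N ⊓ Subgroup.centralizer (Q : Set G) ≤ C₀) {d : G} (hd : d ∈ N)
    (h : ∀ q ∈ Q, q * d * q⁻¹ * d⁻¹ ∈ C₀) : d ∈ C₀ := by
  obtain ⟨c, hc, hcd⟩ := Coprime.exists_mem_centralizer_of_coset hQN hcop (Or.inl hsolv) hC₀N hQC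
    hd h
  have : d = (c * d⁻¹)⁻¹ * c := by group
  rw [this]
  exact C₀.mul_mem (C₀.inv_mem hcd) (hfix ⟨hc.1, hc.2⟩)

/-- The case of a complemented self-centralising minimal normal subgroup. -/
theorem false_of_split {p r : ℕ} [Fact p.Prime] [Fact r.Prime] {x : G}
    (hhyp : ∀ y : G, x ∈ f2 (Subgroup.closure ({x, y} : Set G)))
    (hxp : IsPGroup p (Subgroup.zpowers x))
    {N M : Subgroup G} [N.Normal] (hNr : IsPGroup r N) (hab : ∀ a ∈ N, ∀ b ∈ N, a * b = b * a)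
    (hNM : N ⊓ M = ⊥) (hsup : N ⊔ M = ⊤) (hCM : M ⊓ Subgroup.centralizer (N : Set G) = ⊥)
    {n₀ h : G} (hn₀ : n₀ ∈ N) (hh : h ∈ M) (hx : x = n₀ * h)
    {q : ℕ} [Fact q.Prime] (hqp : q ≠ p) (hqr : q ≠ r) {v : G} (hv : v ∈ oq q M)
    (hne : ¬ Commute h v) : False := by
  classical
  have hNn : (⊤ : Subgroup G) ≤ Subgroup.normalizer (N : Set G) :=
    (Subgroup.normalizer_eq_top N).ge
  -- the projection to `M`
  have hdec : ∀ g : G, ∃ n ∈ N, ∃ m ∈ M, g = n * m := fun g => by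
    obtain ⟨n, hn, m, hm, e⟩ := Subgroup.mem_sup_of_normal_left.1 (hsup ▸ Subgroup.mem_top g : g ∈ N ⊔ M)
    exact ⟨n, hn, m, hm, e.symm⟩
  set f := QuotientGroup.mk' N with hf
  have hfN : ∀ n ∈ N, f n = 1 := fun n hn => (QuotientGroup.eq_one_iff n).2 hn
  have hinj : ∀ a ∈ M, ∀ b ∈ M, f a = f b → a = b := fun a ha b hb e => by
    have h1 : b⁻¹ * a ∈ N := by
      rw [← QuotientGroup.eq_one_iff]
      show f (b⁻¹ * a) = 1
      rw [map_mul, map_inv, e, inv_mul_cancel]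
    have h2 : b⁻¹ * a ∈ N ⊓ M := ⟨h1, M.mul_mem (M.inv_mem hb) ha⟩
    rw [hNM, Subgroup.mem_bot, inv_mul_eq_one] at h2
    exact h2.symm
  have hvM : v ∈ M := oq_le hv
  set e := v * h * v⁻¹ * h⁻¹ with he
  have he1 : e ≠ 1 := fun e1 => hne (by
    have h2 : v * h * v⁻¹ = h := mul_inv_eq_one.1 e1
    exact (mul_inv_eq_iff_eq_mul.1 h2).symm)
  set L := Subgroup.closure ({h, v} : Set G) with hL
  have hhL : h ∈ L := Subgroup.subset_closure (Or.inl rfl)
  have hvL : v ∈ L := Subgroup.subset_closure (Or.inr rfl)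
  have hLM : L ≤ M := by
    rw [hL, Subgroup.closure_le]
    rintro z (rfl | rfl)
    exacts [hh, hvM]
  have heL : e ∈ L := L.mul_mem (L.mul_mem (L.mul_mem hvL hhL) (L.inv_mem hvL)) (L.inv_mem hhL)
  set Q₁ := Subgroup.closure ((fun l => l * e * l⁻¹) '' (L : Set G)) with hQ₁
  have heQ : e ∈ Q₁ := Subgroup.subset_closure ⟨1, L.one_mem, by simp⟩
  have hQL : Q₁ ≤ L := by
    rw [hQ₁, Subgroup.closure_le]
    rintro _ ⟨l, hl, rfl⟩
    exact L.mul_mem (L.mul_mem hl heL) (L.inv_mem hl)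
  have hQq : IsPGroup q Q₁ := by
    refine (isPGroup_oq (q := q) (H := M)).to_le ?_
    rw [hQ₁, Subgroup.closure_le]
    rintro _ ⟨l, hl, rfl⟩
    refine le_normalizer_iff.1 le_normalizer_oq l (hLM hl) e ?_
    rw [show e = v * (h * v⁻¹ * h⁻¹) by rw [he]; group]
    exact (oq q M).mul_mem hv (le_normalizer_iff.1 le_normalizer_oq h hh _ ((oq q M).inv_mem hv))
  have hLQ : L ≤ Subgroup.normalizer (Q₁ : Set G) := fun l hl => by
    refine mem_normalizer_of_cj_le ?_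
    rw [hQ₁, cj, MonoidHom.map_closure, Subgroup.closure_le]
    rintro _ ⟨_, ⟨l', hl', rfl⟩, rfl⟩
    exact Subgroup.subset_closure ⟨l * l', L.mul_mem hl hl', by simp [mul_assoc]⟩
  set C₀ := N ⊓ Subgroup.centralizer (Q₁ : Set G) with hC₀
  have hLC : L ≤ Subgroup.normalizer (C₀ : Set G) :=
    le_normalizer_inf (le_top.trans hNn) (le_normalizer_centralizer hLQ)
  have hNC : N ≤ Subgroup.normalizer (C₀ : Set G) := le_normalizer_iff.2 fun n hn c hc => by
    rw [hab n hn c hc.1, mul_inv_cancel_right]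
    exact hc
  have hcop : (Nat.card Q₁).Coprime (Nat.card N) :=
    IsPGroup.coprime_card_of_ne q r hqr _ _ hQq hNr
  have hQsolv : Group.IsSolvable Q₁ := Coprime.isSolvable_of_isPGroup hQq
  have hcent : ∀ d ∈ N, (∀ g ∈ Q₁, g * d * g⁻¹ * d⁻¹ ∈ C₀) → d ∈ C₀ := fun d hd hfix =>
    centralizes_of_trivial_action (le_top.trans hNn) (hQL.trans hLC) hcop hQsolv inf_le_left
      le_rfl hd hfix
  -- the subgroups `⟨x, n v⟩ C₀`
  have hK : ∀ n ∈ N, ∃ m ∈ N, n₀ * (h * m * h⁻¹) * m⁻¹ ∈ C₀ ∧ n * (v * m * v⁻¹) * m⁻¹ ∈ C₀ := by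
    intro n hn
    set y := n * v with hy
    set K := Subgroup.closure ({x, y} : Set G) with hK
    have hxK : x ∈ K := Subgroup.subset_closure (Or.inl rfl)
    have hyK : y ∈ K := Subgroup.subset_closure (Or.inr rfl)
    have hfx : f x = f h := by rw [hx, map_mul, hfN _ hn₀, one_mul]
    have hfy : f y = f v := by rw [hy, map_mul, hfN _ hn, one_mul]
    have hKL : K.map f = L.map f := by
      rw [hK, hL, MonoidHom.map_closure, MonoidHom.map_closure, Set.image_pair, Set.image_pair,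
        hfx, hfy]
    set c := y * x * y⁻¹ * x⁻¹ with hc
    have hfc : f c = f e := by rw [hc, he]; simp only [map_mul, map_inv, hfx, hfy]
    have hxX : x ∈ xp p K := mem_xp_of_mem_f2 hxp (hhyp y)
    have hcX : c ∈ xp p K :=
      (xp p K).mul_mem (le_normalizer_iff.1 le_normalizer_xp y hyK x hxX) ((xp p K).inv_mem hxX)
    -- a `q`-power of `c` over `e`
    obtain ⟨e', he'X, he'q, hfe'⟩ : ∃ e', e' ∈ xp p K ∧ IsPGroup q (Subgroup.zpowers e') ∧
        f e' = f e := by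
      set m := ordCompl[q] (orderOf c) with hm
      obtain ⟨k, hk⟩ := IsPGroup.iff_card.1 (hQq.to_le (Subgroup.zpowers_le.2 heQ))
      rw [Nat.card_zpowers] at hk
      obtain ⟨j, hj⟩ := exists_pow_eq_self_of_coprime (x := e) (n := m)
        (hk ▸ (Nat.coprime_ordCompl (Fact.out : q.Prime) (orderOf_pos c).ne').symm.pow_right k)
      refine ⟨(c ^ m) ^ j, (xp p K).pow_mem ((xp p K).pow_mem hcX _) _, ?_, ?_⟩
      · have h2 : IsPGroup q (Subgroup.zpowers (c ^ m)) := by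
          refine IsPGroup.of_card (n := (orderOf c).factorization q) ?_
          rw [Nat.card_zpowers, orderOf_pow_of_dvd (Nat.ordCompl_pos q (orderOf_pos c).ne').ne'
            (Nat.ordCompl_dvd _ _)]
          refine Nat.div_eq_of_eq_mul_left (Nat.ordCompl_pos q (orderOf_pos c).ne') ?_
          exact (Nat.ordProj_mul_ordCompl_eq_self _ _).symm
        exact h2.to_le (Subgroup.zpowers_le.2 (Subgroup.pow_mem _ (Subgroup.mem_zpowers _) j))
      · rw [map_pow, map_pow, hfc, ← map_pow, ← map_pow, hj]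
    have he'O : e' ∈ oq q K :=
      le_oq_of_le_xp (Ne.symm hqp) he'q (Subgroup.zpowers_le.2 he'X) (Subgroup.mem_zpowers e')
    set W := K ⊓ N
    have hWO : W ≤ oq r K :=
      le_oq inf_le_left (le_normalizer_inf Subgroup.le_normalizer (le_top.trans hNn))
        (hNr.to_le inf_le_right)
    have hKC : W ≤ C₀ := by
      refine le_inf inf_le_right ?_
      rw [hQ₁, Subgroup.le_centralizer_iff, Subgroup.closure_le]
      rintro _ ⟨l, hl, rfl⟩ w hw
      obtain ⟨k, hk, hkl⟩ : f l ∈ K.map f := hKL.ge ⟨l, hl, rfl⟩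
      have hz : k * e' * k⁻¹ ∈ oq q K := le_normalizer_iff.1 le_normalizer_oq k hk e' he'O
      have h1 : k * e' * k⁻¹ * w = w * (k * e' * k⁻¹) := oq_commute hqr (hWO hw) _ hz
      have h2 : f (l * e * l⁻¹) = f (k * e' * k⁻¹) := by
        simp only [map_mul, map_inv, hkl, hfe']
      have h3 : (k * e' * k⁻¹) * (l * e * l⁻¹)⁻¹ ∈ N := by
        rw [← QuotientGroup.eq_one_iff]
        show f _ = 1
        rw [map_mul, map_inv, h2, mul_inv_cancel]
      set a := k * e' * k⁻¹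
      set b := l * e * l⁻¹
      show w * b = b * w
      calc w * b = (a * b⁻¹)⁻¹ * ((a * b⁻¹) * w) * b := by group
        _ = (a * b⁻¹)⁻¹ * (w * (a * b⁻¹)) * b := by rw [hab _ h3 _ hw.2]
        _ = (a * b⁻¹)⁻¹ * (w * a) := by group
        _ = (a * b⁻¹)⁻¹ * (a * w) := by rw [h1]
        _ = b * w := by group
    set K₁ := C₀ ⊔ K with hK₁
    have hKC0 : K ≤ Subgroup.normalizer (C₀ : Set G) := by
      rw [hK, Subgroup.closure_le]
      rintro z (rfl | rfl)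
      · rw [hx]; exact mul_mem (hNC hn₀) (hLC hhL)
      · exact mul_mem (hNC hn) (hLC hvL)
    have hK1N : K₁ ⊓ N ≤ C₀ := by
      rintro z ⟨hz, hzN⟩
      obtain ⟨c', hc', k, hk, rfl⟩ := (Coprime.mem_sup_iff hKC0).1 hz
      refine C₀.mul_mem hc' (hKC ⟨hk, ?_⟩)
      simpa using N.mul_mem (N.inv_mem hc'.1) hzN
    obtain ⟨m, hm, hmQ⟩ := Coprime.exists_conj_le_of_forall (A := Q₁) (le_top.trans hNn) hcop
      (Or.inl hQsolv) K₁ fun a ha => by
        obtain ⟨k, hk, hkl⟩ : f a ∈ K.map f := hKL.ge ⟨a, hQL ha, rfl⟩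
        refine ⟨k * a⁻¹, ?_, by simpa using (le_sup_right : K ≤ K₁) hk⟩
        rw [← QuotientGroup.eq_one_iff]
        show f _ = 1
        rw [map_mul, map_inv, hkl, mul_inv_cancel]
    have hmQ' : ∀ a ∈ Q₁, m * a * m⁻¹ ∈ K₁ := fun a ha => hmQ (Coprime.conj_mem_conj.2 ha)
    have key : ∀ a ∈ N, ∀ l ∈ L, a * l ∈ K → a * (l * m * l⁻¹) * m⁻¹ ∈ C₀ := by
      intro a ha l hl hal
      have hd : m⁻¹ * (a * (l * m * l⁻¹)) ∈ C₀ := by
        refine hcent _ (N.mul_mem (N.inv_mem hm)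
          (N.mul_mem ha (le_normalizer_iff.1 hNn l (Subgroup.mem_top l) m hm))) fun g hg => ?_
        set d := m⁻¹ * (a * (l * m * l⁻¹)) with hd
        have hg' : l⁻¹ * g * l ∈ Q₁ := by
          simpa using le_normalizer_iff.1 hLQ l⁻¹ (L.inv_mem hl) g hg
        have hA : (a * l) * (m * (l⁻¹ * g * l) * m⁻¹) * (a * l)⁻¹ ∈ K₁ :=
          K₁.mul_mem (K₁.mul_mem ((le_sup_right : K ≤ K₁) hal) (hmQ' _ hg'))
            (K₁.inv_mem ((le_sup_right : K ≤ K₁) hal))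
        have hB : m * g * m⁻¹ ∈ K₁ := hmQ' g hg
        have hdN : d ∈ N := N.mul_mem (N.inv_mem hm)
          (N.mul_mem ha (le_normalizer_iff.1 hNn l (Subgroup.mem_top l) m hm))
        have e1 : (a * l) * (m * (l⁻¹ * g * l) * m⁻¹) * (a * l)⁻¹ * (m * g * m⁻¹)⁻¹ =
            m * (d * g * d⁻¹ * g⁻¹) * m⁻¹ := by rw [hd]; group
        have h4 : d * g * d⁻¹ * g⁻¹ ∈ N := by
          rw [show d * g * d⁻¹ * g⁻¹ = d * (g * d⁻¹ * g⁻¹) by group]
          exact N.mul_mem hdN (le_normalizer_iff.1 hNn g (Subgroup.mem_top g) _ (N.inv_mem hdN))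
        have h5 : d * g * d⁻¹ * g⁻¹ ∈ C₀ := by
          refine hK1N ⟨?_, h4⟩
          have := K₁.mul_mem hA (K₁.inv_mem hB)
          rwa [e1, hab m hm _ h4, mul_inv_cancel_right] at this
        simpa [mul_assoc] using C₀.inv_mem h5
      have h6 : m⁻¹ * (a * (l * m * l⁻¹)) = a * (l * m * l⁻¹) * m⁻¹ :=
        hab _ (N.inv_mem hm) _ (N.mul_mem ha (le_normalizer_iff.1 hNn l (Subgroup.mem_top l) m hm))
      rwa [h6] at hd
    exact ⟨m, hm, key n₀ hn₀ h hhL (hx ▸ hxK), key n hn v hvL hyK⟩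
  -- every element of `N / C₀` occurs
  choose μ hμN hμh hμv using hK
  haveI : (C₀.subgroupOf N).Normal := Subgroup.normal_subgroupOf_of_le_normalizer hNC
  set π := QuotientGroup.mk' (C₀.subgroupOf N) with hπ
  have hπeq : ∀ a b : N, π a = π b ↔ (a : G) * (b : G)⁻¹ ∈ C₀ := fun a b => by
    rw [← mul_inv_eq_one, ← map_inv, ← map_mul]
    exact QuotientGroup.eq_one_iff _
  have hcjC : ∀ l ∈ L, ∀ c ∈ C₀, l * c * l⁻¹ ∈ C₀ := le_normalizer_iff.1 hLC
  let g : N ⧸ C₀.subgroupOf N → N ⧸ C₀.subgroupOf N := fun a =>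
    π ⟨μ a.out a.out.2, hμN _ _⟩
  have hginj : Function.Injective g := by
    intro a b hab'
    rw [← a.out_eq', ← b.out_eq']
    refine (hπeq _ _).2 ?_
    have hm := (hπeq _ _).1 hab'
    have h1 := hμv a.out a.out.2
    have h2 := hμv b.out b.out.2
    have hmv := hcjC v hvL _ hm
    set n₁ := (a.out : G)
    set n₂ := (b.out : G)
    set m₁ := μ n₁ a.out.2
    set m₂ := μ n₂ b.out.2
    have hm₁ : m₁ ∈ N := hμN _ _
    have hm₂ : m₂ ∈ N := hμN _ _
    have cv : ∀ z ∈ N, v * z * v⁻¹ ∈ N := fun z hz =>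
      le_normalizer_iff.1 hNn v (Subgroup.mem_top v) z hz
    have hu₁ : v * m₁ * v⁻¹ * m₁⁻¹ ∈ N := N.mul_mem (cv _ hm₁) (N.inv_mem hm₁)
    have hu₂ : v * m₂ * v⁻¹ * m₂⁻¹ ∈ N := N.mul_mem (cv _ hm₂) (N.inv_mem hm₂)
    have h3 : (v * m₂ * v⁻¹ * m₂⁻¹)⁻¹ * (v * m₁ * v⁻¹ * m₁⁻¹) ∈ C₀ := by
      have e2 : (v * m₂ * v⁻¹ * m₂⁻¹)⁻¹ * (v * m₁ * v⁻¹ * m₁⁻¹) =
          (v * (m₁ * m₂⁻¹) * v⁻¹) * (m₁ * m₂⁻¹)⁻¹ := by
        have hc1 := hab _ (N.inv_mem hu₂) _ hu₁
        have hc2 := hab (v * m₂⁻¹ * v⁻¹) (cv _ (N.inv_mem hm₂)) _ (N.inv_mem hm₁)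
        have hc3 := hab _ hm₂ _ (N.mul_mem (cv _ (N.inv_mem hm₂)) (N.inv_mem hm₁))
        rw [hc1]
        calc v * m₁ * v⁻¹ * m₁⁻¹ * (v * m₂ * v⁻¹ * m₂⁻¹)⁻¹
            = v * m₁ * v⁻¹ * (m₁⁻¹ * m₂ * (v * m₂⁻¹ * v⁻¹)) := by group
          _ = v * m₁ * v⁻¹ * ((v * m₂⁻¹ * v⁻¹) * (m₁⁻¹ * m₂)) := by
                rw [hab (m₁⁻¹ * m₂) (N.mul_mem (N.inv_mem hm₁) hm₂) _ (cv _ (N.inv_mem hm₂))]
          _ = v * m₁ * v⁻¹ * ((v * m₂⁻¹ * v⁻¹) * (m₂ * m₁⁻¹)) := by
                rw [hab m₁⁻¹ (N.inv_mem hm₁) m₂ hm₂]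
          _ = _ := by group
      rw [e2]
      exact C₀.mul_mem hmv (C₀.inv_mem hm)
    have h4 := C₀.mul_mem (C₀.mul_mem (show n₁ * (v * m₁ * v⁻¹ * m₁⁻¹) ∈ C₀ by
      simpa [mul_assoc] using h1) (C₀.inv_mem h3)) (C₀.inv_mem (show n₂ * (v * m₂ * v⁻¹ * m₂⁻¹) ∈ C₀ by
      simpa [mul_assoc] using h2))
    simpa [mul_assoc] using h4
  have hall : ∀ d ∈ N, n₀ * (h * d * h⁻¹) * d⁻¹ ∈ C₀ := by
    intro d hd
    obtain ⟨a, ha⟩ := Finite.injective_iff_surjective.1 hginj (π ⟨d, hd⟩)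
    have hc := (hπeq _ _).1 ha
    have h1 := hμh a.out a.out.2
    set m := μ (a.out : G) a.out.2
    have hmN : m ∈ N := hμN _ _
    have hs : m * d⁻¹ ∈ C₀ := hc
    have ch : ∀ z ∈ N, h * z * h⁻¹ ∈ N := fun z hz =>
      le_normalizer_iff.1 hNn h (Subgroup.mem_top h) z hz
    have e2 : n₀ * (h * d * h⁻¹) * d⁻¹ =
        n₀ * (h * m * h⁻¹) * m⁻¹ * ((h * (m * d⁻¹) * h⁻¹)⁻¹ * (m * d⁻¹)) := by
      calc n₀ * (h * d * h⁻¹) * d⁻¹
          = n₀ * (h * m * h⁻¹) * ((h * (m⁻¹ * d) * h⁻¹) * d⁻¹) := by group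
        _ = n₀ * (h * m * h⁻¹) * ((h * (d * m⁻¹) * h⁻¹) * (m⁻¹ * (m * d⁻¹))) := by
            rw [hab m⁻¹ (N.inv_mem hmN) d hd]; group
        _ = n₀ * (h * m * h⁻¹) * (m⁻¹ * (h * (d * m⁻¹) * h⁻¹) * (m * d⁻¹)) := by
            rw [← mul_assoc (h * (d * m⁻¹) * h⁻¹),
              hab _ (ch _ (N.mul_mem hd (N.inv_mem hmN))) _ (N.inv_mem hmN)]
        _ = _ := by group
    rw [e2]
    exact C₀.mul_mem h1 (C₀.mul_mem (C₀.inv_mem (hcjC h hhL _ hs)) hs)
  have hn₀C : n₀ ∈ C₀ := by simpa using hall 1 N.one_mem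
  have htriv : ∀ d ∈ N, h * d * h⁻¹ * d⁻¹ ∈ C₀ := fun d hd => by
    simpa [mul_assoc] using C₀.mul_mem (C₀.inv_mem hn₀C) (hall d hd)
  let L₀ : Subgroup G :=
    { carrier := {g | g ∈ Subgroup.normalizer (C₀ : Set G) ∧ ∀ d ∈ N, g * d * g⁻¹ * d⁻¹ ∈ C₀}
      one_mem' := ⟨one_mem _, fun d _ => by simp⟩
      mul_mem' := fun {a b} ha hb => ⟨mul_mem ha.1 hb.1, fun d hd => by
        have h1 := (Subgroup.mem_normalizer_iff.1 ha.1 _).1 (hb.2 d hd)
        simpa [mul_assoc] using C₀.mul_mem h1 (ha.2 d hd)⟩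
      inv_mem' := fun {a} ha => ⟨inv_mem ha.1, fun d hd => by
        have h1 := (Subgroup.mem_normalizer_iff.1 (inv_mem ha.1) _).1 (C₀.inv_mem (ha.2 d hd))
        simpa [mul_assoc] using h1⟩ }
  have hconj : ∀ l ∈ L, ∀ g ∈ L₀, l * g * l⁻¹ ∈ L₀ := fun l hl g hg =>
    ⟨mul_mem (mul_mem (hLC hl) hg.1) (inv_mem (hLC hl)), fun d hd => by
      have h1 := hcjC l hl _ (hg.2 (l⁻¹ * d * l) (by
        simpa using le_normalizer_iff.1 hNn l⁻¹ (Subgroup.mem_top _) d hd))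
      simpa [mul_assoc] using h1⟩
  have hhL₀ : h ∈ L₀ := ⟨hLC hhL, htriv⟩
  have heL₀ : e ∈ L₀ := L₀.mul_mem (hconj v hvL h hhL₀) (L₀.inv_mem hhL₀)
  have hQL₀ : Q₁ ≤ L₀ := by
    rw [hQ₁, Subgroup.closure_le]
    rintro _ ⟨l, hl, rfl⟩
    exact hconj l hl e heL₀
  have hNC₀ : N ≤ Subgroup.centralizer (Q₁ : Set G) := fun d hd =>
    (hcent d hd fun g hg => (hQL₀ hg).2 d hd).2
  refine he1 (Subgroup.mem_bot.1 (hCM ▸ ?_ : e ∈ (⊥ : Subgroup G)))
  exact ⟨hLM heL, fun d hd => (hNC₀ hd e heQ).symm⟩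

/-- A minimal counterexample has trivial Fitting subgroup. -/
theorem fitting_eq_bot {p : ℕ} [Fact p.Prime] {x : G} (hxp : IsPGroup p (Subgroup.zpowers x))
    (hhyp : ∀ y : G, x ∈ f2 (Subgroup.closure ({x, y} : Set G)))
    (hquot : ∀ (N : Subgroup G) [N.Normal], N ≠ ⊥ → (QuotientGroup.mk' N) x ∈ F2 (G ⧸ N))
    (hmeet : ∀ N₁ N₂ : Subgroup G, N₁.Normal → N₂.Normal → N₁ ≠ ⊥ → N₂ ≠ ⊥ → N₁ ⊓ N₂ ≠ ⊥)
    (hnot : x ∉ F2 G) : Cfsg.fittingSubgroup G = ⊥ := by
  by_contra hF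
  obtain ⟨N, hNn, hNF, hN1, hNmin⟩ := FittingLength.exists_minimal_normal hF
  haveI := hNn
  have hnilN : Group.IsNilpotent N := Cores.isNilpotent_of_le_fittingSubgroup hNF
  obtain ⟨hab, r, hr, -, hNr⟩ :=
    FittingLength.minimal_normal_abelian_pgroup hN1 inferInstance hNmin
  haveI : Fact r.Prime := ⟨hr⟩
  by_cases hΦ : N ≤ frattini G
  · exact hnot (mem_F2_of_le_frattini N hΦ (hquot N hN1))
  obtain ⟨M, hM, hNM⟩ : ∃ M : Subgroup G, IsCoatom M ∧ ¬ N ≤ M := by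
    by_contra hcon
    push Not at hcon
    exact hΦ (Cores.le_frattini hcon)
  have hsup : N ⊔ M = ⊤ := hM.2 _ (lt_of_le_of_ne le_sup_right fun h => hNM (h ▸ le_sup_left))
  have hMN : M ≤ Subgroup.normalizer (N : Set G) := le_top.trans (Subgroup.normalizer_eq_top N).ge
  have hnorm : ∀ S : Subgroup G, M ≤ Subgroup.normalizer (S : Set G) →
      N ≤ Subgroup.normalizer (S : Set G) → S.Normal := fun S h1 h2 =>
    Subgroup.normalizer_eq_top_iff.1 (top_le_iff.1 (hsup.ge.trans (sup_le h2 h1)))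
  have hNMn : (N ⊓ M).Normal := hnorm _ (le_normalizer_inf hMN Subgroup.le_normalizer)
    (le_normalizer_iff.2 fun n hn z hz => by
      rw [hab n hn z hz.1, mul_inv_cancel_right]; exact hz)
  have hbot : N ⊓ M = ⊥ := by
    by_contra h
    exact hNM (inf_eq_left.1 (hNmin _ hNMn inf_le_left h))
  have hCM : M ⊓ Subgroup.centralizer (N : Set G) = ⊥ := by
    by_contra h
    refine hmeet N _ hNn (hnorm _ (le_normalizer_inf Subgroup.le_normalizer
      (le_normalizer_centralizer hMN)) ?_) hN1 h ?_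
    · refine le_normalizer_iff.2 fun n hn z hz => ?_
      rw [hz.2 n hn, mul_inv_cancel_right]; exact hz
    · exact le_bot_iff.1 (hbot ▸ inf_le_inf_left N inf_le_left)
  have hdec : ∀ g : G, ∃ n ∈ N, ∃ m ∈ M, g = n * m := fun g => by
    obtain ⟨n, hn, m, hm, e⟩ := Subgroup.mem_sup_of_normal_left.1 (hsup ▸ Subgroup.mem_top g : g ∈ N ⊔ M)
    exact ⟨n, hn, m, hm, e.symm⟩
  have hFN : Cfsg.fittingSubgroup G ≤ N := fun g hg => by
    obtain ⟨n, hn, m, hm, rfl⟩ := hdec g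
    have hc := Cores.fitting_le_centralizer_minimalNormal N (fun K hK hKN => by
      by_cases hK1 : K = ⊥
      · exact Or.inl hK1
      · exact Or.inr (hNmin K hK hKN hK1)) hg
    have hm2 : m ∈ M ⊓ Subgroup.centralizer (N : Set G) := ⟨hm, fun d hd => by
      have h1 := hc d hd
      calc d * m = n⁻¹ * (n * d * m) := by group
        _ = n⁻¹ * (d * n * m) := by rw [hab n hn d hd]
        _ = n⁻¹ * (n * m * d) := by rw [mul_assoc d n m, h1]
        _ = _ := by group⟩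
    rw [hCM, Subgroup.mem_bot] at hm2
    rw [hm2, mul_one]
    exact hn
  -- `M` is a copy of `G / N`
  set f := QuotientGroup.mk' N
  let φ : M ≃* G ⧸ N := MulEquiv.ofBijective (f.comp M.subtype)
    ⟨(MonoidHom.ker_eq_bot_iff _).1 (by
      rw [← MonoidHom.comap_ker, QuotientGroup.ker_mk', ← Subgroup.subgroupOf,
        Subgroup.subgroupOf_eq_bot, disjoint_iff, hbot]),
    fun z => by
      obtain ⟨g, rfl⟩ := QuotientGroup.mk'_surjective N z
      obtain ⟨n, hn, m, hm, rfl⟩ := hdec g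
      exact ⟨⟨m, hm⟩, by
        show f m = f (n * m)
        rw [map_mul, show f n = 1 from (QuotientGroup.eq_one_iff n).2 hn, one_mul]⟩⟩
  set π : G →* G := (M.subtype.comp φ.symm.toMonoidHom).comp f with hπ
  have hπm : ∀ n ∈ N, ∀ m ∈ M, π (n * m) = m := fun n hn m hm => by
    have h1 : f (n * m) = φ ⟨m, hm⟩ := by
      show f (n * m) = f m
      rw [map_mul, show f n = 1 from (QuotientGroup.eq_one_iff n).2 hn, one_mul]
    show ((φ.symm (f (n * m)) : M) : G) = m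
    rw [h1, MulEquiv.symm_apply_apply]
  obtain ⟨n₀, hn₀, h, hh, hx⟩ := hdec x
  have hhf2 : h ∈ f2 M := by
    have h1 := f2_map (M.subtype.comp φ.symm.toMonoidHom) (mem_f2_top_iff.2 (hquot N hN1))
    rw [← MonoidHom.range_eq_map, MonoidHom.range_comp,
      MonoidHom.range_eq_top.2 φ.symm.surjective, ← MonoidHom.range_eq_map,
      Subgroup.range_subtype] at h1
    have h2 : (M.subtype.comp φ.symm.toMonoidHom) (f x) = h := by
      show π x = h
      rw [hx, hπm n₀ hn₀ h hh]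
    rwa [← h2]
  have hhp : IsPGroup p (Subgroup.zpowers h) := by
    rw [show h = π x by rw [hx, hπm n₀ hn₀ h hh], ← MonoidHom.map_zpowers]
    exact hxp.map π
  have hrM : oq r M = ⊥ := by
    have hn2 : (N ⊔ oq r M).Normal := hnorm _ (le_normalizer_sup hMN le_normalizer_oq)
      (le_sup_left.trans Subgroup.le_normalizer)
    have h1 : N ⊔ oq r M ≤ Cfsg.fittingSubgroup G :=
      (Cores.le_pCore hn2 (hNr.to_sup_of_normal_left isPGroup_oq)).trans
        (Cores.pCore_le_fittingSubgroup r)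
    exact le_bot_iff.1 (hbot ▸ le_inf (le_sup_right.trans (h1.trans hFN)) oq_le)
  obtain ⟨q, hq, hqp, v, hv, hne⟩ : ∃ q, q.Prime ∧ q ≠ p ∧ ∃ v ∈ oq q M, ¬ Commute h v := by
    by_contra hcon
    push Not at hcon
    have hhO : h ∈ oq p M := mem_oq_self_of_commute hhp (mem_xp_of_mem_f2 hhp hhf2)
      fun q hq hqp y hy => hcon q hq hqp y hy
    have hX : ((oq p M).comap π).Normal := ⟨fun z hz g => by
      have hgM : π g ∈ M := by
        obtain ⟨n, hn, m, hm, rfl⟩ := hdec g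
        rw [hπm n hn m hm]; exact hm
      show π (g * z * g⁻¹) ∈ oq p M
      rw [map_mul, map_mul, map_inv]
      exact le_normalizer_iff.1 le_normalizer_oq _ hgM _ hz⟩
    refine hnot (le_F2_of_res (X := (oq p M).comap π) ?_ (show π x ∈ oq p M by
      rw [hx, hπm n₀ hn₀ h hh]; exact hhO))
    have h1 : (FittingLength.res ((oq p M).comap π)).map π = ⊥ := by
      rw [FittingLength.map_res]
      exact res_eq_bot_of_isNilpotent
        (Cores.isNilpotent_of_le (Subgroup.map_comap_le _ _) isPGroup_oq.isNilpotent)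
    rw [Subgroup.map_eq_bot_iff] at h1
    refine Cores.isNilpotent_of_le (h1.trans fun z hz => ?_) hnilN
    obtain ⟨n, hn, m, hm, rfl⟩ := hdec z
    rw [MonoidHom.mem_ker, hπm n hn m hm] at hz
    rw [hz, mul_one]
    exact hn
  haveI : Fact q.Prime := ⟨hq⟩
  have hqr : q ≠ r := fun e => by
    rw [e, hrM, Subgroup.mem_bot] at hv
    exact hne (hv ▸ Commute.one_right h)
  exact false_of_split hhyp hxp hNr hab hbot hsup hCM hn₀ hh hx hqp hqr hv hne

end Cfsg.Agent.SecondFitting
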