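import Cfsg.Agent.Lib.SecondFitting.Setting
import Cfsg.Agent.Lib.Coprime.Generation
import Cfsg.Agent.Lib.Cores.Frattini

/-!
# Fixed points of a four group on an odd-order nilpotent group it moves

If `E = ⟨x, u⟩` is generated by commuting involutions, `S` a `q`-group (`q` odd) with `[S, E] = S`,
then `C_S(E)` is generated by the `C_{[C_S(e), E]}(E)`, `e ∈ {x, u, xu}`: `four_fix`.
-/

set_option autoImplicit false
set_option linter.style.haveILetI false
set_option linter.unusedSectionVars false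

namespace Cfsg.Agent.SecondFitting

open scoped Pointwise commutatorElement

universe u

variable {G : Type u} [Group G] [Finite G]

/-- `C_[C_S(e), E](E)`. -/
def lfix (S E : Subgroup G) (e : G) : Subgroup G :=
  ⁅S ⊓ Subgroup.centralizer ({e} : Set G), E⁆ ⊓ Subgroup.centralizer (E : Set G)

/-- The pairs `(e, f)` of distinct elements of `{x, u, xu}`. -/
def Pair (x u e f : G) : Prop :=
  (e = x ∧ f = u) ∨ (e = x ∧ f = x * u) ∨ (e = u ∧ f = x) ∨ (e = u ∧ f = x * u) ∨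
    (e = x * u ∧ f = x) ∨ (e = x * u ∧ f = u)

/-- An element of `S` fixed by `e` and inverted by `f`. -/
def IsLine (x u : G) (S : Subgroup G) (s : G) : Prop :=
  s ∈ S ∧ ∃ e f : G, Pair x u e f ∧ e * s * e⁻¹ = s ∧ f * s * f⁻¹ = s⁻¹

theorem mem_of_sq_mem {H : Subgroup G} {a : G} (ha : Odd (orderOf a)) (h : a ^ 2 ∈ H) : a ∈ H := by
  obtain ⟨m, hm⟩ := exists_pow_eq_self_of_coprime (x := a) (n := 2) (by
    rw [Nat.coprime_two_left]; exact ha)
  exact hm ▸ H.pow_mem h m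

theorem odd_orderOf {q : ℕ} [hq : Fact q.Prime] (hq2 : q ≠ 2) {S : Subgroup G} (hS : IsPGroup q S)
    {a : G} (ha : a ∈ S) : Odd (orderOf a) := by
  obtain ⟨n, hn⟩ := IsPGroup.iff_orderOf.1 hS ⟨a, ha⟩
  rw [← Subgroup.orderOf_mk a ha, hn]
  exact (hq.out.odd_of_ne_two hq2).pow

variable {x u : G} {E S : Subgroup G} {q : ℕ}

/-- The hypotheses on the four group and the group it acts on. -/
structure FourData (x u : G) (E S : Subgroup G) (q : ℕ) : Prop where
  qprime : q.Prime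
  q2 : q ≠ 2
  x2 : x * x = 1
  u2 : u * u = 1
  comm : Commute x u
  gen : E = Subgroup.closure {x, u}
  two : IsPGroup 2 E
  Sq : IsPGroup q S
  norm : E ≤ Subgroup.normalizer (S : Set G)
  moved : ⁅S, E⁆ = S

namespace FourData

variable (D : FourData x u E S q)

include D

theorem xmem : x ∈ E := by rw [D.gen]; exact Subgroup.subset_closure (Or.inl rfl)

theorem umem : u ∈ E := by rw [D.gen]; exact Subgroup.subset_closure (Or.inr rfl)

theorem pair_mem {e f : G} (h : Pair x u e f) : e ∈ E ∧ f ∈ E := by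
  have h3 : x * u ∈ E := E.mul_mem D.xmem D.umem
  rcases h with ⟨rfl, rfl⟩ | ⟨rfl, rfl⟩ | ⟨rfl, rfl⟩ | ⟨rfl, rfl⟩ | ⟨rfl, rfl⟩ | ⟨rfl, rfl⟩
  exacts [⟨D.xmem, D.umem⟩, ⟨D.xmem, h3⟩, ⟨D.umem, D.xmem⟩, ⟨D.umem, h3⟩, ⟨h3, D.xmem⟩,
    ⟨h3, D.umem⟩]

theorem sq_eq {e : G} (he : e = x ∨ e = u ∨ e = x * u) : e * e = 1 := by
  rcases he with rfl | rfl | rfl
  exacts [D.x2, D.u2, by rw [mul_assoc, ← mul_assoc u x u, D.comm.symm.eq, mul_assoc x u u, D.u2, mul_one, D.x2]]

theorem pair_sq {e f : G} (h : Pair x u e f) : e * e = 1 ∧ f * f = 1 := by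
  rcases h with ⟨rfl, rfl⟩ | ⟨rfl, rfl⟩ | ⟨rfl, rfl⟩ | ⟨rfl, rfl⟩ | ⟨rfl, rfl⟩ | ⟨rfl, rfl⟩ <;>
    exact ⟨D.sq_eq (by tauto), D.sq_eq (by tauto)⟩

theorem ecomm {a b : G} (ha : a ∈ E) (hb : b ∈ E) : Commute a b := by
  rw [D.gen] at ha hb
  have h1 : ∀ g ∈ ({x, u} : Set G), ∀ h ∈ ({x, u} : Set G), Commute g h := by
    rintro g (rfl | rfl) h (rfl | rfl)
    exacts [Commute.refl _, D.comm, D.comm.symm, Commute.refl _]
  have h2 : Subgroup.closure ({x, u} : Set G) ≤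
      Subgroup.centralizer (Subgroup.closure ({x, u} : Set G) : Set G) := by
    rw [Subgroup.closure_le]
    intro g hg
    rw [SetLike.mem_coe, Subgroup.mem_centralizer_iff]
    intro k hk
    induction hk using Subgroup.closure_induction with
    | mem k hk => exact h1 k hk g hg
    | one => simp
    | mul k l _ _ hk hl => exact (Commute.mul_left hk hl)
    | inv k _ hk => exact Commute.inv_left hk
  exact (Subgroup.mem_centralizer_iff.1 (h2 hb) a ha)

theorem pair_gen {e f : G} (h : Pair x u e f) : x ∈ Subgroup.closure {e, f} ∧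
    u ∈ Subgroup.closure ({e, f} : Set G) := by
  have he : e ∈ Subgroup.closure ({e, f} : Set G) := Subgroup.subset_closure (Or.inl rfl)
  have hf : f ∈ Subgroup.closure ({e, f} : Set G) := Subgroup.subset_closure (Or.inr rfl)
  have hef := Subgroup.mul_mem _ he hf
  have hfe := Subgroup.mul_mem _ hf he
  rcases h with ⟨rfl, rfl⟩ | ⟨rfl, rfl⟩ | ⟨rfl, rfl⟩ | ⟨rfl, rfl⟩ | ⟨rfl, rfl⟩ | ⟨rfl, rfl⟩
  · exact ⟨he, hf⟩
  · exact ⟨he, by rwa [← mul_assoc, D.x2, one_mul] at hef⟩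
  · exact ⟨hf, he⟩
  · exact ⟨by rwa [mul_assoc, D.u2, mul_one] at hfe, he⟩
  · exact ⟨hf, by rwa [← mul_assoc, D.x2, one_mul] at hfe⟩
  · exact ⟨by rwa [mul_assoc, D.u2, mul_one] at hef, hf⟩

theorem centralizes_of_pair {e f : G} (h : Pair x u e f) {z : G} (he : Commute e z)
    (hf : Commute f z) : z ∈ Subgroup.centralizer (E : Set G) := by
  have h1 : Subgroup.closure ({e, f} : Set G) ≤ Subgroup.centralizer ({z} : Set G) := by
    rw [Subgroup.closure_le]
    rintro g (rfl | rfl)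
    exacts [Subgroup.mem_centralizer_singleton_iff.2 he.eq,
      Subgroup.mem_centralizer_singleton_iff.2 hf.eq]
  have h2 : E ≤ Subgroup.centralizer ({z} : Set G) := by
    rw [D.gen, Subgroup.closure_le]
    rintro g (rfl | rfl)
    exacts [h1 (D.pair_gen h).1, h1 (D.pair_gen h).2]
  exact fun g hg => Subgroup.mem_centralizer_singleton_iff.1 (h2 hg)

theorem lcs_norm (k : ℕ) : E ≤ Subgroup.normalizer (S.lowerCentralSeries k : Set G) ∧
    S ≤ Subgroup.normalizer (S.lowerCentralSeries k : Set G) := by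
  induction k with
  | zero => exact ⟨D.norm, Subgroup.le_normalizer⟩
  | succ k ih =>
    exact ⟨le_normalizer_comm ih.1 D.norm, le_normalizer_comm ih.2 Subgroup.le_normalizer⟩

theorem lcs_le (k : ℕ) : S.lowerCentralSeries k ≤ S :=
  (S.lowerCentralSeries_antitone (Nat.zero_le k)).trans le_rfl

theorem coprime_zpowers {e : G} (he : e * e = 1) {K : Subgroup G} (hK : K ≤ S) :
    (Nat.card (Subgroup.zpowers e)).Coprime (Nat.card K) := by
  haveI : Fact q.Prime := ⟨D.qprime⟩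
  haveI : Fact (Nat.Prime 2) := ⟨Nat.prime_two⟩
  obtain ⟨n, hn⟩ := IsPGroup.iff_card.1 (D.Sq.to_le hK)
  rw [Nat.card_zpowers, hn]
  refine Nat.Coprime.pow_right n (Nat.Coprime.coprime_dvd_left (orderOf_dvd_of_pow_eq_one
    (n := 2) (by rw [pow_two, he])) ?_)
  exact (Nat.coprime_primes Nat.prime_two D.qprime).2 (Ne.symm D.q2)

theorem line_mem {e f s : G} (h : Pair x u e f) (hs : s ∈ S) (he : e * s * e⁻¹ = s)
    (hf : f * s * f⁻¹ = s⁻¹) : s ∈ ⁅S ⊓ Subgroup.centralizer ({e} : Set G), E⁆ := by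
  haveI : Fact q.Prime := ⟨D.qprime⟩
  refine mem_of_sq_mem (odd_orderOf D.q2 D.Sq hs) ?_
  have h1 : ⁅s, f⁆ ∈ ⁅S ⊓ Subgroup.centralizer ({e} : Set G), E⁆ :=
    Subgroup.commutator_mem_commutator ⟨hs, Subgroup.mem_centralizer_singleton_iff.2
      (mul_inv_eq_iff_eq_mul.1 he).symm⟩ (D.pair_mem h).2
  have h2 : ⁅s, f⁆ = s ^ 2 := by
    have : f * s⁻¹ * f⁻¹ = s := by
      calc f * s⁻¹ * f⁻¹ = (f * s * f⁻¹)⁻¹ := by group
        _ = s := by rw [hf, inv_inv]
    rw [commutatorElement_def, show s * f * s⁻¹ * f⁻¹ = s * (f * s⁻¹ * f⁻¹) by group, this, pow_two]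
  rwa [h2] at h1

/-- The product of the four images lands in the fixed line parts, on `γ_{k+1}` modulo `γ_{k+2}`. -/
theorem step (hlines : S ≤ Subgroup.closure {s | IsLine x u S s}) {W : Subgroup G}
    (hW : ∀ e, e = x ∨ e = u ∨ e = x * u → lfix S E e ≤ W) (k : ℕ) :
    S.lowerCentralSeries (k + 1) ⊓ Subgroup.centralizer (E : Set G) ≤
      W ⊔ S.lowerCentralSeries (k + 2) := by
  classical
  haveI : Fact q.Prime := ⟨D.qprime⟩
  set A' := S.lowerCentralSeries k with hA'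
  set A := S.lowerCentralSeries (k + 1) with hA
  set N := S.lowerCentralSeries (k + 2) with hN
  have hA'S : A' ≤ S := D.lcs_le k
  have hAS : A ≤ S := D.lcs_le (k + 1)
  have hNA : N ≤ A := S.lowerCentralSeries_antitone (Nat.le_succ _)
  have hA'A : ∀ t ∈ A', ∀ s ∈ S, ⁅t, s⁆ ∈ A := fun t ht s hs =>
    Subgroup.commutator_mem_commutator ht hs
  have hAN : ∀ a ∈ A, ∀ s ∈ S, ⁅a, s⁆ ∈ N := fun a ha s hs =>
    Subgroup.commutator_mem_commutator ha hs
  have hSN : S ≤ Subgroup.normalizer (N : Set G) := (D.lcs_norm _).2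
  haveI : (N.subgroupOf A).Normal :=
    Subgroup.normal_subgroupOf_of_le_normalizer (hAS.trans hSN)
  let π : A →* A ⧸ N.subgroupOf A := QuotientGroup.mk' (N.subgroupOf A)
  have hπone : ∀ a : A, (a : G) ∈ N → π a = 1 := fun a ha =>
    (QuotientGroup.eq_one_iff a).2 ha
  have hcommQ : ∀ a b : A ⧸ N.subgroupOf A, a * b = b * a := by
    intro a b
    obtain ⟨a, rfl⟩ := QuotientGroup.mk'_surjective _ a
    obtain ⟨b, rfl⟩ := QuotientGroup.mk'_surjective _ b
    rw [← commutatorElement_eq_one_iff_mul_comm, ← map_commutatorElement]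
    exact hπone _ (hAN _ a.2 _ (hAS b.2))
  letI : CommGroup (A ⧸ N.subgroupOf A) :=
    { (inferInstance : Group (A ⧸ N.subgroupOf A)) with mul_comm := hcommQ }
  have hEA : E ≤ Subgroup.normalizer (A : Set G) := (D.lcs_norm _).1
  have hEA' : E ≤ Subgroup.normalizer (A' : Set G) := (D.lcs_norm _).1
  -- conjugation maps
  let c : G → (A →* A ⧸ N.subgroupOf A) := fun g =>
    if hg : g ∈ Subgroup.normalizer (A : Set G) then
      π.comp (A.normalizerMonoidHom ⟨g, hg⟩).toMonoidHom else π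
  have hc : ∀ g (hg : g ∈ Subgroup.normalizer (A : Set G)) (a : A),
      c g a = π ⟨g * a * g⁻¹, (Subgroup.mem_normalizer_iff.1 hg a).1 a.2⟩ := fun g hg a => by
    simp only [c, dif_pos hg]
    rfl
  set Φ : A →* A ⧸ N.subgroupOf A := π * c x * c u * c (x * u) with hΦ
  have hΦ' : ∀ e f, Pair x u e f → ∀ a, Φ a = π a * c e a * c f a * c (e * f) a := by
    intro e f h a
    rw [hΦ]
    simp only [MonoidHom.mul_apply]
    rcases h with ⟨he, hf⟩ | ⟨he, hf⟩ | ⟨he, hf⟩ | ⟨he, hf⟩ | ⟨he, hf⟩ | ⟨he, hf⟩ <;> rw [he, hf]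
    · rw [← mul_assoc x x u, D.x2, one_mul]; ac_rfl
    · rw [D.comm.symm.eq]; ac_rfl
    · rw [← mul_assoc u x u, D.comm.symm.eq, mul_assoc x u u, D.u2, mul_one]; ac_rfl
    · rw [mul_assoc x u x, D.comm.symm.eq, ← mul_assoc x x u, D.x2, one_mul]; ac_rfl
    · rw [mul_assoc x u u, D.u2, mul_one]; ac_rfl
  set B : Subgroup A := ((W.subgroupOf A).map π).comap Φ with hB
  -- commutators with a line element
  have hgen : ∀ t ∈ A', ∀ s, IsLine x u S s → ∀ hts : ⁅t, s⁆ ∈ A, (⟨⁅t, s⁆, hts⟩ : A) ∈ B := by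
    rintro t ht s ⟨hs, e, f, hef, hse, hsf⟩ hts
    obtain ⟨heE, hfE⟩ := D.pair_mem hef
    obtain ⟨he2, hf2⟩ := D.pair_sq hef
    have hei : e⁻¹ = e := inv_eq_of_mul_eq_one_left he2
    have hfi : f⁻¹ = f := inv_eq_of_mul_eq_one_left hf2
    have conjA' : ∀ g ∈ E, ∀ a ∈ A', g * a * g⁻¹ ∈ A' := le_normalizer_iff.1 hEA'
    -- the classes of `[a, s]`
    let ψ : ∀ a, a ∈ A' → A ⧸ N.subgroupOf A := fun a ha => π ⟨⁅a, s⁆, hA'A a ha s hs⟩
    have hψmul : ∀ a b (ha : a ∈ A') (hb : b ∈ A'),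
        ψ (a * b) (A'.mul_mem ha hb) = ψ a ha * ψ b hb := by
      intro a b ha hb
      have hn := hA'A b hb s hs
      have hz : ⁅a, ⁅b, s⁆⁆ ∈ N := by
        rw [← commutatorElement_inv]
        exact N.inv_mem (hAN _ hn a (hA'S ha))
      have : (⟨⁅a * b, s⁆, hA'A _ (A'.mul_mem ha hb) s hs⟩ : A) =
          ⟨⁅a, ⁅b, s⁆⁆, hNA hz⟩ * ⟨⁅b, s⁆, hn⟩ * ⟨⁅a, s⁆, hA'A a ha s hs⟩ :=
        Subtype.ext (by
          simp only [Subgroup.coe_mul, commutatorElement_def]; group)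
      show π _ = _
      rw [this, map_mul, map_mul, hπone _ hz, one_mul, mul_comm]
    have hψneg : ∀ a (ha : a ∈ A') (h : ⁅a, s⁻¹⁆ ∈ A), π ⟨⁅a, s⁻¹⁆, h⟩ = (ψ a ha)⁻¹ := by
      intro a ha h
      have hn := hA'A a ha s hs
      have hz : ⁅s⁻¹, ⁅a, s⁆⁻¹⁆ ∈ N := by
        rw [← commutatorElement_inv]
        exact N.inv_mem (hAN _ (A.inv_mem hn) _ (S.inv_mem hs))
      have : (⟨⁅a, s⁻¹⁆, h⟩ : A) = ⟨⁅s⁻¹, ⁅a, s⁆⁻¹⁆, hNA hz⟩ * ⟨⁅a, s⁆, hn⟩⁻¹ :=
        Subtype.ext (by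
          simp only [Subgroup.coe_mul, Subgroup.coe_inv, commutatorElement_def]; group)
      rw [this, map_mul, map_inv, hπone _ hz, one_mul]
    have hce : ∀ a (ha : a ∈ A'), c e ⟨⁅a, s⁆, hA'A a ha s hs⟩ =
        ψ (e * a * e⁻¹) (conjA' e heE a ha) := by
      intro a ha
      rw [hc e (hEA heE)]
      refine congrArg π (Subtype.ext ?_)
      show e * ⁅a, s⁆ * e⁻¹ = ⁅e * a * e⁻¹, s⁆
      rw [conjugate_commutatorElement, hse]
    have hcf : ∀ a (ha : a ∈ A'), c f ⟨⁅a, s⁆, hA'A a ha s hs⟩ =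
        (ψ (f * a * f⁻¹) (conjA' f hfE a ha))⁻¹ := by
      intro a ha
      have h1 : ⁅f * a * f⁻¹, s⁻¹⁆ ∈ A := hA'A _ (conjA' f hfE a ha) _ (S.inv_mem hs)
      rw [hc f (hEA hfE), ← hψneg _ (conjA' f hfE a ha) h1]
      refine congrArg π (Subtype.ext ?_)
      show f * ⁅a, s⁆ * f⁻¹ = ⁅f * a * f⁻¹, s⁻¹⁆
      rw [conjugate_commutatorElement, hsf]
    -- an `e`-fixed element congruent to `t t^e`
    set t₀ := t * (e * t * e⁻¹) with ht₀
    have ht₀A : t₀ ∈ A' := A'.mul_mem ht (conjA' e heE t ht)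
    have hAA' : A ≤ A' := S.lowerCentralSeries_antitone (Nat.le_succ k)
    obtain ⟨t₁, ⟨ht₁A, ht₁e⟩, ht₁⟩ := Coprime.exists_mem_centralizer_of_coset
      (A := Subgroup.zpowers e) (K := A') (N := A)
      (Subgroup.zpowers_le.2 (hEA' heE)) (D.coprime_zpowers he2 hA'S)
      (Or.inl (Group.isSolvable_of_comm fun a b => mul_comm' a b)) hAA'
      (Subgroup.zpowers_le.2 (hEA heE)) ht₀A fun g hg => by
        obtain ⟨i, rfl⟩ := mem_powers_iff_mem_zpowers.mpr hg
        dsimp only at hg ⊢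
        rcases Nat.even_or_odd i with ⟨j, rfl⟩ | ⟨j, rfl⟩
        · rw [← two_mul, pow_mul, pow_two, he2, one_pow]
          simp
        · rw [pow_succ, pow_mul, pow_two, he2, one_pow, one_mul]
          have e1 : e * t₀ * e⁻¹ * t₀⁻¹ = ⁅e * t * e⁻¹, t⁆ := by
            rw [ht₀, commutatorElement_def, hei]
            calc e * (t * (e * t * e)) * e * (t * (e * t * e))⁻¹
                = (e * t * e) * t * (e * e) * (t * (e * t * e))⁻¹ := by group
              _ = (e * t * e) * t * (t * (e * t * e))⁻¹ := by rw [he2, mul_one]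
              _ = _ := by group
          rw [e1]
          exact hA'A _ (conjA' e heE t ht) _ (hA'S ht)
    have ht₁e' : Commute e t₁ :=
      FlavellGen.commute_of_mem_centralizer ht₁e
    have hψA : ∀ a (ha : a ∈ A') (_ : a ∈ A), ψ a ha = 1 := fun a ha haA =>
      hπone _ (hAN a haA s hs)
    have hψt : ψ t₁ ht₁A = ψ t ht * ψ (e * t * e⁻¹) (conjA' e heE t ht) := by
      have h1 := hψmul _ _ (hAA' ht₁) ht₀A
      rw [hψA _ (hAA' ht₁) ht₁, one_mul, hψmul _ _ ht (conjA' e heE t ht)] at h1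
      rw [← h1]
      exact congrArg π (Subtype.ext (by simp))
    set a₁ := f * t₁ * f⁻¹ with ha₁
    have ha₁A : a₁ ∈ A' := conjA' f hfE t₁ ht₁A
    set t₂ := t₁ * a₁⁻¹ with ht₂
    have ht₂A : t₂ ∈ A' := A'.mul_mem ht₁A (A'.inv_mem ha₁A)
    have ht₂e : e * t₂ * e⁻¹ = t₂ := by
      have h1 : Commute e t₂ :=
        ht₁e'.mul_right (Commute.inv_right (((D.ecomm heE hfE).mul_right ht₁e').mul_right
          (D.ecomm heE hfE).inv_right))
      rw [h1.eq, mul_inv_cancel_right]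
    have ht₂f : f * t₂ * f⁻¹ = t₂⁻¹ := by
      rw [ht₂, ha₁, hfi]
      calc f * (t₁ * (f * t₁ * f)⁻¹) * f
          = f * t₁ * f⁻¹ * t₁⁻¹ * (f⁻¹ * f) := by group
        _ = f * t₁ * f * t₁⁻¹ := by rw [hfi, hf2, mul_one]
        _ = _ := by group
    have hψ₂ : ψ t₂ ht₂A = ψ t₁ ht₁A * (ψ a₁ ha₁A)⁻¹ := by
      rw [eq_mul_inv_iff_mul_eq, ← hψmul _ _ ht₂A ha₁A]
      exact congrArg π (Subtype.ext (by simp [ht₂]))
    have hΦv : Φ ⟨⁅t, s⁆, hts⟩ = ψ t₂ ht₂A := by
      rw [hΦ' e f hef, hce t ht, hcf t ht, hψ₂]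
      have h1 : c (e * f) ⟨⁅t, s⁆, hts⟩ =
          (ψ (f * (e * t * e⁻¹) * f⁻¹) (conjA' f hfE _ (conjA' e heE t ht)))⁻¹ := by
        rw [← hcf _ (conjA' e heE t ht), hc (e * f) (hEA (E.mul_mem heE hfE)), hc f (hEA hfE)]
        refine congrArg π (Subtype.ext ?_)
        show e * f * ⁅t, s⁆ * (e * f)⁻¹ = f * ⁅e * t * e⁻¹, s⁆ * f⁻¹
        have h2 : ⁅e * t * e⁻¹, s⁆ = e * ⁅t, s⁆ * e⁻¹ := by
          rw [conjugate_commutatorElement, hse]
        rw [h2, (D.ecomm heE hfE).eq]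
        group
      rw [h1]
      have h3 : ψ a₁ ha₁A = ψ (f * t * f⁻¹) (conjA' f hfE t ht) *
          ψ (f * (e * t * e⁻¹) * f⁻¹) (conjA' f hfE _ (conjA' e heE t ht)) := by
        have h4 := hψmul _ _ (conjA' f hfE _ (hAA' ht₁)) (conjA' f hfE t₀ ht₀A)
        rw [hψA _ (conjA' f hfE _ (hAA' ht₁)) (le_normalizer_iff.1 hEA f hfE _ ht₁), one_mul] at h4
        rw [← hψmul _ _ (conjA' f hfE t ht) (conjA' f hfE _ (conjA' e heE t ht))]
        have h5 : π ⟨⁅a₁, s⁆, hA'A _ ha₁A s hs⟩ =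
            ψ (f * (t₁ * t₀⁻¹) * f⁻¹ * (f * t₀ * f⁻¹))
              (A'.mul_mem (conjA' f hfE _ (hAA' ht₁)) (conjA' f hfE t₀ ht₀A)) :=
          congrArg π (Subtype.ext (by simp [ha₁, mul_assoc]))
        refine h5.trans (h4.trans (congrArg π (Subtype.ext ?_)))
        simp [ht₀, mul_assoc]
      rw [h3, hψt]
      simp only [mul_inv, mul_assoc]
      rfl
    -- exact fixed representative
    have hn : ⁅t₂, s⁆ ∈ A := hA'A _ ht₂A s hs
    set L := ⁅S ⊓ Subgroup.centralizer ({e} : Set G), E⁆ with hL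
    have hnL : ⁅t₂, s⁆ ∈ L :=
      Subgroup.commutator_le.1 (Subgroup.le_normalizer_iff_commutator_le_left.1 Subgroup.le_normalizer)
        _ (D.line_mem hef (hA'S ht₂A) ht₂e ht₂f) _ (D.line_mem hef hs hse hsf)
    have hne : Commute e ⁅t₂, s⁆ := by
      have h1 : e * ⁅t₂, s⁆ * e⁻¹ = ⁅t₂, s⁆ := by rw [conjugate_commutatorElement, ht₂e, hse]
      exact mul_inv_eq_iff_eq_mul.1 h1
    set K := L ⊓ A ⊓ Subgroup.centralizer ({e} : Set G) with hK
    have hfK : f ∈ Subgroup.normalizer (K : Set G) := by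
      refine le_normalizer_inf (A := E) (le_normalizer_inf
        (le_normalizer_comm (le_normalizer_inf D.norm (le_normalizer_iff.2 fun a ha z hz => ?_))
          Subgroup.le_normalizer) hEA) (le_normalizer_iff.2 fun a ha z hz => ?_) hfE
      all_goals
        rw [Subgroup.mem_centralizer_singleton_iff] at hz ⊢
        exact (((D.ecomm heE ha).mul_right hz.symm).mul_right
          (D.ecomm heE ha).inv_right).eq.symm
    obtain ⟨d, ⟨hdK, hdf⟩, hd⟩ := Coprime.exists_mem_centralizer_of_coset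
      (A := Subgroup.zpowers f) (K := K) (N := K ⊓ N)
      (Subgroup.zpowers_le.2 hfK) (D.coprime_zpowers hf2 ((inf_le_left.trans inf_le_right).trans hAS))
      (Or.inl (Group.isSolvable_of_comm fun a b => mul_comm' a b)) inf_le_left
      (Subgroup.zpowers_le.2 (le_normalizer_inf (A := Subgroup.zpowers f)
        (Subgroup.zpowers_le.2 hfK) (Subgroup.zpowers_le.2 ((D.lcs_norm _).1 hfE))
          (Subgroup.mem_zpowers f)))
      (k := ⁅t₂, s⁆) ⟨⟨hnL, hn⟩, Subgroup.mem_centralizer_singleton_iff.2 hne.eq.symm⟩ fun g hg => by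
        obtain ⟨i, rfl⟩ := mem_powers_iff_mem_zpowers.mpr hg
        dsimp only at hg ⊢
        rcases Nat.even_or_odd i with ⟨j, rfl⟩ | ⟨j, rfl⟩
        · rw [← two_mul, pow_mul, pow_two, hf2, one_pow, one_mul, inv_one, mul_one, mul_inv_cancel]
          exact one_mem _
        · rw [pow_succ, pow_mul, pow_two, hf2, one_pow, one_mul]
          have hmemK : ⁅t₂, s⁆ ∈ K :=
            ⟨⟨hnL, hn⟩, Subgroup.mem_centralizer_singleton_iff.2 hne.eq.symm⟩
          refine ⟨K.mul_mem ((Subgroup.mem_normalizer_iff.1 hfK _).1 hmemK) (K.inv_mem hmemK), ?_⟩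
          have h1 : ⁅t₂⁻¹, s⁻¹⁆ ∈ A := hA'A _ (A'.inv_mem ht₂A) _ (S.inv_mem hs)
          have h2 : π ⟨⁅t₂⁻¹, s⁻¹⁆, h1⟩ = ψ t₂ ht₂A := by
            rw [hψneg _ (A'.inv_mem ht₂A) h1, inv_eq_iff_mul_eq_one,
              ← hψmul _ _ (A'.inv_mem ht₂A) ht₂A]
            exact (congrArg π (Subtype.ext (by simp))).trans (map_one π)
          rw [conjugate_commutatorElement, ht₂f, hsf]
          have h3 := (QuotientGroup.eq_one_iff (N := N.subgroupOf A)
            ((⟨⁅t₂⁻¹, s⁻¹⁆, h1⟩ : A) * ⟨⁅t₂, s⁆, hn⟩⁻¹)).1 (by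
              show π _ = 1
              rw [map_mul, map_inv, h2, mul_inv_cancel])
          exact h3
    refine ⟨⟨d, hdK.1.2⟩, hW e ?_ ⟨hdK.1.1, D.centralizes_of_pair hef
      (Subgroup.mem_centralizer_singleton_iff.1 hdK.2).symm
      (FlavellGen.commute_of_mem_centralizer hdf)⟩, ?_⟩
    · rcases hef with ⟨rfl, -⟩ | ⟨rfl, -⟩ | ⟨rfl, -⟩ | ⟨rfl, -⟩ | ⟨rfl, -⟩ | ⟨rfl, -⟩ <;> tauto
    · rw [hΦv]
      exact mul_inv_eq_one.1 (((map_mul π _ _).trans
        (congrArg (π ⟨d, hdK.1.2⟩ * ·) (map_inv π ⟨⁅t₂, s⁆, hn⟩))).symm.trans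
          (hπone _ (by simpa using hd.2)))
  have hNB : ∀ a : A, (a : G) ∈ N → a ∈ B := fun a ha => by
    have hgN : ∀ g ∈ E, g * (a : G) * g⁻¹ ∈ N := fun g hg =>
      le_normalizer_iff.1 (D.lcs_norm _).1 g hg _ ha
    show Φ a ∈ (W.subgroupOf A).map π
    rw [hΦ, MonoidHom.mul_apply, MonoidHom.mul_apply, MonoidHom.mul_apply,
      hc x (hEA D.xmem), hc u (hEA D.umem), hc (x * u) (hEA (E.mul_mem D.xmem D.umem)),
      hπone _ ha, hπone _ (hgN x D.xmem), hπone _ (hgN u D.umem),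
      hπone _ (hgN _ (E.mul_mem D.xmem D.umem))]
    simp
  have hAB : A ≤ B.map A.subtype := by
    show ⁅A', S⁆ ≤ _
    rw [Subgroup.commutator_le]
    intro t ht s hs
    suffices ∀ t ∈ A', ∀ hts : ⁅t, s⁆ ∈ A, (⟨⁅t, s⁆, hts⟩ : A) ∈ B from
      ⟨⟨⁅t, s⁆, hA'A t ht s hs⟩, this t ht _, rfl⟩
    clear ht t
    have hs' := hlines hs
    clear hs
    have hLS : Subgroup.closure {s | IsLine x u S s} ≤ S :=
      (Subgroup.closure_le _).2 fun s hs => hs.1
    induction hs' using Subgroup.closure_induction with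
    | mem s hs => exact fun t ht hts => hgen t ht s hs hts
    | one =>
      intro t _ hts
      rw [show (⟨⁅t, 1⁆, hts⟩ : A) = 1 from Subtype.ext (commutatorElement_one_right t)]
      exact one_mem _
    | mul a b ha hb iha ihb =>
      intro t ht hts
      have haS := hLS ha
      have hbS := hLS hb
      have h1 := hA'A t ht a haS
      have h2 := hA'A t ht b hbS
      have h3 : ⁅a, ⁅t, b⁆⁆ ∈ N := by
        rw [← commutatorElement_inv]
        exact N.inv_mem (hAN _ h2 a haS)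
      rw [show (⟨⁅t, a * b⁆, hts⟩ : A) = ⟨⁅t, a⁆, h1⟩ * ⟨⁅a, ⁅t, b⁆⁆, hNA h3⟩ * ⟨⁅t, b⁆, h2⟩ from
        Subtype.ext (by simp only [Subgroup.coe_mul, commutatorElement_def]; group)]
      exact B.mul_mem (B.mul_mem (iha t ht h1) (hNB _ h3)) (ihb t ht h2)
    | inv a ha iha =>
      intro t ht hts
      have haS := hLS ha
      have h1 := hA'A t ht a haS
      have h3 : ⁅a⁻¹, ⁅t, a⁆⁻¹⁆ ∈ N := by
        rw [← commutatorElement_inv]
        exact N.inv_mem (hAN _ (A.inv_mem h1) _ (S.inv_mem haS))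
      rw [show (⟨⁅t, a⁻¹⁆, hts⟩ : A) = ⟨⁅a⁻¹, ⁅t, a⁆⁻¹⁆, hNA h3⟩ * ⟨⁅t, a⁆, h1⟩⁻¹ from
        Subtype.ext (by
          simp only [Subgroup.coe_mul, Subgroup.coe_inv, commutatorElement_def]; group)]
      exact B.mul_mem (hNB _ h3) (B.inv_mem (iha t ht h1))
  rintro z ⟨hz, hzE⟩
  obtain ⟨b, hb, hbz⟩ := hAB hz
  have hb' : b = ⟨z, hz⟩ := Subtype.ext hbz
  rw [hb'] at hb
  have hfix : ∀ g ∈ E, ∀ hg : g ∈ Subgroup.normalizer (A : Set G), c g ⟨z, hz⟩ = π ⟨z, hz⟩ :=
    fun g hgE hg => by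
      rw [hc g hg]
      refine congrArg π (Subtype.ext ?_)
      show g * z * g⁻¹ = z
      rw [hzE g hgE, mul_inv_cancel_right]
  have h4 : Φ ⟨z, hz⟩ = π (⟨z, hz⟩ ^ (2 * 2)) := by
    rw [hΦ]
    simp only [MonoidHom.mul_apply]
    rw [hfix x D.xmem (hEA D.xmem), hfix u D.umem (hEA D.umem),
      hfix (x * u) (E.mul_mem D.xmem D.umem) (hEA (E.mul_mem D.xmem D.umem)), map_pow]
    simp [pow_succ]
  have hodd := odd_orderOf D.q2 D.Sq (hAS hz)
  refine mem_of_sq_mem hodd (mem_of_sq_mem (odd_orderOf D.q2 D.Sq (S.pow_mem (hAS hz) 2)) ?_)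
  rw [← pow_mul]
  obtain ⟨w, hw, hwz⟩ : Φ ⟨z, hz⟩ ∈ (W.subgroupOf A).map π := hb
  rw [h4] at hwz
  have h5 : w⁻¹ * (⟨z, hz⟩ : A) ^ (2 * 2) ∈ N.subgroupOf A := by
    rw [← QuotientGroup.eq_one_iff]
    show π _ = 1
    rw [map_mul, map_inv, hwz, inv_mul_cancel]
  have h6 := Subgroup.mul_mem_sup (show (w : G) ∈ W from hw) (show _ ∈ N from h5)
  simpa [mul_assoc] using h6

theorem inf_centralizer_le_derived :
    S ⊓ Subgroup.centralizer (E : Set G) ≤ ⁅S, S⁆ := by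
  classical
  haveI : Fact q.Prime := ⟨D.qprime⟩
  haveI : ((⁅S, S⁆).subgroupOf S).Normal :=
    Subgroup.normal_subgroupOf_of_le_normalizer
      (le_normalizer_comm Subgroup.le_normalizer Subgroup.le_normalizer)
  let π : S →* S ⧸ (⁅S, S⁆).subgroupOf S := QuotientGroup.mk' _
  have hcommQ : ∀ a b : S ⧸ (⁅S, S⁆).subgroupOf S, a * b = b * a := by
    intro a b
    obtain ⟨a, rfl⟩ := QuotientGroup.mk'_surjective _ a
    obtain ⟨b, rfl⟩ := QuotientGroup.mk'_surjective _ b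
    rw [← commutatorElement_eq_one_iff_mul_comm, ← map_commutatorElement]
    exact (QuotientGroup.eq_one_iff _).2 (Subgroup.commutator_mem_commutator a.2 b.2)
  letI : CommGroup (S ⧸ (⁅S, S⁆).subgroupOf S) :=
    { (inferInstance : Group (S ⧸ (⁅S, S⁆).subgroupOf S)) with mul_comm := hcommQ }
  let σ : E → (S →* S) := fun g => (S.normalizerMonoidHom ⟨g, D.norm g.2⟩).toMonoidHom
  have hσ : ∀ (g : E) (a : S), ((σ g a : S) : G) = g * a * (g : G)⁻¹ := fun g a => rfl
  set gx : E := ⟨x, D.xmem⟩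
  set gu : E := ⟨u, D.umem⟩
  set gw : E := ⟨x * u, E.mul_mem D.xmem D.umem⟩
  set Φ : S →* S ⧸ (⁅S, S⁆).subgroupOf S :=
    π * π.comp (σ gx) * π.comp (σ gu) * π.comp (σ gw) with hΦ
  have hσσ : ∀ (g h : E) (a : S), σ g (σ h a) = σ (g * h) a := fun g h a =>
    Subtype.ext (by simp [hσ, mul_assoc])
  have hσone : ∀ a : S, σ 1 a = a := fun a => Subtype.ext (by simp [hσ])
  have hinv : ∀ g : E, (g = gx ∨ g = gu) → ∀ a : S, Φ (σ g a) = Φ a := by
    have e1 : gx * gx = 1 := Subtype.ext D.x2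
    have e2 : gu * gu = 1 := Subtype.ext D.u2
    have e3 : gx * gu = gw := rfl
    have e4 : gu * gx = gw := Subtype.ext D.comm.symm.eq
    have e5 : gw * gx = gu := by rw [← e4, mul_assoc, e1, mul_one]
    have e6 : gw * gu = gx := by rw [← e3, mul_assoc, e2, mul_one]
    intro g hg a
    rw [hΦ]
    simp only [MonoidHom.mul_apply, MonoidHom.comp_apply, hσσ]
    rcases hg with rfl | rfl
    · rw [e1, e4, e5, hσone]
      generalize π a = a₀, π (σ gx a) = a₁, π (σ gu a) = a₂, π (σ gw a) = a₃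
      exact (by rw [hcommQ a₁ a₀, mul_assoc (a₀ * a₁), hcommQ a₃ a₂, ← mul_assoc] :
        a₁ * a₀ * a₃ * a₂ = a₀ * a₁ * a₂ * a₃)
    · rw [e2, e3, e6, hσone]
      generalize π a = a₀, π (σ gx a) = a₁, π (σ gu a) = a₂, π (σ gw a) = a₃
      exact (by rw [mul_assoc, hcommQ (a₂ * a₃), ← mul_assoc] :
        a₂ * a₃ * a₀ * a₁ = a₀ * a₁ * a₂ * a₃)
  have hker : ∀ s ∈ S, ∀ h : s ∈ S, Φ ⟨s, h⟩ = 1 := by
    have hle : ⁅S, E⁆ ≤ (Φ.ker).map S.subtype := by
      conv_lhs => rw [D.gen]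
      refine commutator_closure_le ?_ ?_
      · intro g hg
        refine Coprime.mem_normalizer_of_forall ?_
        rintro _ ⟨a, ha, rfl⟩
        have hgE : g ∈ E := by rw [D.gen]; exact Subgroup.subset_closure hg
        refine ⟨σ ⟨g, hgE⟩ a, ?_, rfl⟩
        show Φ _ = 1
        rw [hinv _ ((Set.mem_insert_iff.1 hg).imp (fun h => Subtype.ext h) (fun h => Subtype.ext (Set.mem_singleton_iff.1 h)))]
        exact ha
      · intro s hs g hg
        have hgE : g ∈ E := by rw [D.gen]; exact Subgroup.subset_closure hg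
        refine ⟨⟨s, hs⟩ * σ ⟨g, hgE⟩ ⟨s, hs⟩⁻¹, ?_, ?_⟩
        · show Φ _ = 1
          rw [map_mul, hinv _ ((Set.mem_insert_iff.1 hg).imp (fun h => Subtype.ext h) (fun h => Subtype.ext (Set.mem_singleton_iff.1 h))), map_inv,
            mul_inv_cancel]
        · simp [hσ, commutatorElement_def, mul_assoc]
    rw [D.moved] at hle
    intro s hs h
    obtain ⟨a, ha, has⟩ := hle hs
    rwa [show (⟨s, h⟩ : S) = a from Subtype.ext has.symm]
  rintro z ⟨hz, hzE⟩
  have h4 : Φ ⟨z, hz⟩ = π (⟨z, hz⟩ ^ (2 * 2)) := by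
    have hfix : ∀ g : E, σ g ⟨z, hz⟩ = ⟨z, hz⟩ := fun g => Subtype.ext (by
      rw [hσ]; show (g : G) * z * (g : G)⁻¹ = z; rw [hzE g g.2, mul_inv_cancel_right])
    rw [hΦ]
    simp only [MonoidHom.mul_apply, MonoidHom.comp_apply, hfix, map_pow]
    simp [pow_succ]
  rw [hker z hz hz] at h4
  have h5 : z ^ (2 * 2) ∈ ⁅S, S⁆ := by
    simpa [Subgroup.mem_subgroupOf] using (QuotientGroup.eq_one_iff _).1 h4.symm
  rw [pow_mul] at h5
  exact mem_of_sq_mem (odd_orderOf D.q2 D.Sq hz)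
    (mem_of_sq_mem (odd_orderOf D.q2 D.Sq (S.pow_mem hz 2)) h5)

theorem lines_top : S ≤ Subgroup.closure {s | IsLine x u S s} := by
  haveI : Fact q.Prime := ⟨D.qprime⟩
  set L := Subgroup.closure {s | IsLine x u S s} with hL
  have hLS : L ≤ S := (Subgroup.closure_le _).2 fun s hs => hs.1
  have hEL : E ≤ Subgroup.normalizer (L : Set G) := fun g hg => by
    refine mem_normalizer_of_cj_le ?_
    rw [cj, hL, MonoidHom.map_closure, Subgroup.closure_le]
    rintro _ ⟨s, ⟨hs, e, f, hef, hse, hsf⟩, rfl⟩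
    refine Subgroup.subset_closure ⟨le_normalizer_iff.1 D.norm g hg s hs, e, f, hef, ?_, ?_⟩
    · show e * (g * s * g⁻¹) * e⁻¹ = g * s * g⁻¹
      calc e * (g * s * g⁻¹) * e⁻¹ = (e * g) * s * (e * g)⁻¹ := by group
        _ = (g * e) * s * (g * e)⁻¹ := by rw [(D.ecomm (D.pair_mem hef).1 hg).eq]
        _ = g * (e * s * e⁻¹) * g⁻¹ := by group
        _ = _ := by rw [hse]
    · show f * (g * s * g⁻¹) * f⁻¹ = (g * s * g⁻¹)⁻¹
      calc f * (g * s * g⁻¹) * f⁻¹ = (f * g) * s * (f * g)⁻¹ := by group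
        _ = (g * f) * s * (g * f)⁻¹ := by rw [(D.ecomm (D.pair_mem hef).2 hg).eq]
        _ = g * (f * s * f⁻¹) * g⁻¹ := by group
        _ = _ := by rw [hsf]; group
  haveI : IsMulCommutative E :=
    ⟨⟨fun a b => Subtype.ext (D.ecomm a.2 b.2).eq⟩⟩
  have hcopS : ∀ K : Subgroup G, K ≤ S → (Nat.card E).Coprime (Nat.card K) := fun K hK => by
    haveI : Fact (Nat.Prime 2) := ⟨Nat.prime_two⟩
    exact IsPGroup.coprime_card_of_ne 2 q (Ne.symm D.q2) _ _ D.two (D.Sq.to_le hK)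
  have hpart : ∀ e, e = x ∨ e = u ∨ e = x * u →
      S ⊓ Subgroup.centralizer ({e} : Set G) ≤ L ⊔ ⁅S, S⁆ := by
    intro e he
    have heE : e ∈ E := by
      rcases he with rfl | rfl | rfl
      exacts [D.xmem, D.umem, E.mul_mem D.xmem D.umem]
    set K := S ⊓ Subgroup.centralizer ({e} : Set G) with hK
    have hEK : E ≤ Subgroup.normalizer (K : Set G) := le_normalizer_inf D.norm
      (le_normalizer_iff.2 fun a ha z hz => by
        rw [Subgroup.mem_centralizer_singleton_iff] at hz ⊢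
        exact (((D.ecomm heE ha).mul_right hz.symm).mul_right (D.ecomm heE ha).inv_right).eq.symm)
    refine le_trans (Coprime.commutator_sup_centralizer hEK (hcopS K inf_le_left)
      (Or.inl (Coprime.isSolvable_of_isPGroup (p := 2) D.two))).ge
      (sup_le (le_sup_of_le_left ?_) (le_sup_of_le_right ?_))
    · conv_lhs => rw [D.gen]
      refine commutator_closure_le (fun g hg => hEL (by rw [D.gen]; exact Subgroup.subset_closure hg)) ?_
      intro s hs g hg
      have hgE : g ∈ E := by rw [D.gen]; exact Subgroup.subset_closure hg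
      have hg2 : g * g = 1 := by rcases hg with rfl | rfl; exacts [D.x2, D.u2]
      have hgi : g⁻¹ = g := inv_eq_of_mul_eq_one_left hg2
      have hse : e * s * e⁻¹ = s := by
        rw [(Subgroup.mem_centralizer_singleton_iff.1 hs.2).symm, mul_inv_cancel_right]
      by_cases hge : g = e
      · subst hge
        have : ⁅s, g⁆ = 1 :=
          commutatorElement_eq_one_iff_mul_comm.2 (Subgroup.mem_centralizer_singleton_iff.1 hs.2)
        rw [this]
        exact one_mem _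
      refine Subgroup.subset_closure ⟨?_, e, g, ?_, ?_, ?_⟩
      · rw [commutatorElement_def, show s * g * s⁻¹ * g⁻¹ = s * (g * s⁻¹ * g⁻¹) by group]
        exact S.mul_mem hs.1 (le_normalizer_iff.1 D.norm g hgE _ (S.inv_mem hs.1))
      · rcases he with rfl | rfl | rfl <;> rcases hg with rfl | rfl <;>
          first
            | exact absurd rfl hge
            | (unfold Pair; tauto)
      · show e * ⁅s, g⁆ * e⁻¹ = ⁅s, g⁆
        rw [conjugate_commutatorElement, hse, (D.ecomm heE hgE).eq, mul_inv_cancel_right]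
      · rw [commutatorElement_def, hgi]
        calc g * (s * g * s⁻¹ * g) * g = g * s * g * s⁻¹ * (g * g) := by group
          _ = g * s * g * s⁻¹ := by rw [hg2, mul_one]
          _ = g⁻¹ * s * g⁻¹ * s⁻¹ := by rw [hgi]
          _ = _ := by group
    · exact (inf_le_inf_right _ inf_le_left).trans D.inf_centralizer_le_derived
  have hsq : ∀ a : G, a * a = 1 → a ^ 2 ∈ Subgroup.centralizer (S : Set G) := fun a ha => by
    rw [pow_two, ha]; exact one_mem _
  have hsup : S ≤ L ⊔ ⁅S, S⁆ :=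
    Coprime.le_of_pair D.norm (hcopS S le_rfl) Nat.prime_two D.xmem D.umem (hsq x D.x2) (hsq u D.u2)
      fun i j hij => by
        have hx : x ^ i = if Even i then 1 else x := by
          rcases Nat.even_or_odd i with ⟨k, rfl⟩ | ⟨k, rfl⟩
          · rw [if_pos ⟨k, rfl⟩, ← two_mul, pow_mul, pow_two, D.x2, one_pow]
          · rw [if_neg (by simp [parity_simps]), pow_succ, pow_mul, pow_two, D.x2, one_pow, one_mul]
        have hu : u ^ j = if Even j then 1 else u := by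
          rcases Nat.even_or_odd j with ⟨k, rfl⟩ | ⟨k, rfl⟩
          · rw [if_pos ⟨k, rfl⟩, ← two_mul, pow_mul, pow_two, D.u2, one_pow]
          · rw [if_neg (by simp [parity_simps]), pow_succ, pow_mul, pow_two, D.u2, one_pow, one_mul]
        have h2 : ¬ (Even i ∧ Even j) := fun h => hij ⟨even_iff_two_dvd.1 h.1, even_iff_two_dvd.1 h.2⟩
        rw [hx, hu]
        by_cases hi : Even i <;> by_cases hj : Even j
        · exact absurd ⟨hi, hj⟩ h2
        · rw [if_pos hi, if_neg hj, one_mul]; exact hpart u (Or.inr (Or.inl rfl))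
        · rw [if_neg hi, if_pos hj, mul_one]; exact hpart x (Or.inl rfl)
        · rw [if_neg hi, if_neg hj]; exact hpart _ (Or.inr (Or.inr rfl))
  haveI : Group.IsNilpotent S := D.Sq.isNilpotent
  have htop : L.subgroupOf S ⊔ frattini S = ⊤ := by
    refine top_le_iff.1 (le_trans ?_ (sup_le_sup_left Cores.commutator_le_frattini _))
    rw [← Subgroup.map_le_map_iff_of_injective S.subtype_injective, Subgroup.map_sup,
      Subgroup.map_subtype_commutator, subgroupOf_map_subtype hLS, ← MonoidHom.range_eq_map,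
      Subgroup.range_subtype]
    exact hsup
  exact Subgroup.subgroupOf_eq_top.1 (frattini_nongenerating htop)

/-- `C_S(E)` is generated by the line parts. -/
theorem four_fix {W : Subgroup G} (hW : ∀ e, e = x ∨ e = u ∨ e = x * u → lfix S E e ≤ W)
    (hWE : W ≤ Subgroup.centralizer (E : Set G)) (hWS : W ≤ S) :
    S ⊓ Subgroup.centralizer (E : Set G) ≤ W := by
  haveI : Fact q.Prime := ⟨D.qprime⟩
  have key : ∀ k, S ⊓ Subgroup.centralizer (E : Set G) ≤ W ⊔ S.lowerCentralSeries (k + 1) := by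
    intro k
    induction k with
    | zero =>
      refine le_sup_of_le_right (D.inf_centralizer_le_derived.trans ?_)
      rw [Subgroup.lowerCentralSeries_succ, Subgroup.lowerCentralSeries_zero]
    | succ k ih =>
      intro z hz
      have hWn : W ≤ Subgroup.normalizer (S.lowerCentralSeries (k + 1) : Set G) :=
        hWS.trans (D.lcs_norm _).2
      obtain ⟨n, hn, w, hw, rfl⟩ := (Coprime.mem_sup_iff hWn).1
        (sup_comm W (S.lowerCentralSeries (k + 1)) ▸ ih hz)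
      have hnE : n ∈ Subgroup.centralizer (E : Set G) := by
        simpa using Subgroup.mul_mem _ hz.2 (Subgroup.inv_mem _ (hWE hw))
      exact Subgroup.mul_mem _ (D.step D.lines_top hW k ⟨hn, hnE⟩) (Subgroup.mem_sup_left hw)
  obtain ⟨N, hN⟩ := S.isNilpotent_iff_lowerCentralSeries.1 D.Sq.isNilpotent
  refine (key N).trans (sup_le le_rfl ?_)
  exact ((S.lowerCentralSeries_antitone (Nat.le_succ N)).trans hN.le).trans bot_le

end FourData

end Cfsg.Agent.SecondFitting
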