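import Cfsg.Agent.Lib.SecondFitting.Cluster
import Cfsg.Agent.Lib.SecondFitting.FourFix
import Cfsg.Agent.Lib.FlavellGen.Main
import Cfsg.Agent.Lib.Involution.BaerSuzuki
import Cfsg.Agent.Lib.ZStar.Apply
import Cfsg.Agent.Lib.ZStar.Unique
import Cfsg.Agent.Lib.OddOrderTheorem.Basic

/-!
# Fixed points of `x` on the `q`-groups it moves

`Ctx.good` : for an `x`-invariant `q`-group `W`, `C_[W,x](x) ≤ O_q(C(x))`; `Ctx.frame` : the frame of `⟨x⟩`.
-/

set_option autoImplicit false
set_option linter.style.haveILetI false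
set_option linter.unusedSectionVars false

namespace Cfsg.Agent.SecondFitting

open scoped Pointwise commutatorElement
open FlavellGen (cc)

universe u

variable {G : Type u} [Group G] [Finite G]

/-- A subgroup covering `S` modulo its derived subgroup is `S`. -/
theorem le_of_le_sup_derived {S H : Subgroup G} (hS : Group.IsNilpotent S) (hH : H ≤ S)
    (h : S ≤ H ⊔ ⁅S, S⁆) : S ≤ H := by
  have htop : H.subgroupOf S ⊔ frattini S = ⊤ := by
    haveI := hS
    refine top_le_iff.1 (le_trans ?_ (sup_le_sup_left Cores.commutator_le_frattini _))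
    rw [← Subgroup.map_le_map_iff_of_injective S.subtype_injective, Subgroup.map_sup,
      Subgroup.map_subtype_commutator, subgroupOf_map_subtype hH, ← MonoidHom.range_eq_map,
      Subgroup.range_subtype]
    exact h
  exact Subgroup.subgroupOf_eq_top.1 (frattini_nongenerating htop)

/-- A moved subgroup centralising the fixed points. -/
theorem exists_moved_centralising {q : ℕ} [Fact q.Prime] {T E : Subgroup G} (hT : IsPGroup q T)
    (hET : E ≤ Subgroup.normalizer (T : Set G)) (hne : ⁅T, E⁆ ≠ ⊥) :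
    ∃ N : Subgroup G, N ≤ T ∧ E ≤ Subgroup.normalizer (N : Set G) ∧ ⁅N, E⁆ ≠ ⊥ ∧
      ⁅N, E⁆ ≤ Subgroup.centralizer ((T ⊓ Subgroup.centralizer (E : Set G) : Subgroup G) : Set G) := by
  set D := T ⊓ Subgroup.centralizer (E : Set G) with hD
  have hED : E ≤ Subgroup.normalizer (D : Set G) := le_normalizer_iff.2 fun e he d hd => by
    rw [hd.2 e he, mul_inv_cancel_right]
    exact hd
  set N := T ⊓ Subgroup.normalizer (D : Set G) with hN
  refine ⟨N, inf_le_left, le_normalizer_inf hET (hED.trans Subgroup.le_normalizer), fun h => ?_, ?_⟩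
  · have h1 : N ≤ D :=
      le_inf inf_le_left (Subgroup.commutator_eq_bot_iff_le_centralizer.1 h)
    have h2 : D = T :=
      Isolated.eq_of_normalizer_le hT inf_le_left fun g hgT hgN => h1 ⟨hgT, hgN⟩
    exact hne (Subgroup.commutator_eq_bot_iff_le_centralizer.2 (h2 ▸ (inf_le_right : D ≤ _)))
  · rw [← Subgroup.commutator_eq_bot_iff_le_centralizer]
    have h0 : ⁅E, D⁆ = ⊥ :=
      Subgroup.commutator_eq_bot_iff_le_centralizer.2 (Subgroup.le_centralizer_iff.1 inf_le_right)
    refine Subgroup.commutator_commutator_eq_bot_of_rotate ?_ ?_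
    · rw [h0, Subgroup.commutator_bot_left]
    · refine le_bot_iff.1 ?_
      refine le_trans (Subgroup.commutator_mono (Subgroup.le_normalizer_iff_commutator_le_left.1
        (inf_le_right : N ≤ _)) le_rfl) ?_
      rw [Subgroup.commutator_comm, h0]

/-- `C(E)` carries fixed `q`-elements of `O_q` of a larger centraliser into `O_q(C(E))`. -/
theorem oq_inf_le_oq {q : ℕ} {H L : Subgroup G} (h : L ≤ H) : oq q H ⊓ L ≤ oq q L :=
  le_oq inf_le_right (le_normalizer_inf (h.trans le_normalizer_oq) Subgroup.le_normalizer)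
    (isPGroup_oq.to_le inf_le_left)

theorem centralizer_singleton_eq_cn (e : G) :
    Subgroup.centralizer ({e} : Set G) = cn e := by
  ext z
  rw [Subgroup.mem_centralizer_singleton_iff, mem_cn]
  exact ⟨fun h => h.symm, fun h => h.eq.symm⟩

/-- An element inverted by a commuting pair in two ways. -/
theorem eq_one_of_commute_aba {e a b : G} (ha : Odd (orderOf a)) (hb : Odd (orderOf b))
    (hea : e * a * e⁻¹ = a⁻¹) (heb : Commute e b) (hc : Commute e (a * b * a)) : a = 1 := by
  have h1 : e * (a * b * a) * e⁻¹ = a⁻¹ * b * a⁻¹ := by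
    calc e * (a * b * a) * e⁻¹ = (e * a * e⁻¹) * (e * b * e⁻¹) * (e * a * e⁻¹) := by group
      _ = _ := by rw [hea, heb.eq, mul_inv_cancel_right]
  rw [hc.eq, mul_inv_cancel_right] at h1
  -- `a² b a² = b`
  have h2 : a ^ 2 * b * a ^ 2 = b := by
    calc a ^ 2 * b * a ^ 2 = a * (a * b * a) * a := by rw [pow_two]; group
      _ = a * (a⁻¹ * b * a⁻¹) * a := by rw [h1]
      _ = b := by group
  have h3 : a ^ 2 * b = b * (a ^ 2)⁻¹ := eq_mul_inv_of_mul_eq h2
  have h4 : Commute (a ^ 2) (b ^ 2) := by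
    have h5 : (a ^ 2)⁻¹ * b = b * a ^ 2 := by
      rw [inv_mul_eq_iff_eq_mul, ← mul_assoc, h2]
    calc a ^ 2 * b ^ 2 = (a ^ 2 * b) * b := by rw [pow_two b]; group
      _ = b * ((a ^ 2)⁻¹ * b) := by rw [h3]; group
      _ = b * (b * a ^ 2) := by rw [h5]
      _ = b ^ 2 * a ^ 2 := by rw [pow_two b]; group
  obtain ⟨m, hm⟩ := exists_pow_eq_self_of_coprime (x := b) (n := 2) (Nat.coprime_two_left.2 hb)
  have h5 : Commute (a ^ 2) b := hm ▸ h4.pow_right m
  rw [h5.eq, mul_assoc, mul_eq_left] at h2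
  exact Subgroup.mem_bot.1 (mem_of_sq_mem ha (mem_of_sq_mem
    (Odd.of_dvd_nat ha (orderOf_pow_dvd 2)) (Subgroup.mem_bot.2 (by rw [pow_two (a ^ 2), h2]))))

namespace Ctx

variable {p : ℕ} {x : G} (C : Ctx G p x)

include C

theorem pow_eq_one_of_two (hp : p = 2) : x * x = 1 := by
  rw [← pow_two, ← hp, ← C.ord, pow_orderOf_eq_one]

theorem pPrimeCore_two : Cfsg.pPrimeCore 2 G = ⊥ := by
  by_contra h
  haveI : Fact (Nat.Prime 2) := ⟨Nat.prime_two⟩
  obtain ⟨V, hVn, hVle, hV1, hmin⟩ := FittingLength.exists_minimal_normal h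
  haveI := hVn
  have hsol : Group.IsSolvable (Cfsg.pPrimeCore 2 G) := OddOrderTheorem.solvable
    (Nat.coprime_two_right.1 (Cores.coprime_card_pPrimeCore 2))
  obtain ⟨hab, -⟩ := FittingLength.minimal_normal_abelian_pgroup hV1
    (Coprime.isSolvable_of_le hVle hsol) hmin
  haveI : IsMulCommutative V := ⟨⟨fun a b => Subtype.ext (hab a a.2 b b.2)⟩⟩
  exact hV1 (le_bot_iff.1 ((Cores.le_fittingSubgroup_of_isMulCommutative V).trans C.fit.le))

theorem exists_commuting_conj (hp : p = 2) : ∃ u, IsConj x u ∧ Commute x u ∧ u ≠ x := by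
  by_contra h
  push Not at h
  have hiso : Cfsg.IsIsolated x := fun g hg => h _ (isConj_iff.2 ⟨g, rfl⟩) hg
  have hz := ZStar.zStar_pElement ZStar.uniqueInvolution ⟨1, by rw [C.ord, hp, pow_one]⟩ hiso
  refine C.ne_one (Subgroup.mem_bot.1 (C.center_eq_bot ▸ ?_ : x ∈ (⊥ : Subgroup G)))
  refine Subgroup.mem_center_iff.2 fun g => ?_
  have h1 := hz g
  rw [C.pPrimeCore_two, Subgroup.mem_bot, mul_inv_eq_one, mul_inv_eq_iff_eq_mul] at h1
  exact h1

theorem good_odd {q : ℕ} [Fact q.Prime] (hne : q ≠ p) (hp2 : p ≠ 2) {W : Subgroup G}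
    (hW : IsPGroup q W) (hxW : x ∈ Subgroup.normalizer (W : Set G)) :
    ⁅W, Subgroup.zpowers x⁆ ⊓ cn x ≤ oq q (cn x) := by
  haveI := C.fact
  have hndvd : ¬ p ∣ Nat.card W := by
    have h1 := C.cop hW hne
    rw [Nat.card_zpowers, C.ord] at h1
    exact C.prime.coprime_iff_not_dvd.1 h1
  intro z hz
  suffices hdd : FlavellGen.dd x W ≤ oq q (cn x) from hdd (FlavellGen.fix_le_dd C.prime hp2 _ G x W
    rfl hxW C.ord hndvd (Coprime.isSolvable_of_isPGroup hW) ⟨hz.2, hz.1⟩)
  refine iSup₂_le ?_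
  rintro h hh w ⟨hw, hwc⟩
  have hBS : IsPGroup q (Subgroup.normalClosure ({(⟨w, hwc⟩ : cn x)} : Set (cn x))) := by
    refine Involution.baer_suzuki_element _ fun c => ?_
    obtain ⟨-, -, -, K, hK, hxK, hccK, hcK, -⟩ := C.keyK hxW hndvd hh (mem_cn.1 c.2)
    have hle : cc x h ≤ oq q K := by
      refine (FlavellGen.cc_le_commutator_cc hxW (C.cop hW hne) hh).trans
        ((C.key hne hK hxK (hW.to_le (FlavellGen.cc_le hxW hh)) hccK
          (FlavellGen.zpowers_le_normalizer_cc x h (Subgroup.mem_zpowers x))).trans ?_)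
      exact Subgroup.le_normalizer_iff_commutator_le_left.1
        (Subgroup.zpowers_le.2 (le_normalizer_oq hxK))
    refine ((isPGroup_oq (q := q) (H := K)).comap_of_injective (cn x).subtype
      (cn x).subtype_injective).to_le ?_
    rw [Subgroup.closure_le]
    rintro v (rfl | rfl)
    · exact hle hw
    · show (c : G) * w * (c : G)⁻¹ ∈ oq q K
      exact le_normalizer_iff.1 le_normalizer_oq _ hcK _ (hle hw)
  exact ⟨⟨w, hwc⟩, Cores.le_pCore Subgroup.normalClosure_normal hBS
    (Subgroup.subset_normalClosure rfl), rfl⟩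

/-! ### `p = 2` -/

section Two

variable {u : G} (hp : p = 2) (hu : IsConj x u) (hxu : Commute x u) (hux : u ≠ x) {q : ℕ}
  [Fact q.Prime] (hne : q ≠ p)

/-- The four group. -/
abbrev four (x u : G) : Subgroup G := Subgroup.closure {x, u}

include hp hu hxu

theorem four_two : IsPGroup 2 (four x u) := by
  have h1 : four x u = Subgroup.zpowers x ⊔ Subgroup.zpowers u := by
    rw [Subgroup.zpowers_eq_closure, Subgroup.zpowers_eq_closure, ← Subgroup.closure_union,
      Set.singleton_union]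
  rw [h1]
  exact (hp ▸ C.isPGroup).to_sup_of_normal_right' (hp ▸ (C.of_isConj hu).isPGroup)
    (Subgroup.zpowers_le.2 (centralizer_le_normalizer_self _ (mem_cn.2 hxu.symm)))

theorem four_data {S : Subgroup G} (hq2 : q ≠ 2) (hS : IsPGroup q S)
    (hES : four x u ≤ Subgroup.normalizer (S : Set G)) (hmov : ⁅S, four x u⁆ = S) :
    FourData x u (four x u) S q :=
  ⟨Fact.out, hq2, C.pow_eq_one_of_two hp, (C.of_isConj hu).pow_eq_one_of_two hp, hxu, rfl,
    C.four_two hp hu hxu, hS, hES, hmov⟩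

include hux hne

theorem four_frame : Frame (four x u) (oq q (Subgroup.centralizer (four x u : Set G))) q := by
  have hq2 : q ≠ 2 := hp ▸ hne
  haveI : Fact (Nat.Prime 2) := ⟨Nat.prime_two⟩
  have Cu := C.of_isConj hu
  have hsolv : Group.IsSolvable (four x u) :=
    Coprime.isSolvable_of_isPGroup (C.four_two hp hu hxu)
  have hcop : ∀ W : Subgroup G, IsPGroup q W →
      (Nat.card (four x u)).Coprime (Nat.card W) := fun W hW =>
    IsPGroup.coprime_card_of_ne 2 q (Ne.symm hq2) _ _ (C.four_two hp hu hxu) hW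
  have key : ∀ H W : Subgroup G, H ≠ ⊤ → four x u ≤ H → IsPGroup q W → W ≤ H →
      four x u ≤ Subgroup.normalizer (W : Set G) →
      ⁅W, four x u⁆ ≤ ⁅oq q H, four x u⁆ := by
    intro H W hH hEH hW hWH hEW
    rw [← Coprime.commutator_commutator_eq hEW (hcop W hW) (Or.inl hsolv)]
    refine Subgroup.commutator_mono ?_ le_rfl
    refine commutator_closure_le (fun s hs => le_normalizer_oq (hEH (Subgroup.subset_closure hs))) ?_
    intro w hw s hs
    have hsE : s ∈ four x u := Subgroup.subset_closure hs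
    have gen : ∀ {v : G}, Ctx G p v → v ∈ four x u → ⁅w, v⁆ ∈ oq q H := fun {v} Cv hv => by
      have h1 := Cv.key hne hH (hEH hv) hW hWH (hEW hv)
        (Subgroup.commutator_mem_commutator hw (Subgroup.mem_zpowers v))
      exact Subgroup.le_normalizer_iff_commutator_le_left.1
        (Subgroup.zpowers_le.2 (le_normalizer_oq (hEH hv))) h1
    rcases hs with rfl | rfl
    exacts [gen C hsE, gen Cu hsE]
  refine ⟨Fact.out, hsolv, hcop, key, ?_, isPGroup_oq, oq_le, le_normalizer_oq,
    fun D hD h1 => C.normalizer_ne_top' hD h1⟩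
  intro W hW hEW
  set E := four x u with hE
  set S := ⁅W, E⁆ with hS
  have hSW : S ≤ W := Subgroup.le_normalizer_iff_commutator_le_left.1 hEW
  have D := C.four_data hp hu hxu hq2 (hW.to_le hSW)
    (le_normalizer_comm hEW Subgroup.le_normalizer)
    (Coprime.commutator_commutator_eq hEW (hcop W hW) (Or.inl hsolv))
  refine le_trans (D.four_fix (W := oq q (Subgroup.centralizer (E : Set G)) ⊓ S) ?_
    (inf_le_left.trans oq_le) inf_le_right) inf_le_left
  intro e he
  have heE : e ∈ E := by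
    rcases he with rfl | rfl | rfl
    exacts [D.xmem, D.umem, E.mul_mem D.xmem D.umem]
  have he1 : e ≠ 1 := by
    rcases he with rfl | rfl | rfl
    · exact C.ne_one
    · exact Cu.ne_one
    · exact fun h => hux (((mul_eq_one_iff_inv_eq).1 h).symm.trans
        (inv_eq_of_mul_eq_one_left D.x2))
  have hCE : Subgroup.centralizer (E : Set G) ≤ cn e := fun z hz =>
    mem_cn.2 (hz e heE)
  have hEe : E ≤ cn e := fun g hg => mem_cn.2 (D.ecomm heE hg)
  set K := S ⊓ Subgroup.centralizer ({e} : Set G) with hK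
  have hKH : K ≤ cn e := inf_le_right.trans (centralizer_singleton_eq_cn e).le
  have hEK : E ≤ Subgroup.normalizer (K : Set G) := le_normalizer_inf D.norm
    (by rw [centralizer_singleton_eq_cn]; exact hEe.trans Subgroup.le_normalizer)
  refine le_inf ?_ (inf_le_left.trans
    ((Subgroup.commutator_mono inf_le_left le_rfl).trans D.moved.le))
  refine le_trans (inf_le_inf_right _ ?_) (oq_inf_le_oq hCE)
  exact (key (cn e) K (C.cn_ne_top he1) hEe (D.Sq.to_le inf_le_left) hKH hEK).trans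
    (Subgroup.le_normalizer_iff_commutator_le_left.1 (hEe.trans le_normalizer_oq))

theorem good_two {W : Subgroup G} (hW : IsPGroup q W)
    (hxW : x ∈ Subgroup.normalizer (W : Set G)) :
    ⁅W, Subgroup.zpowers x⁆ ⊓ cn x ≤ oq q (cn x) := by
  classical
  have hq2 : q ≠ 2 := hp ▸ hne
  set E := four x u with hE
  set Y := oq q (Subgroup.centralizer (E : Set G)) with hY
  have F := C.four_frame hp hu hxu hux hne
  have hxE : x ∈ E := Subgroup.subset_closure (Or.inl rfl)
  have huE : u ∈ E := Subgroup.subset_closure (Or.inr rfl)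
  have hx2 := C.pow_eq_one_of_two hp
  have hu2 := (C.of_isConj hu).pow_eq_one_of_two hp
  have hxi : x⁻¹ = x := inv_eq_of_mul_eq_one_left hx2
  set R := ⁅W, Subgroup.zpowers x⁆ with hR
  have hRW : R ≤ W := Subgroup.le_normalizer_iff_commutator_le_left.1 (Subgroup.zpowers_le.2 hxW)
  -- inverted `q`-elements
  set I : Set G := {a | IsPGroup q (Subgroup.zpowers a) ∧ x * a * x⁻¹ = a⁻¹} with hI
  have hIodd : ∀ a ∈ I, Odd (orderOf a) := fun a ha =>
    odd_orderOf hq2 ha.1 (Subgroup.mem_zpowers a)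
  have hIW : ∀ w ∈ W, ⁅w, x⁆ ∈ I ∧ ⁅w, x⁆ ∈ W := fun w hw => by
    have h1 : ⁅w, x⁆ ∈ W := by
      rw [commutatorElement_def, show w * x * w⁻¹ * x⁻¹ = w * (x * w⁻¹ * x⁻¹) by group]
      exact W.mul_mem hw ((Subgroup.mem_normalizer_iff.1 hxW _).1 (W.inv_mem hw))
    refine ⟨⟨hW.to_le (Subgroup.zpowers_le.2 h1), ?_⟩, h1⟩
    simp only [commutatorElement_def, hxi]
    calc x * (w * x * w⁻¹ * x) * x = x * w * x * w⁻¹ * (x * x) := by group
      _ = x⁻¹ * w * x⁻¹ * w⁻¹ := by rw [hx2, mul_one, hxi]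
      _ = _ := by group
  -- one member containing all inverted elements
  by_cases hA : ∃ U : Subgroup G, IsPGroup q U ∧ ∀ a ∈ I, a ∈ U
  · obtain ⟨U, hU, hIU⟩ := hA
    set T := Subgroup.closure I with hT
    have hTU : T ≤ U := (Subgroup.closure_le U).2 hIU
    have hcnT : cn x ≤ Subgroup.normalizer (T : Set G) := fun c hc => by
      refine mem_normalizer_of_cj_le ?_
      rw [cj, hT, MonoidHom.map_closure, Subgroup.closure_le]
      rintro _ ⟨a, ⟨haq, hax⟩, rfl⟩
      refine Subgroup.subset_closure ⟨?_, ?_⟩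
      · rw [← MonoidHom.map_zpowers]; exact haq.map _
      · show x * (c * a * c⁻¹) * x⁻¹ = (c * a * c⁻¹)⁻¹
        calc x * (c * a * c⁻¹) * x⁻¹ = (x * c) * a * (x * c)⁻¹ := by group
          _ = (c * x) * a * (c * x)⁻¹ := by rw [(mem_cn.1 hc).eq]
          _ = c * (x * a * x⁻¹) * c⁻¹ := by group
          _ = _ := by rw [hax]; group
    have hRT : R ≤ T := by
      rw [hR, Subgroup.zpowers_eq_closure]
      exact commutator_closure_le (Set.singleton_subset_iff.2 (hcnT (mem_cn_self x)))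
        fun w hw s hs => by
          rw [Set.mem_singleton_iff.1 hs]; exact Subgroup.subset_closure (hIW w hw).1
    refine le_trans (inf_le_inf_right _ hRT) (le_oq inf_le_right
      (le_normalizer_inf hcnT Subgroup.le_normalizer) (hU.to_le (inf_le_left.trans hTU)))
  -- otherwise
  have hlines : ∀ U, Clu E Y q U → ∀ e e' : G, (e = x * u ∧ e' = u) ∨ (e = u ∧ e' = x * u) →
      ⁅U ⊓ Subgroup.centralizer ({e} : Set G), E⁆ = ⊥ →
      ∀ a ∈ ⁅U, Subgroup.zpowers x⁆, Commute e' a := by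
    intro U hU e e' hee hbot
    set S := ⁅U, Subgroup.zpowers x⁆ with hS
    have hxU : Subgroup.zpowers x ≤ Subgroup.normalizer (U : Set G) :=
      (Subgroup.zpowers_le.2 hxE).trans hU.om.2.1
    have hSU : S ≤ U := Subgroup.le_normalizer_iff_commutator_le_left.1 hxU
    have hEx : E ≤ Subgroup.normalizer ((Subgroup.zpowers x : Subgroup G) : Set G) := by
      rw [hE, Subgroup.closure_le]
      intro g hg
      rcases hg with hg | hg <;> rw [hg]
      · exact centralizer_le_normalizer_self _ (mem_cn_self x)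
      · exact centralizer_le_normalizer_self _ (mem_cn.2 hxu)
    have hSS : ⁅S, Subgroup.zpowers x⁆ = S :=
      C.comm_comm hU.om.1 hne (hxU (Subgroup.mem_zpowers x))
    have hES : E ≤ Subgroup.normalizer (S : Set G) := le_normalizer_comm hU.om.2.1 hEx
    have hSE : ⁅S, E⁆ = S := le_antisymm (Subgroup.le_normalizer_iff_commutator_le_left.1 hES)
      (hSS.ge.trans (Subgroup.commutator_mono le_rfl (Subgroup.zpowers_le.2 hxE)))
    have D := C.four_data hp hu hxu hq2 (hU.om.1.to_le hSU) hES hSE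
    have D1 : FourData x x (Subgroup.zpowers x) S q :=
      ⟨Fact.out, hq2, hx2, hx2, Commute.refl x,
        by rw [Set.pair_eq_singleton, Subgroup.zpowers_eq_closure],
        hp ▸ C.isPGroup, hU.om.1.to_le hSU, (Subgroup.zpowers_le.2 hxE).trans hES, hSS⟩
    have hsub : S ≤ (S ⊓ Subgroup.centralizer ({e'} : Set G)) ⊔ ⁅S, S⁆ := by
      refine D.lines_top.trans ((Subgroup.closure_le _).2 ?_)
      rintro s ⟨hs, f, f', hff, hsf, hsf'⟩
      have hfx : f = x ∨ f = e ∨ f = e' := by
        rcases hff with ⟨h, -⟩ | ⟨h, -⟩ | ⟨h, -⟩ | ⟨h, -⟩ | ⟨h, -⟩ | ⟨h, -⟩ <;>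
          rcases hee with ⟨h1, h2⟩ | ⟨h1, h2⟩ <;> rw [h, h1, h2] <;> tauto
      rcases hfx with h | h | h
      · refine Subgroup.mem_sup_right (D1.inf_centralizer_le_derived ⟨hs, ?_⟩)
        rw [h] at hsf
        exact mem_cn.2 (mul_inv_eq_iff_eq_mul.1 hsf)
      · have h1 : s ∈ ⁅U ⊓ Subgroup.centralizer ({e} : Set G), E⁆ := by
          have h2 := D.line_mem hff hs hsf hsf'
          rw [h] at h2
          exact Subgroup.commutator_mono (inf_le_inf_right _ hSU) le_rfl h2
        rw [hbot, Subgroup.mem_bot] at h1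
        rw [h1]
        exact one_mem _
      · rw [h] at hsf
        exact Subgroup.mem_sup_left
          ⟨hs, Subgroup.mem_centralizer_singleton_iff.2 (mul_inv_eq_iff_eq_mul.1 hsf).symm⟩
    have h3 := le_of_le_sup_derived (hU.om.1.to_le hSU).isNilpotent inf_le_left hsub
    exact fun a ha => (Subgroup.mem_centralizer_singleton_iff.1 (h3 ha).2).symm
  have hclu : ∀ a ∈ I, a ≠ 1 → ∃ U, Clu E Y q U ∧ a ∈ U ∧ a ∈ ⁅U, Subgroup.zpowers x⁆ := by
    intro a ha ha1
    have hxA : x ∈ Subgroup.normalizer ((Subgroup.zpowers a : Subgroup G) : Set G) := by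
      refine mem_normalizer_of_cj_le ?_
      rw [cj_zpowers, ha.2, Subgroup.zpowers_inv]
    have hAx : a ∈ ⁅Subgroup.zpowers a, Subgroup.zpowers x⁆ := by
      refine mem_of_sq_mem (hIodd a ha) ?_
      have h1 : ⁅a, x⁆ = a ^ 2 := by
        rw [commutatorElement_def, show a * x * a⁻¹ * x⁻¹ = a * (x * a * x⁻¹)⁻¹ by group, ha.2,
          inv_inv, pow_two]
      exact h1 ▸ Subgroup.commutator_mem_commutator (Subgroup.mem_zpowers a) (Subgroup.mem_zpowers x)
    have hacc : a ∈ cc x a := by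
      have h1 := (cc x a).inv_mem (FlavellGen.gen_one_mem_cc x a)
      refine mem_of_sq_mem (hIodd a ha) ?_
      have h2 : (a⁻¹ * x * a * x⁻¹)⁻¹ = a ^ 2 := by
        rw [show (a⁻¹ * x * a * x⁻¹)⁻¹ = (x * a * x⁻¹)⁻¹ * a by group, ha.2, inv_inv, pow_two]
      rwa [h2] at h1
    obtain ⟨-, -, -, K, hK, hxK, hccK, huK, -⟩ := C.keyK hxA (by
      have h1 := C.cop ha.1 hne
      rw [Nat.card_zpowers x, C.ord] at h1
      exact C.prime.coprime_iff_not_dvd.1 h1) (Subgroup.mem_zpowers a) hxu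
    have hEK : E ≤ K := by
      rw [hE, Subgroup.closure_le]
      rintro g (rfl | rfl)
      exacts [hxK, huK]
    have h1 : a ∈ ⁅oq q K, E⁆ := Subgroup.commutator_mono le_rfl (Subgroup.zpowers_le.2 hxE)
      (C.key hne hK hxK ha.1 (Subgroup.zpowers_le.2 (hccK hacc)) hxA hAx)
    obtain ⟨U, hU, hle⟩ := F.exists_clu isPGroup_oq (hEK.trans le_normalizer_oq)
      fun h => ha1 (Subgroup.mem_bot.1 (h ▸ h1))
    exact ⟨U, hU, hle h1,
      Subgroup.commutator_mono (Subgroup.zpowers_le.2 (hle h1)) le_rfl hAx⟩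
  set w := x * u with hw
  have hnb : ∀ a ∈ I, Commute u a → Commute w a → a = 1 := fun a ha h1 h2 => by
    have h3 : Commute x a := by
      have h4 := h2.mul_left h1
      rwa [hw, mul_assoc, hu2, mul_one] at h4
    have h5 : a ^ 2 ∈ (⊥ : Subgroup G) := by
      rw [Subgroup.mem_bot, pow_two]
      have := ha.2
      rw [h3.eq, mul_inv_cancel_right] at this
      calc a * a = a⁻¹ * a := by rw [← this]
        _ = 1 := inv_mul_cancel a
    exact Subgroup.mem_bot.1 (mem_of_sq_mem (hIodd a ha) h5)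
  -- each moved line determines the member, normalised by `C(E)`
  have huv : ∀ {e : G}, (e = u ∨ e = w) → e ≠ 1 ∧ E ≤ cn e := by
    intro e he
    have heE : e ∈ E := by
      rcases he with rfl | rfl
      exacts [huE, E.mul_mem hxE huE]
    refine ⟨?_, ?_⟩
    · rcases he with rfl | rfl
      · exact (C.of_isConj hu).ne_one
      · exact fun h => hux (((mul_eq_one_iff_inv_eq).1 h).symm.trans hxi)
    · rw [hE, Subgroup.closure_le]
      intro g hg
      rcases hg with hg | hg <;> rw [hg, SetLike.mem_coe, mem_cn] <;> rcases he with he | he <;>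
        rw [he]
      all_goals first
        | exact hxu.symm
        | exact (Commute.refl x).mul_left hxu.symm
        | exact hxu.mul_left (Commute.refl u)
  have hsame : ∀ {e : G}, (e = u ∨ e = w) → ∀ U U', Clu E Y q U → Clu E Y q U' →
      ⁅U ⊓ Subgroup.centralizer ({e} : Set G), E⁆ ≠ ⊥ →
      ⁅U' ⊓ Subgroup.centralizer ({e} : Set G), E⁆ ≠ ⊥ → U = U' := by
    intro e he U U' hU hU' h h'
    rw [centralizer_singleton_eq_cn] at h h'
    exact F.same hU hU' (C.cn_ne_top (huv he).1) (huv he).2 h h'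
  have hline1 : ∀ a ∈ I, a ≠ 1 → ∀ U, Clu E Y q U → a ∈ ⁅U, Subgroup.zpowers x⁆ →
      ⁅U ⊓ Subgroup.centralizer ({u} : Set G), E⁆ ≠ ⊥ ∨
        ⁅U ⊓ Subgroup.centralizer ({w} : Set G), E⁆ ≠ ⊥ := by
    intro a ha ha1 U hU haU
    by_contra h
    push Not at h
    exact ha1 (hnb a ha (hlines U hU w u (Or.inl ⟨rfl, rfl⟩) h.2 a haU)
      (hlines U hU u w (Or.inr ⟨rfl, rfl⟩) h.1 a haU))
  have hfix : ∀ a ∈ I, Commute u a ∨ Commute w a := by
    intro a ha
    by_cases ha1 : a = 1
    · exact Or.inl (ha1 ▸ Commute.one_right u)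
    obtain ⟨U, hU, -, haU⟩ := hclu a ha ha1
    by_cases h1 : ⁅U ⊓ Subgroup.centralizer ({w} : Set G), E⁆ = ⊥
    · exact Or.inl (hlines U hU w u (Or.inl ⟨rfl, rfl⟩) h1 a haU)
    by_cases h2 : ⁅U ⊓ Subgroup.centralizer ({u} : Set G), E⁆ = ⊥
    · exact Or.inr (hlines U hU u w (Or.inr ⟨rfl, rfl⟩) h2 a haU)
    refine absurd ⟨U, hU.om.1, fun b hb => ?_⟩ hA
    by_cases hb1 : b = 1
    · exact hb1 ▸ U.one_mem
    obtain ⟨U', hU', hbU', hbU''⟩ := hclu b hb hb1
    rcases hline1 b hb hb1 U' hU' hbU'' with h | h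
    · exact hsame (Or.inl rfl) U' U hU' hU h h2 ▸ hbU'
    · exact hsame (Or.inr rfl) U' U hU' hU h h1 ▸ hbU'
  have hYbot : Y = ⊥ := by
    by_contra hY1
    obtain ⟨y, hy, hy1⟩ := (Subgroup.ne_bot_iff_exists_ne_one.1 hY1) |>.elim fun c hc =>
      (⟨c, c.2, fun h => hc (Subtype.ext h)⟩ : ∃ c ∈ Y, c ≠ 1)
    refine hA ?_
    by_cases hex : ∃ a ∈ I, a ≠ 1
    swap
    · push Not at hex
      exact ⟨(⊥ : Subgroup G), IsPGroup.of_bot, fun a ha => by rw [hex a ha]; exact one_mem _⟩
    obtain ⟨a, ha, ha1⟩ := hex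
    obtain ⟨U, hU, -, haU⟩ := hclu a ha ha1
    have hyH : ∀ V, Clu E Y q V → (∃ b ∈ I, b ≠ 1 ∧ b ∈ ⁅V, Subgroup.zpowers x⁆) →
        ⁅V ⊓ cn y, E⁆ ≠ ⊥ := by
      rintro V hV ⟨b, hb, hb1, hbV⟩
      have hYN : Y ≤ Subgroup.normalizer (V : Set G) := by
        intro c hc
        have hcE := F.Yc hc
        have hV' := F.clu_cj hcE hV
        refine mem_normalizer_of_cj_le ?_
        have key : ∀ e, (e = u ∨ e = w) → ⁅V ⊓ Subgroup.centralizer ({e} : Set G), E⁆ ≠ ⊥ →
            cj c V ≤ V := by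
          intro e he h
          refine (hsame he _ _ hV' hV (fun h0 => h ?_) h).le
          have hce : Commute e c := hcE e (by
            rcases he with rfl | rfl
            exacts [huE, E.mul_mem hxE huE])
          rw [← cj_eq_bot (g := c), cj_comm, cj_eq_self (centralizer_le_normalizer_self E hcE), cj,
            Subgroup.map_inf _ _ _ (MulAut.conj c).injective, centralizer_singleton_eq_cn]
          show ⁅cj c V ⊓ cj c (cn e), E⁆ = ⊥
          rw [cn_cj, ← hce.eq, mul_inv_cancel_right, ← centralizer_singleton_eq_cn]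
          exact h0
        rcases hline1 b hb hb1 V hV hbV with h | h
        exacts [key u (Or.inl rfl) h, key w (Or.inr rfl) h]
      have hYV : Y ≤ V := F.Y_le hV hYN
      obtain ⟨N, hNV, hEN, hN, hNc⟩ := exists_moved_centralising hV.om.1 hV.om.2.1 hV.mov
      intro h0
      refine hN ?_
      rw [← F.comm_comm (hV.om.1.to_le hNV) hEN]
      refine le_bot_iff.1 (h0 ▸ Subgroup.commutator_mono (le_inf ?_ ?_) le_rfl)
      · exact (F.comm_le hEN).trans hNV
      · exact fun z hz => mem_cn.2 (hNc hz y ⟨hYV hy, F.Yc hy⟩)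
    refine ⟨U, hU.om.1, fun b hb => ?_⟩
    by_cases hb1 : b = 1
    · exact hb1 ▸ U.one_mem
    obtain ⟨U', hU', hbU', hbU''⟩ := hclu b hb hb1
    have hEy : E ≤ cn y := fun g hg => mem_cn.2 (F.Yc hy g hg).symm
    exact F.same hU' hU (C.cn_ne_top hy1) hEy (hyH U' hU' ⟨b, hb, hb1, hbU''⟩)
      (hyH U hU ⟨a, ha, ha1, haU⟩) ▸ hbU'
  -- all inverted elements of `W` are centralised by one of `u`, `xu`
  have hgen : ∀ e : G, (∀ a ∈ I, a ∈ W → Commute e a) → R ≤ cn e := fun e he => by
    have hR' : R ≤ Subgroup.closure (I ∩ W) := by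
      rw [hR, Subgroup.zpowers_eq_closure]
      refine commutator_closure_le (Set.singleton_subset_iff.2 ?_) fun g hg s hs => ?_
      · refine Coprime.mem_normalizer_of_forall fun z hz => ?_
        induction hz using Subgroup.closure_induction with
        | mem a ha =>
          rw [ha.1.2]
          exact Subgroup.inv_mem _ (Subgroup.subset_closure ha)
        | one => simp
        | mul a b _ _ ha hb =>
          rw [show x * (a * b) * x⁻¹ = (x * a * x⁻¹) * (x * b * x⁻¹) by group]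
          exact Subgroup.mul_mem _ ha hb
        | inv a _ ha =>
          rw [show x * a⁻¹ * x⁻¹ = (x * a * x⁻¹)⁻¹ by group]
          exact Subgroup.inv_mem _ ha
      · rw [Set.mem_singleton_iff.1 hs]; exact Subgroup.subset_closure (hIW g hg)
    refine hR'.trans ((Subgroup.closure_le _).2 ?_)
    exact fun a ha => mem_cn.2 (he a ha.1 ha.2)
  obtain ⟨e, he, hRe⟩ : ∃ e, (e = u ∨ e = w) ∧ R ≤ cn e := by
    by_cases hall : ∀ a ∈ I, a ∈ W → Commute u a
    · exact ⟨u, Or.inl rfl, hgen u hall⟩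
    refine ⟨w, Or.inr rfl, hgen w fun b hb hbW => ?_⟩
    push Not at hall
    obtain ⟨a, ha, haW, hau⟩ := hall
    have haw : Commute w a := (hfix a ha).resolve_left hau
    by_contra hbw
    have hbu : Commute u b := (hfix b hb).resolve_right hbw
    have hui : u⁻¹ = u := inv_eq_of_mul_eq_one_left hu2
    have hua : u * a * u⁻¹ = a⁻¹ := by
      have h1 : u = x * w := by rw [hw, ← mul_assoc, hx2, one_mul]
      rw [h1]
      calc x * w * a * (x * w)⁻¹ = x * (w * a * w⁻¹) * x⁻¹ := by group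
        _ = _ := by rw [haw.eq, mul_inv_cancel_right, ha.2]
    have hwb : w * b * w⁻¹ = b⁻¹ := by
      rw [hw]
      calc x * u * b * (x * u)⁻¹ = x * (u * b * u⁻¹) * x⁻¹ := by group
        _ = _ := by rw [hbu.eq, mul_inv_cancel_right, hb.2]
    have hcW : a * b * a ∈ W := W.mul_mem (W.mul_mem haW hbW) haW
    have hcI : a * b * a ∈ I := by
      refine ⟨hW.to_le (Subgroup.zpowers_le.2 hcW), ?_⟩
      calc x * (a * b * a) * x⁻¹ = (x * a * x⁻¹) * (x * b * x⁻¹) * (x * a * x⁻¹) := by group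
        _ = _ := by rw [ha.2, hb.2]; group
    rcases hfix _ hcI with h | h
    · exact hau (eq_one_of_commute_aba (hIodd a ha) (hIodd b hb) hua hbu h ▸ Commute.one_right u)
    · have h1 : w * (a * b * a) * w⁻¹ = a * b⁻¹ * a := by
        calc w * (a * b * a) * w⁻¹ = (w * a * w⁻¹) * (w * b * w⁻¹) * (w * a * w⁻¹) := by group
          _ = _ := by rw [hwb, haw.eq, mul_inv_cancel_right]
      rw [h.eq, mul_inv_cancel_right] at h1
      have h2 : b ^ 2 ∈ (⊥ : Subgroup G) := by
        rw [Subgroup.mem_bot, pow_two]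
        calc b * b = a⁻¹ * (a * b * a) * a⁻¹ * b := by group
          _ = a⁻¹ * (a * b⁻¹ * a) * a⁻¹ * b := by rw [h1]
          _ = 1 := by group
      exact hbw (Subgroup.mem_bot.1 (mem_of_sq_mem (hIodd b hb) h2) ▸ Commute.one_right w)
  intro z hz
  obtain ⟨he1, hEe⟩ := huv he
  have heE : e ∈ E := by
    rcases he with rfl | rfl
    exacts [huE, E.mul_mem hxE huE]
  have hzO : z ∈ oq q (cn e) := by
    have h1 : R = ⁅R, Subgroup.zpowers x⁆ := (C.comm_comm hW hne hxW).symm
    have h2 := C.key hne (C.cn_ne_top he1) (hEe hxE) (hW.to_le hRW) hRe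
      (le_normalizer_comm (Subgroup.zpowers_le.2 hxW) Subgroup.le_normalizer (Subgroup.mem_zpowers x))
    exact Subgroup.le_normalizer_iff_commutator_le_left.1
      (Subgroup.zpowers_le.2 (le_normalizer_oq (hEe hxE))) (h2 (h1 ▸ hz.1))
  have hzE : z ∈ Subgroup.centralizer (E : Set G) := by
    have h1 : E ≤ cn z := by
      have hxz : Commute x z := mem_cn.1 hz.2
      have hez : Commute e z := mem_cn.1 (hRe hz.1)
      rw [hE, Subgroup.closure_le]
      rintro g (rfl | rfl) <;> rw [SetLike.mem_coe, mem_cn]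
      · exact hxz.symm
      · rcases he with rfl | rfl
        · exact hez.symm
        · have h2 := hxz.mul_left hez
          rw [hw, ← mul_assoc, hx2, one_mul] at h2
          exact h2.symm
    exact fun g hg => (mem_cn.1 (h1 hg)).eq.symm
  have hzY : z ∈ Y := oq_inf_le_oq (L := Subgroup.centralizer (E : Set G)) (H := cn e)
    (fun g hg => mem_cn.2 (Subgroup.mem_centralizer_iff.1 hg e heE)) ⟨hzO, hzE⟩
  rw [hYbot, Subgroup.mem_bot] at hzY
  rw [hzY]
  exact one_mem _

end Two

/-- The fixed points of `x` in `[W, x]` lie in `O_q(C(x))`. -/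
theorem good {q : ℕ} [Fact q.Prime] (hne : q ≠ p) {W : Subgroup G}
    (hW : IsPGroup q W) (hxW : x ∈ Subgroup.normalizer (W : Set G)) :
    ⁅W, Subgroup.zpowers x⁆ ⊓ cn x ≤ oq q (cn x) := by
  by_cases hp : p = 2
  · obtain ⟨u, hu, hxu, hux⟩ := C.exists_commuting_conj hp
    exact C.good_two hp hu hxu hux hne hW hxW
  · exact C.good_odd hne hp hW hxW

/-- The frame of `⟨x⟩`. -/
theorem frame {q : ℕ} [Fact q.Prime] (hne : q ≠ p) :
    Frame (Subgroup.zpowers x) (oq q (cn x)) q where
  qprime := Fact.out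
  solv := C.solv
  cop W hW := C.cop hW hne
  key H W hH hEH hW hWH hEW :=
    C.key hne hH (hEH (Subgroup.mem_zpowers x)) hW hWH (hEW (Subgroup.mem_zpowers x))
  good W hW hEW := C.good hne hW (hEW (Subgroup.mem_zpowers x))
  Yq := isPGroup_oq
  Yc := oq_le
  Yn := le_normalizer_oq
  proper _ hD h1 := C.normalizer_ne_top' hD h1

end Ctx

end Cfsg.Agent.SecondFitting
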