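import Cfsg.Agent.Lib.SecondFitting.Setting

/-!
# The structure of a proper subgroup around the conjugates of `x`

* `SylIn p S M` : `S` is a maximal `p`-subgroup of `M`
* `fset p q H` : the join of the `O_s(H)`, `s ≠ p, q`; `fp p H = fset p p H`
* `xp_le_sup`, `le_sup_normalizer` : `xp p H = fp p H · Π`, `H = fp p H · N_H(Π)`
* `cg x P` : the subgroup generated by the conjugates of `x` in `P`
-/

set_option autoImplicit false
set_option linter.style.haveILetI false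
set_option linter.unusedSectionVars false

namespace Cfsg.Agent.SecondFitting

open scoped Pointwise commutatorElement

universe u

variable {G : Type u} [Group G] [Finite G] {p : ℕ} [Fact p.Prime]

/-- A maximal `p`-subgroup of `M`. -/
structure SylIn (p : ℕ) (S M : Subgroup G) : Prop where
  isP : IsPGroup p S
  le : S ≤ M
  max : ∀ P : Subgroup G, IsPGroup p P → S ≤ P → P ≤ M → P = S

theorem exists_sylIn {M P : Subgroup G} (hP : IsPGroup p P) (hPM : P ≤ M) :
    ∃ S, SylIn p S M ∧ P ≤ S := by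
  obtain ⟨S, ⟨hS, hSM, hPS⟩, hmax⟩ := exists_maximal_of_wellFoundedGT
    (fun S : Subgroup G => IsPGroup p S ∧ S ≤ M ∧ P ≤ S) ⟨P, hP, hPM, le_rfl⟩
  exact ⟨S, ⟨hS, hSM, fun Q hQ hSQ hQM =>
    le_antisymm (hmax ⟨hQ, hQM, hPS.trans hSQ⟩ hSQ) hSQ⟩, hPS⟩

/-- Sylow's theorem inside `M`. -/
theorem SylIn.exists_cj_le {S M P : Subgroup G} (hS : SylIn p S M) (hP : IsPGroup p P)
    (hPM : P ≤ M) : ∃ m ∈ M, P ≤ cj m S := by
  have hmax : ∀ Q : Subgroup M, IsPGroup p Q → S.subgroupOf M ≤ Q → Q = S.subgroupOf M := by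
    intro Q hQ hle
    have h1 : Q.map M.subtype = S := hS.max _ (hQ.map _)
      (by rw [← subgroupOf_map_subtype hS.le]; exact Subgroup.map_mono hle)
      (Subgroup.map_subtype_le _)
    rw [← h1, Subgroup.subgroupOf, Subgroup.comap_map_eq_self_of_injective M.subtype_injective]
  let Sy : Sylow p M :=
    ⟨S.subgroupOf M, hS.isP.comap_of_injective _ M.subtype_injective, fun hQ hle => hmax _ hQ hle⟩
  obtain ⟨P', hP'⟩ := (hP.comap_of_injective M.subtype M.subtype_injective).exists_le_sylow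
  obtain ⟨m, hm⟩ := MulAction.exists_smul_eq M Sy P'
  refine ⟨m, m.2, fun z hz => ?_⟩
  have h1 : (⟨z, hPM hz⟩ : M) ∈ ((m • Sy : Sylow p M) : Subgroup M) :=
    hm ▸ hP' (Subgroup.mem_subgroupOf.2 hz)
  rw [Sylow.coe_subgroup_smul, Coprime.mem_conj] at h1
  rw [mem_cj]
  exact h1

theorem SylIn.inf {S M X : Subgroup G} (hS : SylIn p S M) (hXM : X ≤ M)
    (hMX : M ≤ Subgroup.normalizer (X : Set G)) : SylIn p (S ⊓ X) X := by
  refine ⟨hS.isP.to_le inf_le_left, inf_le_right, fun P hP hle hPX => ?_⟩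
  obtain ⟨m, hm, hPm⟩ := hS.exists_cj_le hP (hPX.trans hXM)
  have h1 : P ≤ cj m (S ⊓ X) := by
    intro z hz
    rw [mem_cj]
    exact ⟨mem_cj.1 (hPm hz), by
      simpa using le_normalizer_iff.1 hMX m⁻¹ (M.inv_mem hm) z (hPX hz)⟩
  refine (Subgroup.eq_of_le_of_card_ge hle ?_).symm
  refine (Subgroup.card_le_of_le h1).trans (le_of_eq ?_)
  exact Subgroup.card_map_of_injective (MulAut.conj m).injective

/-- The join of the `O_s(H)`, `s ≠ p, q`. -/
def fset (p q : ℕ) (H : Subgroup G) : Subgroup G :=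
  ⨆ s : {s : Nat.Primes // (s : ℕ) ≠ p ∧ (s : ℕ) ≠ q}, oq (s.1 : ℕ) H

/-- The `p'`-part of `F(H)`. -/
abbrev fp (p : ℕ) (H : Subgroup G) : Subgroup G := fset p p H

theorem oq_le_fset {s q : ℕ} (hs : s.Prime) (h1 : s ≠ p) (h2 : s ≠ q) (H : Subgroup G) :
    oq s H ≤ fset p q H :=
  le_iSup (fun s : {s : Nat.Primes // (s : ℕ) ≠ p ∧ (s : ℕ) ≠ q} => oq (s.1 : ℕ) H)
    ⟨⟨s, hs⟩, h1, h2⟩

theorem fset_le {q : ℕ} {H : Subgroup G} : fset p q H ≤ H := iSup_le fun _ => oq_le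

theorem le_normalizer_fset {q : ℕ} {H : Subgroup G} :
    H ≤ Subgroup.normalizer (fset p q H : Set G) := fun g hg => by
  refine mem_normalizer_of_cj_le ?_
  rw [cj, fset, Subgroup.map_iSup]
  refine iSup_le fun s => ?_
  refine le_iSup_of_le s ?_
  exact (cj_eq_self (le_normalizer_oq (q := (s.1 : ℕ)) hg)).le

theorem fp_le_sup {q : ℕ} {H : Subgroup G} : fp p H ≤ oq q H ⊔ fset p q H :=
  iSup_le fun s => by
    by_cases h : (s.1 : ℕ) = q
    · exact h ▸ le_sup_left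
    · exact le_sup_of_le_right (oq_le_fset s.1.2 s.2.1 h H)

theorem fset_le_fp {q : ℕ} {H : Subgroup G} : fset p q H ≤ fp p H :=
  iSup_le fun s => oq_le_fset s.1.2 s.2.1 s.2.1 H

theorem oq_le_fp {s : ℕ} [Fact s.Prime] (h : s ≠ p) (H : Subgroup G) : oq s H ≤ fp p H :=
  oq_le_fset Fact.out h h H

theorem fset_commute {q : ℕ} [Fact q.Prime] {H : Subgroup G} :
    fset p q H ≤ Subgroup.centralizer (oq q H : Set G) :=
  iSup_le fun s => by
    haveI : Fact (s.1 : ℕ).Prime := ⟨s.1.2⟩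
    exact oq_commute (Ne.symm s.2.2)

theorem fset_map {q : ℕ} {H : Subgroup G} :
    fset p q H = (⨆ s : {s : Nat.Primes // (s : ℕ) ≠ p ∧ (s : ℕ) ≠ q},
      Cfsg.pCore (s.1 : ℕ) H).map H.subtype := by
  rw [Subgroup.map_iSup]
  rfl

theorem not_dvd_card_fset {q : ℕ} [Fact q.Prime] {H : Subgroup G} {r : ℕ} [Fact r.Prime]
    (hr : r = p ∨ r = q) : ¬ r ∣ Nat.card (fset p q H) := by
  rw [fset_map, Cores.card_map_subtype]
  intro hd
  have hle : (⨆ s : {s : Nat.Primes // (s : ℕ) ≠ p ∧ (s : ℕ) ≠ q}, Cfsg.pCore (s.1 : ℕ) H) ≤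
      Cfsg.pPrimeCore r H := iSup_le fun s => by
    haveI : Fact (s.1 : ℕ).Prime := ⟨s.1.2⟩
    refine Cores.le_pPrimeCore inferInstance ?_
    obtain ⟨n, hn⟩ := IsPGroup.iff_card.1 (Cores.isPGroup_pCore (s.1 : ℕ) H)
    rw [hn]
    refine Nat.Coprime.pow_left n ((Nat.coprime_primes s.1.2 Fact.out).2 ?_)
    rcases hr with rfl | rfl
    exacts [s.2.1, s.2.2]
  exact Cores.not_dvd_card_pPrimeCore (hd.trans (Subgroup.card_dvd_of_le hle))

theorem isSolvable_fset {q : ℕ} {H : Subgroup G} : Group.IsSolvable (fset p q H) := by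
  have h : Group.IsNilpotent (fset p q H) := by
    rw [fset_map]
    refine Cores.isNilpotent_map _ (Cores.isNilpotent_of_le_fittingSubgroup (iSup_le fun s => ?_))
    haveI : Fact (s.1 : ℕ).Prime := ⟨s.1.2⟩
    exact Cores.pCore_le_fittingSubgroup _
  exact inferInstance

theorem eq_one_of_mem_fp {H S : Subgroup G} (hS : IsPGroup p S) {z : G} (h1 : z ∈ fp p H)
    (h2 : z ∈ S) : z = 1 := by
  refine Coprime.eq_one_of_mem_of_mem ?_ h2 h1
  obtain ⟨n, hn⟩ := IsPGroup.iff_card.1 hS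
  rw [hn]
  exact Nat.Coprime.pow_left n ((Nat.Prime.coprime_iff_not_dvd Fact.out).2
    (not_dvd_card_fset (Or.inl rfl)))

/-- `g s g⁻¹` and `s` in one `p`-group, `g` in the `p'`-part: they are equal. -/
theorem commute_of_conj_mem {H S : Subgroup G} (hS : IsPGroup p S) {g s : G} (hg : g ∈ fp p H)
    (hs : s ∈ S) (hsH : s ∈ H) (h : g * s * g⁻¹ ∈ S) : Commute g s := by
  have h1 : g * s * g⁻¹ * s⁻¹ = 1 := by
    refine eq_one_of_mem_fp (H := H) hS ?_ (S.mul_mem h (S.inv_mem hs))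
    rw [show g * s * g⁻¹ * s⁻¹ = g * (s * g⁻¹ * s⁻¹) by group]
    exact (fp p H).mul_mem hg (le_normalizer_iff.1 le_normalizer_fset s hsH _ ((fp p H).inv_mem hg))
  exact mul_inv_eq_iff_eq_mul.1 (mul_inv_eq_one.1 h1)

/-- `xp p H = fp p H · Π`. -/
theorem xp_le_sup {H S : Subgroup G} (hS : SylIn p S (xp p H)) : xp p H ≤ fp p H ⊔ S := by
  set X := xp p H with hX
  set F := Cfsg.fittingSubgroup H with hF
  set f := QuotientGroup.mk' F
  have hOS : oq p H ≤ S := by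
    have hle : oq p H ≤ X := by
      rintro _ ⟨y, hy, rfl⟩
      refine ⟨y, ?_, rfl⟩
      show f y ∈ Cfsg.pCore p (H ⧸ F)
      rw [show f y = 1 from (QuotientGroup.eq_one_iff y).2 (Cores.pCore_le_fittingSubgroup p hy)]
      exact one_mem _
    have h1 : IsPGroup p ↥(S ⊔ oq p H) :=
      hS.isP.to_sup_of_normal_right' isPGroup_oq ((hS.le.trans xp_le).trans le_normalizer_oq)
    exact le_sup_right.trans (hS.max _ h1 le_sup_left (sup_le hS.le hle)).le
  have hFS : F.map H.subtype ≤ fp p H ⊔ S := by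
    rw [hF, Cores.fittingSubgroup_eq_iSup_pCore, Subgroup.map_iSup]
    refine iSup_le fun s => ?_
    by_cases h : (s : ℕ) = p
    · rw [h]; exact le_sup_of_le_right hOS
    · exact le_sup_of_le_left (oq_le_fset s.2 h h H)
  let φ : X →* H ⧸ F := f.comp (Subgroup.inclusion xp_le)
  have hφker : φ.ker ≤ (fp p H ⊔ S).subgroupOf X := fun z hz => by
    rw [MonoidHom.mem_ker] at hz
    refine Subgroup.mem_subgroupOf.2 (hFS ?_)
    exact ⟨Subgroup.inclusion xp_le z, (QuotientGroup.eq_one_iff _).1 hz, rfl⟩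
  have hmax : ∀ Q : Subgroup X, IsPGroup p Q → S.subgroupOf X ≤ Q → Q = S.subgroupOf X := by
    intro Q hQ hle
    have h1 : Q.map X.subtype = S := hS.max _ (hQ.map _)
      (by rw [← subgroupOf_map_subtype hS.le]; exact Subgroup.map_mono hle)
      (Subgroup.map_subtype_le _)
    rw [← h1, Subgroup.subgroupOf, Subgroup.comap_map_eq_self_of_injective X.subtype_injective]
  let Sy : Sylow p X :=
    ⟨S.subgroupOf X, hS.isP.comap_of_injective _ X.subtype_injective, fun hQ hle => hmax _ hQ hle⟩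
  set T := (fp p H ⊔ S).subgroupOf X with hT
  have h1 : T.index ∣ (Sy : Subgroup X).index :=
    Subgroup.index_dvd_of_le (fun z hz => Subgroup.mem_sup_right (Subgroup.mem_subgroupOf.1 hz))
  have h2 : T.index ∣ φ.ker.index := Subgroup.index_dvd_of_le hφker
  obtain ⟨k, hk⟩ : ∃ k, φ.ker.index = p ^ k := by
    rw [Subgroup.index_ker]
    refine IsPGroup.iff_card.1 ((Cores.isPGroup_pCore p (H ⧸ F)).to_le ?_)
    rintro _ ⟨⟨z, hz⟩, rfl⟩
    obtain ⟨y, hy, rfl⟩ := hz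
    exact hy
  have htop : T = ⊤ := Subgroup.index_eq_one.1 (Nat.eq_one_of_dvd_coprimes
    ((Nat.Prime.coprime_iff_not_dvd Fact.out).2 Sy.not_dvd_index |>.pow_left k) (hk ▸ h2) h1)
  intro z hz
  exact Subgroup.mem_subgroupOf.1 (htop ▸ Subgroup.mem_top (⟨z, hz⟩ : X) : (⟨z, hz⟩ : X) ∈ T)

/-- `H = fp p H · N_H(Π)`. -/
theorem le_sup_normalizer {H S : Subgroup G} (hS : SylIn p S (xp p H)) :
    H ≤ fp p H ⊔ (H ⊓ Subgroup.normalizer (S : Set G)) := by
  intro h hh
  have h1 : cj h S ≤ xp p H := by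
    refine (cj_mono hS.le).trans ?_
    rw [cj_eq_self (le_normalizer_xp hh)]
  obtain ⟨g, hg, hgle⟩ := hS.exists_cj_le (isPGroup_cj hS.isP) h1
  have h2 : g⁻¹ * h ∈ H ⊓ Subgroup.normalizer (S : Set G) :=
    ⟨H.mul_mem (H.inv_mem (xp_le hg)) hh, mem_normalizer_of_cj_le (by
      rw [← cj_cj]
      exact (cj_mono hgle).trans (cj_inv_cj g S).le)⟩
  have hle : xp p H ≤ fp p H ⊔ (H ⊓ Subgroup.normalizer (S : Set G)) :=
    (xp_le_sup hS).trans (sup_le_sup_left (le_inf (hS.le.trans xp_le) Subgroup.le_normalizer) _)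
  have : h = g * (g⁻¹ * h) := by group
  rw [this]
  exact Subgroup.mul_mem _ (hle hg) (Subgroup.mem_sup_right h2)

/-- Two `p`-subgroups of `xp p H`: one goes into the Sylow containing the other by an element of
`fp p H`. -/
theorem exists_fp_conj {H S P : Subgroup G} (hS : SylIn p S (xp p H)) (hP : IsPGroup p P)
    (hPH : P ≤ xp p H) : ∃ f ∈ fp p H, cj f P ≤ S := by
  obtain ⟨g, hg, hgle⟩ := hS.exists_cj_le hP hPH
  have hSN : S ≤ Subgroup.normalizer (fp p H : Set G) :=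
    (hS.le.trans xp_le).trans le_normalizer_fset
  obtain ⟨f, hf, s, hs, rfl⟩ := (Coprime.mem_sup_iff hSN).1 (xp_le_sup hS hg)
  refine ⟨f⁻¹, (fp p H).inv_mem hf, ?_⟩
  calc cj f⁻¹ P ≤ cj f⁻¹ (cj (f * s) S) := cj_mono hgle
    _ = cj s S := by rw [cj_cj, inv_mul_cancel_left]
    _ = S := cj_eq_self (Subgroup.le_normalizer hs)

/-- The subgroup generated by the conjugates of `x` in `P`. -/
def cg (x : G) (P : Subgroup G) : Subgroup G := Subgroup.closure {w | IsConj x w ∧ w ∈ P}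

theorem cg_le {x : G} {P : Subgroup G} : cg x P ≤ P := (Subgroup.closure_le P).2 fun _ h => h.2

theorem mem_cg {x w : G} {P : Subgroup G} (h : IsConj x w) (hw : w ∈ P) : w ∈ cg x P :=
  Subgroup.subset_closure ⟨h, hw⟩

theorem cg_mono {x : G} {P Q : Subgroup G} (h : P ≤ Q) : cg x P ≤ cg x Q :=
  Subgroup.closure_mono fun _ hw => ⟨hw.1, h hw.2⟩

theorem cg_cg {x : G} {P : Subgroup G} : cg x (cg x P) = cg x P :=
  le_antisymm (cg_mono cg_le) ((Subgroup.closure_le _).2 fun _ hw =>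
    mem_cg hw.1 (mem_cg hw.1 hw.2))

theorem isConj_conj {x w : G} (g : G) (h : IsConj x w) : IsConj x (g * w * g⁻¹) :=
  h.trans (isConj_iff.2 ⟨g, rfl⟩)

theorem cg_cj {x : G} (g : G) (P : Subgroup G) : cg x (cj g P) = cj g (cg x P) := by
  refine le_antisymm ((Subgroup.closure_le _).2 fun w hw => ?_) ?_
  · refine mem_cj.2 (mem_cg ?_ (mem_cj.1 hw.2))
    simpa using isConj_conj g⁻¹ hw.1
  · rw [cg, cj, MonoidHom.map_closure, Subgroup.closure_le]
    rintro _ ⟨w, ⟨hw, hwP⟩, rfl⟩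
    exact mem_cg (isConj_conj g hw) (conj_mem_cj.2 hwP)

theorem normalizer_le_normalizer_cg {x : G} {P : Subgroup G} :
    Subgroup.normalizer (P : Set G) ≤ Subgroup.normalizer (cg x P : Set G) := fun g hg =>
  mem_normalizer_of_cj_le (by rw [← cg_cj, cj_eq_self hg])

end Cfsg.Agent.SecondFitting
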