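import Cfsg.Agent.Lib.SecondFitting.Members
import Cfsg.Agent.Lib.SecondFitting.Struct

/-!
# `p`-groups containing `x` and the maximal subgroup over a member

* one member: `Ctx.normalizer_cg_le`, `Ctx.single_loc`
* several members (fixed-point-free): `Ctx.multi_le_normalizer`, `Ctx.multi_normalizer`
* `Ctx.loc` : both
-/

set_option autoImplicit false
set_option linter.style.haveILetI false
set_option linter.unusedSectionVars false

namespace Cfsg.Agent.SecondFitting

open scoped Pointwise commutatorElement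

universe u

variable {G : Type u} [Group G] [Finite G]

/-- What `M` does for the `p`-groups containing `x`. -/
structure Loc (x : G) (p q : ℕ) (M : Subgroup G) : Prop where
  sylow : ∀ P : Subgroup G, IsPGroup p P → x ∈ P → P ≤ M
  norm : ∀ P : Subgroup G, IsPGroup p P → x ∈ P → Subgroup.normalizer (P : Set G) ≤ M
  cent : ∀ (P : Subgroup G) (v : G), IsPGroup p P → x ∈ P → v ∈ P → IsConj x v → cn v ≤ M
  conjIn : Single x q → ∀ (P : Subgroup G) (v : G), IsPGroup p P → x ∈ P → v ∈ P → IsConj x v →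
    ∃ m ∈ M, v = m * x * m⁻¹

theorem isCoatom_cj {g : G} {M : Subgroup G} (hM : IsCoatom M) : IsCoatom (cj g M) := by
  refine ⟨cj_ne_top hM.1, fun K hK => ?_⟩
  have h1 : M < cj g⁻¹ K :=
    lt_of_le_of_ne (by simpa [cj_inv_cj] using cj_mono (g := g⁻¹) hK.le) fun h => hK.ne (by
      rw [h, cj_cj_inv])
  rw [eq_top_iff]
  intro z _
  simpa [mem_cj, mul_assoc] using (hM.2 _ h1).ge (Subgroup.mem_top (g⁻¹ * z * g))

theorem over_cj {x : G} {U M : Subgroup G} (g : G) (h : Ctx.Over x U M) :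
    Ctx.Over (g * x * g⁻¹) (cj g U) (cj g M) := by
  refine ⟨isCoatom_cj h.coatom, ?_⟩
  rw [← rr_cj, normalizer_cj]
  exact cj_mono h.le

namespace Ctx

variable {p : ℕ} {x : G} (C : Ctx G p x) {q : ℕ} [Fact q.Prime] (hne : q ≠ p) {U M : Subgroup G}
  (hU : Cl x q U) (hM : Over x U M)

include C hne hU hM

/-- Conjugates of `M` through which a conjugate of `x` in a common `p`-group passes see the same
commutators with that group. -/
theorem comm_cg_le (hs : Single x q) {g : G} {P : Subgroup G} (hx : x ∈ P) (hPM : P ≤ cj g M)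
    (hxg : g * x * g⁻¹ ∈ P) (hPM' : P ≤ M) :
    ⁅oq q M, cg x P⁆ ≤ ⁅oq q (cj g M), cg x P⁆ ∧ ⁅oq q (cj g M), cg x P⁆ ≤ ⁅oq q M, cg x P⁆ := by
  have Cg := C.conj g
  have hUg := cl_map g hU
  have hMg := over_cj g hM
  -- one direction, for any two maximal subgroups
  have key : ∀ A B : Subgroup G, B ≠ ⊤ → P ≤ A → P ≤ B → oq q A ≤ B →
      ⁅oq q A, cg x P⁆ ≤ ⁅oq q B, cg x P⁆ := by
    intro A B hB hPA hPB hAB
    conv_lhs => rw [cg]
    refine commutator_closure_le (fun w hw => ?_) fun a ha w hw => ?_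
    · exact le_normalizer_comm (A := P) (hPB.trans le_normalizer_oq)
        (Subgroup.le_normalizer.trans normalizer_le_normalizer_cg) hw.2
    · have Cw := C.of_isConj hw.1
      have h1 := Cw.key hne hB (hPB hw.2) isPGroup_oq hAB (le_normalizer_oq (hPA hw.2))
        (Subgroup.commutator_mem_commutator ha (Subgroup.mem_zpowers w))
      exact Subgroup.commutator_mono le_rfl (Subgroup.zpowers_le.2 (mem_cg hw.1 hw.2)) h1
  refine ⟨key _ _ (cj_ne_top hM.coatom.1) hPM' hPM ?_, key _ _ hM.coatom.1 hPM hPM' ?_⟩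
  · exact Cg.le_of_single hne hUg hMg (single_map g hs) isPGroup_oq (le_normalizer_oq (hPM' hxg))
  · exact C.le_of_single hne hU hM hs isPGroup_oq (le_normalizer_oq (hPM hx))

/-- For a Sylow subgroup `S ∋ x` of `M`, `N([O_q(M), ⟨x^G ∩ S⟩]) = M`. -/
theorem normalizer_comm_cg {S : Subgroup G} (hS : SylIn p S M) (hxS : x ∈ S) :
    Subgroup.normalizer ((⁅oq q M, cg x S⁆ : Subgroup G) : Set G) = M := by
  haveI := C.fact
  set Q := oq q M
  set T := S ⊓ xp p M with hT
  have hTS : SylIn p T (xp p M) := hS.inf xp_le le_normalizer_xp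
  have hcg : cg x T = cg x S := le_antisymm (cg_mono inf_le_left)
    ((Subgroup.closure_le _).2 fun w hw =>
      mem_cg hw.1 ⟨hw.2, C.mem_xp hM.coatom.1 hw.1 (hS.le hw.2)⟩)
  set Qs := ⁅Q, cg x S⁆ with hQs
  have hQsQ : Qs ≤ Q :=
    Subgroup.le_normalizer_iff_commutator_le_left.1 ((cg_le.trans hS.le).trans le_normalizer_oq)
  have hQs1 : Qs ≠ ⊥ := fun h => hU.mov (le_bot_iff.1 (by
    rw [show ⁅U, Subgroup.zpowers x⁆ = ⁅Q, Subgroup.zpowers x⁆ from (C.rr_eq hne hU hM).symm, ← h]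
    exact Subgroup.commutator_mono le_rfl (Subgroup.zpowers_le.2 (mem_cg (IsConj.refl x) hxS))))
  refine (hM.coatom.le_iff.1 ?_).resolve_left
    (C.normalizer_ne_top' (isPGroup_oq.to_le hQsQ) hQs1)
  refine (le_sup_normalizer hTS).trans (sup_le ?_ ?_)
  · refine (fp_le_sup (q := q)).trans (sup_le ?_ ?_)
    · exact (Subgroup.normalizer_commutator_ge_left Q (cg x S))
    · intro f hf
      refine mem_normalizer_of_cj_le ?_
      rw [cj_comm, cj_eq_self (le_normalizer_oq (fset_le hf))]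
      conv_lhs => rw [cg, cj, MonoidHom.map_closure]
      refine commutator_closure_le ?_ ?_
      · rintro _ ⟨w, hw, rfl⟩
        have hwN : w ∈ Subgroup.normalizer (Qs : Set G) :=
          le_normalizer_comm (A := S) (hS.le.trans le_normalizer_oq)
            (Subgroup.le_normalizer.trans normalizer_le_normalizer_cg) hw.2
        have hfC : f ∈ Subgroup.centralizer (Qs : Set G) :=
          fun z hz => fset_commute hf z (hQsQ hz)
        have hfN := centralizer_le_normalizer_self _ hfC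
        show f * w * f⁻¹ ∈ _
        exact mul_mem (mul_mem hfN hwN) (inv_mem hfN)
      · rintro a ha _ ⟨w, hw, rfl⟩
        show ⁅a, f * w * f⁻¹⁆ ∈ Qs
        have hfa : Commute a f := (fset_commute hf) a ha
        have hwa : w * a⁻¹ * w⁻¹ ∈ Q :=
          le_normalizer_iff.1 le_normalizer_oq w (hS.le hw.2) _ (Q.inv_mem ha)
        have hfwa : Commute (w * a⁻¹ * w⁻¹) f := (fset_commute hf) _ hwa
        have e : ⁅a, f * w * f⁻¹⁆ = ⁅a, w⁆ := by
          rw [commutatorElement_def, commutatorElement_def]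
          calc a * (f * w * f⁻¹) * a⁻¹ * (f * w * f⁻¹)⁻¹
              = (a * f) * w * (f⁻¹ * a⁻¹) * f * w⁻¹ * f⁻¹ := by group
            _ = (f * a) * w * (a⁻¹ * f⁻¹) * f * w⁻¹ * f⁻¹ := by
                rw [hfa.eq, hfa.inv_inv.eq]
            _ = f * a * (w * a⁻¹ * w⁻¹) * f⁻¹ := by group
            _ = a * f * (w * a⁻¹ * w⁻¹) * f⁻¹ := by rw [hfa.eq]
            _ = a * ((w * a⁻¹ * w⁻¹) * f) * f⁻¹ := by rw [hfwa.eq]; group
            _ = _ := by group
        rw [e]
        exact Subgroup.commutator_mem_commutator ha (mem_cg hw.1 hw.2)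
  · refine le_normalizer_comm (inf_le_left.trans le_normalizer_oq) ?_
    refine inf_le_right.trans ?_
    rw [← hcg]
    exact normalizer_le_normalizer_cg

/-- One member: `N(⟨x^G ∩ P⟩) ≤ M`. -/
theorem normalizer_cg_le (hs : Single x q) : ∀ (P : Subgroup G), IsPGroup p P → x ∈ P → P ≤ M →
    Subgroup.normalizer (cg x P : Set G) ≤ M := by
  haveI := C.fact
  suffices ∀ n (P : Subgroup G), Nat.card G - Nat.card (cg x P) = n → IsPGroup p P → x ∈ P → P ≤ M →
      Subgroup.normalizer (cg x P : Set G) ≤ M from fun P => this _ P rfl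
  intro n
  induction n using Nat.strong_induction_on with
  | _ n ih =>
  intro P hn hP hxP hPM
  set Pc := cg x P with hPc
  have hPcp : IsPGroup p Pc := hP.to_le cg_le
  have hxPc : x ∈ Pc := mem_cg (IsConj.refl x) hxP
  set H := Subgroup.normalizer (Pc : Set G) with hH
  have hHtop : H ≠ ⊤ := C.normalizer_ne_top' hPcp fun h => C.ne_one (Subgroup.mem_bot.1 (h ▸ hxPc))
  obtain ⟨T, hT, hPcT⟩ := exists_sylIn hPcp
    (le_inf (cg_le.trans hPM) Subgroup.le_normalizer : Pc ≤ M ⊓ H)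
  have hxT : x ∈ T := hPcT hxPc
  have hTM : T ≤ M := hT.le.trans inf_le_left
  have hPc2 : Pc ≤ cg x T := by
    rw [hPc, ← cg_cg]
    exact cg_mono hPcT
  rcases hPc2.lt_or_eq with hlt | heq
  · have hN2 : Subgroup.normalizer (cg x T : Set G) ≤ M := by
      refine ih _ ?_ T rfl hT.isP hxT hTM
      rw [← hn]
      have h1 : Nat.card Pc < Nat.card (cg x T) := by
        by_contra hle
        exact hlt.ne (Subgroup.eq_of_le_of_card_ge hlt.le (not_lt.1 hle))
      have h2 := Subgroup.card_le_card_group (cg x T)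
      omega
    have hTH : SylIn p T H := ⟨hT.isP, hT.le.trans inf_le_right, fun R hR hTR hRH => by
      refine (Isolated.eq_of_normalizer_le hR hTR fun g hgR hgN => ?_).symm
      have hgM : g ∈ M := hN2 (normalizer_le_normalizer_cg hgN)
      refine (hT.max (R ⊓ M) (hR.to_le inf_le_left) (le_inf hTR hTM) ?_).le ⟨hgR, hgM⟩
      exact le_inf inf_le_right (inf_le_left.trans hRH)⟩
    set X := T ⊓ xp p H
    have hX : SylIn p X (xp p H) := hTH.inf xp_le le_normalizer_xp
    have hcgX : cg x X = cg x T := le_antisymm (cg_mono inf_le_left)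
      ((Subgroup.closure_le _).2 fun w hw =>
        mem_cg hw.1 ⟨hw.2, C.mem_xp hHtop hw.1 (hTH.le hw.2)⟩)
    refine (le_sup_normalizer hX).trans (sup_le ?_ ?_)
    · refine (iSup_le fun s => ?_).trans (C.cn_le_over hne hU hM)
      haveI : Fact (s.1 : ℕ).Prime := ⟨s.1.2⟩
      have hPcO : Pc ≤ oq p H := le_oq Subgroup.le_normalizer le_rfl hPcp
      intro z hz
      exact mem_cn.2 (oq_commute s.2.1 (hPcO hxPc) z hz).symm
    · refine (inf_le_right.trans ?_).trans hN2
      rw [← hcgX]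
      exact normalizer_le_normalizer_cg
  · have hTMax : SylIn p T M := ⟨hT.isP, hTM, fun R hR hTR hRM => by
      refine (Isolated.eq_of_normalizer_le hR hTR fun g hgR hgN => ?_).symm
      have hgH : g ∈ H := by
        rw [hH, heq]
        exact normalizer_le_normalizer_cg hgN
      refine (hT.max (R ⊓ H) (hR.to_le inf_le_left) (le_inf hTR (hT.le.trans inf_le_right)) ?_).le
        ⟨hgR, hgH⟩
      exact le_inf (inf_le_left.trans hRM) inf_le_right⟩
    intro g hg
    rw [← C.normalizer_comm_cg hne hU hM hTMax hxT, ← heq]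
    have hgPc : cj g Pc = Pc := cj_eq_self hg
    have hxg : g * x * g⁻¹ ∈ Pc := hgPc.le (conj_mem_cj.2 hxPc)
    have hPcg : Pc ≤ cj g M := by
      rw [← hgPc]
      exact cj_mono (cg_le.trans hPM)
    have h2 := C.comm_cg_le hne hU hM hs hxPc hPcg hxg (cg_le.trans hPM)
    rw [hPc, cg_cg] at h2
    refine mem_normalizer_of_cj_le ?_
    rw [cj_comm, oq_cj, hgPc]
    exact h2.2

theorem single_sylow (hs : Single x q) {P : Subgroup G} (hP : IsPGroup p P) (hxP : x ∈ P) :
    P ≤ M := by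
  haveI := C.fact
  have hxM := C.mem_over hne hU hM
  refine inf_eq_left.1 (Isolated.eq_of_normalizer_le hP (inf_le_left : P ⊓ M ≤ P) fun g hgP hgN =>
    ⟨hgP, C.normalizer_cg_le hne hU hM hs (P ⊓ M) (hP.to_le inf_le_left) ⟨hxP, hxM⟩ inf_le_right
      (normalizer_le_normalizer_cg hgN)⟩)

theorem single_norm (hs : Single x q) {P : Subgroup G} (hP : IsPGroup p P) (hxP : x ∈ P) :
    Subgroup.normalizer (P : Set G) ≤ M :=
  normalizer_le_normalizer_cg.trans
    (C.normalizer_cg_le hne hU hM hs P hP hxP (C.single_sylow hne hU hM hs hP hxP))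

theorem single_conjIn (hs : Single x q) {P : Subgroup G} {g : G} (hP : IsPGroup p P) (hxP : x ∈ P)
    (hgP : g * x * g⁻¹ ∈ P) : g ∈ M := by
  haveI := C.fact
  -- the statements for `x`, pushed to the conjugate
  have hnorm' : ∀ R : Subgroup G, IsPGroup p R → g * x * g⁻¹ ∈ R →
      Subgroup.normalizer (R : Set G) ≤ cj g M := fun R hR hgR => by
    rw [le_cj_iff, ← normalizer_cj]
    exact C.single_norm hne hU hM hs (isPGroup_cj hR) (mem_cj.2 (by simpa [mul_assoc] using hgR))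
  have hPD : P ≤ M ⊓ cj g M :=
    le_inf (C.single_sylow hne hU hM hs hP hxP) (Subgroup.le_normalizer.trans (hnorm' P hP hgP))
  obtain ⟨T, hT, hPT⟩ := exists_sylIn hP hPD
  have hxT := hPT hxP
  have hgT := hPT hgP
  have hN : Subgroup.normalizer (T : Set G) ≤ M ⊓ cj g M :=
    le_inf (C.single_norm hne hU hM hs hT.isP hxT) (hnorm' T hT.isP hgT)
  have hmax : ∀ A : Subgroup G, T ≤ A → SylIn p T A := fun A hTA => ⟨hT.isP, hTA, fun R hR hTR _ => by
    refine (Isolated.eq_of_normalizer_le hR hTR fun h hhR hhN => ?_).symm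
    exact (hT.max (R ⊓ (M ⊓ cj g M)) (hR.to_le inf_le_left) (le_inf hTR hT.le) inf_le_right).le
      ⟨hhR, hN hhN⟩⟩
  have hTM : T ≤ M := hT.le.trans inf_le_left
  have hTg : T ≤ cj g M := hT.le.trans inf_le_right
  have h1 := C.normalizer_comm_cg hne hU hM (hmax M hTM) hxT
  have hT' : SylIn p (cj g⁻¹ T) M := ⟨isPGroup_cj hT.isP,
    by simpa [cj_inv_cj] using cj_mono (g := g⁻¹) hTg, fun R hR hTR hRM => by
      rw [← cj_inv_cj g R, (hmax (cj g M) hTg).max (cj g R) (isPGroup_cj hR) (by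
        simpa [cj_cj_inv] using cj_mono (g := g) hTR) (cj_mono hRM)]⟩
  have h2 := C.normalizer_comm_cg hne hU hM hT' (mem_cj.2 (by simpa [mul_assoc] using hgT))
  have h3 := C.comm_cg_le hne hU hM hs hxT hTg hgT hTM
  have h4 : cj g M = M := by
    conv_lhs => rw [← h2]
    rw [← normalizer_cj, cj_comm, oq_cj, ← cg_cj, cj_cj_inv, le_antisymm h3.2 h3.1]
    exact h1
  rw [← C.normalizer_over hne hU hM]
  exact mem_normalizer_of_cj_le h4.le

end Ctx

namespace Ctx

variable {p : ℕ} {x : G} (C : Ctx G p x) {q : ℕ} [Fact q.Prime] (hne : q ≠ p)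

include C hne

theorem rr_eq_self (hs : ¬ Single x q) {U : Subgroup G} (hU : Cl x q U) : rr x U = U := by
  have h := C.split hne hU.om.1 (hU.om.2.1 (Subgroup.mem_zpowers x))
  rwa [C.inf_cn_eq_bot hne hs hU.om.1, sup_bot_eq] at h

theorem not_single_of_isConj (hs : ¬ Single x q) {v : G} (hv : IsConj x v) : ¬ Single v q := by
  obtain ⟨g, rfl⟩ := isConj_iff.1 hv
  intro h
  have := single_map g⁻¹ h
  simp [mul_assoc] at this
  exact hs this

theorem multi_fpf (hs : ¬ Single x q) {v : G} (hv : IsConj x v) {W : Subgroup G} (hW : IsPGroup q W) :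
    W ⊓ cn v = ⊥ :=
  (C.of_isConj hv).inf_cn_eq_bot hne (C.not_single_of_isConj hne hs hv) hW

/-- Two conjugates in a `p`-group normalising `R`, one twisted by `a ∈ R`: they reach into `R`. -/
theorem multi_meet (hs : ¬ Single x q) {P R : Subgroup G} (hP : IsPGroup p P) (hR : IsPGroup q R)
    (hPR : P ≤ Subgroup.normalizer (R : Set G)) {v w a : G} (hv : IsConj x v) (hw : IsConj x w)
    (hvP : v ∈ P) (hwP : w ∈ P) (ha : a ∈ R) (ha1 : a ≠ 1) :
    R ⊓ Subgroup.closure ({v, a * w * a⁻¹} : Set G) ≠ ⊥ := by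
  haveI := C.fact
  intro hbot
  set J := Subgroup.closure ({v, a * w * a⁻¹} : Set G) with hJ
  set P₀ := Subgroup.closure ({v, w} : Set G) with hP₀
  have hP₀P : P₀ ≤ P := by
    rw [hP₀, Subgroup.closure_le]
    rintro z (rfl | rfl)
    exacts [hvP, hwP]
  have hvJ : v ∈ J := Subgroup.subset_closure (Or.inl rfl)
  have hwJ : a * w * a⁻¹ ∈ J := Subgroup.subset_closure (Or.inr rfl)
  have hcover : ∀ z ∈ P₀, ∃ k ∈ R, k * z ∈ J := by
    intro z hz
    rw [hP₀] at hz
    induction hz using Subgroup.closure_induction with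
    | mem z hz =>
      rcases hz with rfl | rfl
      · exact ⟨1, R.one_mem, by simpa using hvJ⟩
      · refine ⟨a * (z * a⁻¹ * z⁻¹),
          R.mul_mem ha (le_normalizer_iff.1 hPR z hwP _ (R.inv_mem ha)), ?_⟩
        rw [show a * (z * a⁻¹ * z⁻¹) * z = a * z * a⁻¹ by group]
        exact hwJ
    | one => exact ⟨1, R.one_mem, by simp⟩
    | mul b c hb _ ihb ihc =>
      obtain ⟨k, hk, hkJ⟩ := ihb
      obtain ⟨l, hl, hlJ⟩ := ihc
      refine ⟨k * (b * l * b⁻¹), R.mul_mem hk (le_normalizer_iff.1 hPR b (hP₀P hb) l hl), ?_⟩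
      have := J.mul_mem hkJ hlJ
      simpa [mul_assoc] using this
    | inv b hb ihb =>
      obtain ⟨k, hk, hkJ⟩ := ihb
      refine ⟨b⁻¹ * k⁻¹ * b, ?_, ?_⟩
      · simpa using le_normalizer_iff.1 hPR b⁻¹ (P.inv_mem (hP₀P hb)) _ (R.inv_mem hk)
      · simpa [mul_assoc] using J.inv_mem hkJ
  obtain ⟨n, hn, hnJ⟩ := Coprime.exists_conj_le_of_forall (hP₀P.trans hPR)
    (IsPGroup.coprime_card_of_ne p q (Ne.symm hne) _ _ (hP.to_le hP₀P) hR)
    (Or.inr (Coprime.isSolvable_of_isPGroup hR)) J hcover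
  have hnv : n * v * n⁻¹ * v⁻¹ ∈ R ⊓ J := by
    refine ⟨?_, J.mul_mem (hnJ (Coprime.conj_mem_conj.2 (Subgroup.subset_closure (Or.inl rfl))))
      (J.inv_mem hvJ)⟩
    rw [show n * v * n⁻¹ * v⁻¹ = n * (v * n⁻¹ * v⁻¹) by group]
    exact R.mul_mem hn (le_normalizer_iff.1 hPR v hvP _ (R.inv_mem hn))
  rw [hbot, Subgroup.mem_bot, mul_inv_eq_one, mul_inv_eq_iff_eq_mul] at hnv
  have hn1 : n = 1 := Subgroup.mem_bot.1
    (C.multi_fpf hne hs hv hR ▸ ⟨hn, mem_cn.2 hnv.symm⟩ : n ∈ (⊥ : Subgroup G))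
  have hwJ' : w ∈ J := by
    have h1 := hnJ (Coprime.conj_mem_conj.2
      (Subgroup.subset_closure (Or.inr rfl) : w ∈ P₀) : n * w * n⁻¹ ∈ MulAut.conj n • P₀)
    simpa [hn1] using h1
  have haw : a * w * a⁻¹ * w⁻¹ ∈ R ⊓ J := by
    refine ⟨?_, J.mul_mem hwJ (J.inv_mem hwJ')⟩
    rw [show a * w * a⁻¹ * w⁻¹ = a * (w * a⁻¹ * w⁻¹) by group]
    exact R.mul_mem ha (le_normalizer_iff.1 hPR w hwP _ (R.inv_mem ha))
  rw [hbot, Subgroup.mem_bot, mul_inv_eq_one, mul_inv_eq_iff_eq_mul] at haw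
  exact ha1 (Subgroup.mem_bot.1
    (C.multi_fpf hne hs hw hR ▸ ⟨ha, mem_cn.2 haw.symm⟩ : a ∈ (⊥ : Subgroup G)))

/-- The members of one conjugate in `P` are those of the others, when `P` normalises them all. -/
theorem multi_same (hs : ¬ Single x q) {P : Subgroup G}
    (hnorm : ∀ v, IsConj x v → v ∈ P → ∀ R, Cl v q R → P ≤ Subgroup.normalizer (R : Set G))
    {v w : G} (hv : IsConj x v) (hvP : v ∈ P) (hw : IsConj x w) (hwP : w ∈ P) {R : Subgroup G}
    (hR : Cl v q R) : Cl w q R := by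
  have Cv := C.of_isConj hv
  have Cw := C.of_isConj hw
  have hsw := C.not_single_of_isConj hne hs hw
  have hsv := C.not_single_of_isConj hne hs hv
  have hwR : w ∈ Subgroup.normalizer (R : Set G) := hnorm v hv hvP R hR hwP
  have hsplit := Cw.split hne hR.om.1 hwR
  rw [C.multi_fpf hne hs hw hR.om.1, sup_bot_eq] at hsplit
  have hR1 : R ≠ ⊥ := fun h => hR.mov (by rw [h]; exact Subgroup.commutator_bot_left _)
  obtain ⟨W, hW, hle⟩ := Cw.exists_cl hne hR.om.1 hwR (by rw [hsplit]; exact hR1)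
  rw [hsplit] at hle
  have hRW : R ≤ W := hle.trans (Cw.rr_le hne hW)
  have hom : Om (Subgroup.zpowers v) (oq q (cn v)) q W :=
    ⟨hW.om.1, Subgroup.zpowers_le.2 (hnorm w hw hwP W hW hvP),
      (C.multi_fpf hne hs hv hW.om.1).le.trans bot_le⟩
  rw [← hR.max W hom hRW]
  exact hW

theorem multi_step (hs : ¬ Single x q) {P : Subgroup G} (hP : IsPGroup p P)
    (hnorm : ∀ v, IsConj x v → v ∈ P → ∀ R, Cl v q R → P ≤ Subgroup.normalizer (R : Set G))
    {v : G} (hv : IsConj x v) (hvP : v ∈ P) {R : Subgroup G} (hR : Cl v q R) {h : G}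
    (hh : h ∈ Subgroup.normalizer (P : Set G)) : h ∈ Subgroup.normalizer (R : Set G) := by
  have Cv := C.of_isConj hv
  set v' := h * v * h⁻¹ with hv'
  have hv'c : IsConj x v' := isConj_conj h hv
  have hv'P : v' ∈ P := (Subgroup.mem_normalizer_iff.1 hh v).1 hvP
  have hR' : Cl v' q R := C.multi_same hne hs hnorm hv hvP hv'c hv'P hR
  set S := cj h⁻¹ R with hS
  have hS' : Cl v q S := by
    have := cl_map h⁻¹ hR'
    simpa [hv', mul_assoc] using this
  obtain ⟨a, ha, ha1⟩ := R.bot_or_exists_ne_one.resolve_left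
    (fun h0 => hR.mov (by rw [h0]; exact Subgroup.commutator_bot_left _))
  have hPR : P ≤ Subgroup.normalizer (R : Set G) := hnorm v hv hvP R hR
  set y := a * h with hy
  set K := Subgroup.closure ({v, y} : Set G) with hK
  have hvK : v ∈ K := Subgroup.subset_closure (Or.inl rfl)
  have hyK : y ∈ K := Subgroup.subset_closure (Or.inr rfl)
  have h1 : R ⊓ Subgroup.closure ({v, a * v' * a⁻¹} : Set G) ≤ R ⊓ K := by
    refine inf_le_inf_left R ((Subgroup.closure_le K).2 ?_)
    rintro z (rfl | rfl)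
    · exact hvK
    · rw [show a * v' * a⁻¹ = y * v * y⁻¹ by rw [hy, hv']; group]
      exact K.mul_mem (K.mul_mem hyK hvK) (K.inv_mem hyK)
  have h2 : cj h⁻¹ (R ⊓ Subgroup.closure ({v', a⁻¹ * v * a⁻¹⁻¹} : Set G)) ≤ S ⊓ K := by
    refine le_inf (cj_mono inf_le_left) ((cj_mono inf_le_right).trans ?_)
    rw [cj, MonoidHom.map_closure, Subgroup.closure_le]
    rintro _ ⟨z, (rfl | rfl), rfl⟩
    · show h⁻¹ * v' * h⁻¹⁻¹ ∈ K
      rw [hv']
      simpa [mul_assoc] using hvK
    · show h⁻¹ * (a⁻¹ * v * a⁻¹⁻¹) * h⁻¹⁻¹ ∈ K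
      rw [show h⁻¹ * (a⁻¹ * v * a⁻¹⁻¹) * h⁻¹⁻¹ = y⁻¹ * v * y by rw [hy]; group]
      exact K.mul_mem (K.mul_mem (K.inv_mem hyK) hvK) hyK
  have hmoved : ∀ T : Subgroup G, IsPGroup q T → T ≠ ⊥ → v ∈ Subgroup.normalizer (T : Set G) →
      ⁅T, Subgroup.zpowers v⁆ ≠ ⊥ := fun T hT hT1 hvT h0 => hT1 (by
    have h3 := Cv.split hne hT hvT
    rwa [h0, C.multi_fpf hne hs hv hT, sup_bot_eq, eq_comm] at h3)
  have hA1 : R ⊓ K ≠ ⊥ := fun h0 => C.multi_meet hne hs hP hR.om.1 hPR hv hv'c hvP hv'P ha ha1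
    (le_bot_iff.1 (h1.trans h0.le))
  have hB1 : S ⊓ K ≠ ⊥ := fun h0 =>
    C.multi_meet hne hs hP hR.om.1 hPR hv'c hv hv'P hvP (R.inv_mem ha) (inv_ne_one.2 ha1)
      (cj_eq_bot.1 (le_bot_iff.1 (h2.trans h0.le)))
  have hzR : v ∈ Subgroup.normalizer (R : Set G) := hR.om.2.1 (Subgroup.mem_zpowers v)
  have hzS : v ∈ Subgroup.normalizer (S : Set G) := hS'.om.2.1 (Subgroup.mem_zpowers v)
  have hzK : v ∈ Subgroup.normalizer (K : Set G) := Subgroup.le_normalizer hvK
  have heq : R = S := Cv.eq_of_meet hne hR hS' (Cv.gen y) hvK inf_le_left inf_le_right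
    (hmoved _ (hR.om.1.to_le inf_le_left) hA1 (le_normalizer_inf
      (Subgroup.zpowers_le.2 hzR) (Subgroup.zpowers_le.2 hzK) (Subgroup.mem_zpowers v)))
    inf_le_left inf_le_right
    (hmoved _ (hS'.om.1.to_le inf_le_left) hB1 (le_normalizer_inf
      (Subgroup.zpowers_le.2 hzS) (Subgroup.zpowers_le.2 hzK) (Subgroup.mem_zpowers v)))
  refine mem_normalizer_of_cj_le ?_
  conv_lhs => rw [heq]
  rw [hS, cj_cj_inv]

theorem multi_le_normalizer (hs : ¬ Single x q) : ∀ (P : Subgroup G), IsPGroup p P →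
    ∀ v, IsConj x v → v ∈ P → ∀ R, Cl v q R → P ≤ Subgroup.normalizer (R : Set G) := by
  haveI := C.fact
  suffices ∀ n (P : Subgroup G), Nat.card P = n → IsPGroup p P →
      ∀ v, IsConj x v → v ∈ P → ∀ R, Cl v q R → P ≤ Subgroup.normalizer (R : Set G) from
    fun P => this _ P rfl
  intro n
  induction n using Nat.strong_induction_on with
  | _ n ih =>
  intro P hn hP v hv hvP R hR
  by_contra hnot
  set D := P ⊓ Subgroup.normalizer (R : Set G) with hD
  have hlt : Nat.card D < n := by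
    by_contra hge
    exact hnot (inf_eq_left.1 (Subgroup.eq_of_le_of_card_ge inf_le_left (hn ▸ not_lt.1 hge)))
  refine hnot (inf_eq_left.1 (Isolated.eq_of_normalizer_le hP (inf_le_left : D ≤ P)
    fun g hgP hgN => ⟨hgP, ?_⟩))
  exact C.multi_step hne hs (hP.to_le inf_le_left)
    (ih _ hlt D rfl (hP.to_le inf_le_left)) hv ⟨hvP, hR.om.2.1 (Subgroup.mem_zpowers v)⟩ hR hgN

/-- `M` for any member. -/
theorem loc {U M : Subgroup G} (hU : Cl x q U) (hM : Over x U M) : Loc x p q M := by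
  by_cases hs : Single x q
  · refine ⟨fun P => C.single_sylow hne hU hM hs, fun P => C.single_norm hne hU hM hs,
      fun P v hP hxP hvP hv => ?_, fun _ P v hP hxP hvP hv => ?_⟩
    · obtain ⟨g, rfl⟩ := isConj_iff.1 hv
      have hg := C.single_conjIn hne hU hM hs hP hxP hvP
      rw [← cn_cj]
      exact (cj_mono (C.cn_le_over hne hU hM)).trans (cj_eq_self (Subgroup.le_normalizer hg)).le
    · obtain ⟨g, rfl⟩ := isConj_iff.1 hv
      exact ⟨g, C.single_conjIn hne hU hM hs hP hxP hvP, rfl⟩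
  · have hRU := C.rr_eq_self hne hs hU
    have hN : Subgroup.normalizer (U : Set G) ≤ M := by rw [← hRU]; exact hM.le
    have hall := C.multi_le_normalizer hne hs
    refine ⟨fun P hP hxP => (hall P hP x (IsConj.refl x) hxP U hU).trans hN,
      fun P hP hxP g hg => hN (C.multi_step hne hs hP (hall P hP) (IsConj.refl x) hxP hU hg),
      fun P v hP hxP hvP hv => ?_, fun h => absurd h hs⟩
    exact ((C.of_isConj hv).cn_le_normalizer hne
      (C.multi_same hne hs (hall P hP) (IsConj.refl x) hxP hv hvP hU)).trans hN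

end Ctx

end Cfsg.Agent.SecondFitting
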