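import Cfsg.Agent.Lib.SecondFitting.Local

/-!
# A member with `x` central on `Z(O_q(M))`

`Ctx.exists_central` : some `z ≠ 1` of `[U, x] ∩ Z(O_q(M))` centralises `[U, x]` and every `[V, x]` of
another prime.
-/

set_option autoImplicit false
set_option linter.style.haveILetI false
set_option linter.unusedSectionVars false

namespace Cfsg.Agent.SecondFitting

open scoped Pointwise commutatorElement
open FlavellGen (cc)

universe u

variable {G : Type u} [Group G] [Finite G]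

theorem commute_left_of_commute_mul {A B : Subgroup G} (hAB : A ⊓ B = ⊥) {v a b : G}
    (hvA : v ∈ Subgroup.normalizer (A : Set G)) (hvB : v ∈ Subgroup.normalizer (B : Set G))
    (ha : a ∈ A) (hb : b ∈ B) (h : Commute v (a * b)) : Commute v a := by
  have h1 : v * a * v⁻¹ * (v * b * v⁻¹) = a * b := by
    calc v * a * v⁻¹ * (v * b * v⁻¹) = v * (a * b) * v⁻¹ := by group
      _ = _ := by rw [h.eq]; group
  have h2 : a⁻¹ * (v * a * v⁻¹) = b * (v * b * v⁻¹)⁻¹ := by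
    calc a⁻¹ * (v * a * v⁻¹)
        = a⁻¹ * (v * a * v⁻¹ * (v * b * v⁻¹)) * (v * b * v⁻¹)⁻¹ := by group
      _ = _ := by rw [h1]; group
  have h3 : a⁻¹ * (v * a * v⁻¹) ∈ A ⊓ B := ⟨A.mul_mem (A.inv_mem ha)
    ((Subgroup.mem_normalizer_iff.1 hvA a).1 ha), h2 ▸ B.mul_mem hb
      (B.inv_mem ((Subgroup.mem_normalizer_iff.1 hvB b).1 hb))⟩
  rw [hAB, Subgroup.mem_bot, inv_mul_eq_one] at h3
  exact mul_inv_eq_iff_eq_mul.1 h3.symm

theorem oq_inf_fset {p q : ℕ} [Fact p.Prime] [Fact q.Prime] {H : Subgroup G} :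
    oq q H ⊓ fset p q H = ⊥ := by
  refine Coprime.inf_eq_bot ?_
  obtain ⟨n, hn⟩ := IsPGroup.iff_card.1 (isPGroup_oq (q := q) (H := H))
  rw [hn]
  exact Nat.Coprime.pow_left n ((Nat.Prime.coprime_iff_not_dvd Fact.out).2
    (not_dvd_card_fset (Or.inr rfl)))

theorem closure_conj_left (g x z : G) :
    cj g (Subgroup.closure ({x, z} : Set G)) =
      Subgroup.closure ({g * x * g⁻¹, g * z * g⁻¹} : Set G) := by
  rw [cj, MonoidHom.map_closure, Set.image_pair]
  rfl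

namespace Ctx

variable {p : ℕ} {x : G} (C : Ctx G p x)

include C

theorem not_dvd_of_isPGroup {q : ℕ} [Fact q.Prime] (hne : q ≠ p) {W : Subgroup G}
    (hW : IsPGroup q W) : ¬ p ∣ Nat.card W := by
  have h1 := C.cop hW hne
  rw [Nat.card_zpowers, C.ord] at h1
  exact C.prime.coprime_iff_not_dvd.1 h1

/-- `[fset p q K, x]` for `K ≤ M` lands in `fset p q M`. -/
theorem comm_fset_le [Fact p.Prime] {q : ℕ} {K M : Subgroup G} (hKM : K ≤ M) (hM : M ≠ ⊤)
    (hxK : x ∈ K) : ⁅fset p q K, Subgroup.zpowers x⁆ ≤ fset p q M := by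
  rw [Subgroup.commutator_comm, fset, Subgroup.iSup_eq_closure]
  refine commutator_closure_le ?_ ?_
  · intro z hz
    obtain ⟨s, hs⟩ := Set.mem_iUnion.1 hz
    exact le_normalizer_fset (hKM (oq_le hs))
  · intro g hg z hz
    obtain ⟨s, hs⟩ := Set.mem_iUnion.1 hz
    haveI : Fact (s.1 : ℕ).Prime := ⟨s.1.2⟩
    refine oq_le_fset s.1.2 s.2.1 s.2.2 M ?_
    have h1 := C.key s.2.1 hM (hKM hxK) (isPGroup_oq (q := (s.1 : ℕ)) (H := K)) (oq_le.trans hKM)
      (le_normalizer_oq hxK)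
    have h2 : ⁅oq (s.1 : ℕ) M, Subgroup.zpowers x⁆ ≤ oq (s.1 : ℕ) M :=
      Subgroup.le_normalizer_iff_commutator_le_left.1
        (Subgroup.zpowers_le.2 (le_normalizer_oq (hKM hxK)))
    refine h2 (h1 ?_)
    rw [Subgroup.commutator_comm]
    exact Subgroup.commutator_mem_commutator hg hs

variable {q : ℕ} [Fact q.Prime] (hne : q ≠ p) {U M : Subgroup G} (hU : Cl x q U) (hM : Over x U M)

include hne hU hM

theorem single_of_central
    (hZ : oq q M ⊓ Subgroup.centralizer (oq q M : Set G) ≤ cn x) :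
    Single x q ∧ ∃ z ∈ rr x U, z ≠ 1 ∧ z ∈ oq q M ⊓ Subgroup.centralizer (oq q M : Set G) := by
  set Q := oq q M
  have hQn : Group.IsNilpotent Q := (isPGroup_oq (q := q) (H := M)).isNilpotent
  have hRQ : rr x U ≤ Q := C.rr_le_oq_over hne hU hM
  haveI : ((rr x U).subgroupOf Q).Normal := by
    refine Subgroup.normal_subgroupOf_of_le_normalizer ?_
    rw [← C.rr_eq hne hU hM]
    exact Subgroup.normalizer_commutator_ge_left Q (Subgroup.zpowers x)
  have hR1 : (rr x U).subgroupOf Q ≠ ⊥ := fun h => hU.mov (by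
    show rr x U = ⊥
    rw [← subgroupOf_map_subtype hRQ, h, Subgroup.map_bot])
  haveI := hQn
  obtain ⟨⟨z', hz'⟩, hz1⟩ := (Subgroup.ne_bot_iff_exists_ne_one).1
    (Cores.inf_center_ne_bot ((rr x U).subgroupOf Q) hR1)
  have hz1' : (z' : G) ≠ 1 := fun h => hz1 (Subtype.ext (Subtype.ext h))
  have hzZ : (z' : G) ∈ Q ⊓ Subgroup.centralizer (Q : Set G) :=
    ⟨z'.2, fun g hg => congrArg Subtype.val (Subgroup.mem_center_iff.1 hz'.2 ⟨g, hg⟩)⟩
  exact ⟨C.single_of_mem hne (hZ hzZ)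
    ((isPGroup_oq (q := q) (H := M)).to_le (Subgroup.zpowers_le.2 hzZ.1)) hz1',
    z', hz'.1, hz1', hzZ⟩

/-- The heart: `z` centralises the other primes. -/
theorem central_commute (hZ : oq q M ⊓ Subgroup.centralizer (oq q M : Set G) ≤ cn x) {z : G}
    (hzR : z ∈ rr x U) (hzZ : z ∈ oq q M ⊓ Subgroup.centralizer (oq q M : Set G))
    {r : ℕ} [Fact r.Prime] (hrp : r ≠ p) (hrq : r ≠ q) {V : Subgroup G} (hV : Cl x r V) :
    ∀ β ∈ rr x V, Commute z β := by
  haveI := C.fact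
  obtain ⟨hs, -⟩ := C.single_of_central hne hU hM hZ
  have hloc := C.loc hne hU hM
  obtain ⟨MV, hMV₁, hMV₂⟩ := C.exists_maximal hrp hV
  have hMV : Over x V MV := ⟨hMV₁, hMV₂⟩
  have hlocV := C.loc hrp hV hMV
  set Q := oq q M
  set W := rr x V with hW
  have hxM : x ∈ M := C.mem_over hne hU hM
  have hzcn : z ∈ cn x := hZ hzZ
  have hxz : Commute x z := mem_cn.1 hzcn
  have hzY : z ∈ oq q (cn x) := C.good hne hU.om.1 (hU.om.2.1 (Subgroup.mem_zpowers x)) ⟨hzR, hzcn⟩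
  have hconjz : ∀ m ∈ M, Commute (m * x * m⁻¹) z := by
    intro m hm
    have hMN : M ≤ Subgroup.normalizer ((Q ⊓ Subgroup.centralizer (Q : Set G) : Subgroup G) : Set G) :=
      le_normalizer_inf le_normalizer_oq (le_normalizer_iff.2 fun a ha c hc s hs => by
        have h1 : a⁻¹ * s * a ∈ Q := by
          simpa using le_normalizer_iff.1 le_normalizer_oq a⁻¹ (M.inv_mem ha) s hs
        calc s * (a * c * a⁻¹) = a * ((a⁻¹ * s * a) * c) * a⁻¹ := by group
          _ = a * (c * (a⁻¹ * s * a)) * a⁻¹ := by rw [hc _ h1]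
          _ = _ := by group)
    have h2 : Commute x (m⁻¹ * z * m) := mem_cn.1 (hZ (by
      simpa using le_normalizer_iff.1 hMN m⁻¹ (M.inv_mem hm) z hzZ))
    have h3 := h2.map (MulAut.conj m)
    simpa [mul_assoc] using h3
  have hxW : x ∈ Subgroup.normalizer (W : Set G) := C.rr_inv hrp hV
  have hzW : z ∈ Subgroup.normalizer (W : Set G) := C.cn_le_normalizer_rr hrp hV hzcn
  have hWr : IsPGroup r W := C.rr_q hrp hV
  have hCW : ∀ c ∈ W, Commute x c → Commute z c := by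
    intro c hc hxc
    have hcY : c ∈ oq r (cn x) :=
      C.good hrp hV.om.1 (hV.om.2.1 (Subgroup.mem_zpowers x)) ⟨hc, mem_cn.2 hxc⟩
    exact (oq_commute (H := cn x) (Ne.symm hrq) hcY z hzY)
  intro β hβ
  by_contra hβz
  -- a conjugate `m x m⁻¹`, `m ∈ C_W(z)`, inside `⟨x^β, z⟩`
  set v := β⁻¹ * x * β with hv
  set J := Subgroup.closure ({v, z} : Set G) with hJ
  have hvJ : v ∈ J := Subgroup.subset_closure (Or.inl rfl)
  have hzJ : z ∈ J := Subgroup.subset_closure (Or.inr rfl)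
  set WX := W ⊔ Subgroup.zpowers x with hWX
  have hxW' : Subgroup.zpowers x ≤ Subgroup.normalizer (W : Set G) := Subgroup.zpowers_le.2 hxW
  have hwx : v * x⁻¹ ∈ W := by
    rw [hv, show β⁻¹ * x * β * x⁻¹ = β⁻¹ * (x * β * x⁻¹) by group]
    exact W.mul_mem (W.inv_mem hβ) ((Subgroup.mem_normalizer_iff.1 hxW β).1 hβ)
  have hvWX : v ∈ WX := by
    simpa using Subgroup.mul_mem_sup hwx (Subgroup.mem_zpowers x)
  have hzZp : Subgroup.zpowers z ≤ J ⊓ Subgroup.normalizer (W : Set G) ⊓ cn x :=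
    Subgroup.zpowers_le.2 ⟨⟨hzJ, hzW⟩, hzcn⟩
  have hzWX : Subgroup.zpowers z ≤ Subgroup.normalizer (WX : Set G) :=
    le_normalizer_sup (hzZp.trans (inf_le_left.trans inf_le_right))
      (hzZp.trans (inf_le_right.trans (cn_le_normalizer_zpowers x)))
  have hzq : IsPGroup q (Subgroup.zpowers z) :=
    (isPGroup_oq (q := q) (H := M)).to_le (Subgroup.zpowers_le.2 hzZ.1)
  have hcopWX : (Nat.card (Subgroup.zpowers z)).Coprime (Nat.card WX) := by
    rw [hWX, Coprime.card_sup_of_coprime hxW' (C.cop hWr hrp).symm]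
    exact Nat.Coprime.mul_right (IsPGroup.coprime_card_of_ne q r (Ne.symm hrq) _ _ hzq hWr)
      (IsPGroup.coprime_card_of_ne q p hne _ _ hzq C.isPGroup)
  obtain ⟨t, ⟨ht, htz⟩, htv⟩ := Coprime.exists_mem_centralizer_of_coset
    (A := Subgroup.zpowers z) (K := J ⊓ WX) (N := J ⊓ W) (k := v)
    (le_normalizer_inf ((hzZp.trans (inf_le_left.trans inf_le_left)).trans Subgroup.le_normalizer)
      hzWX)
    (hcopWX.coprime_dvd_right (Subgroup.card_dvd_of_le inf_le_right))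
    (Or.inl (Coprime.isSolvable_of_isPGroup hzq))
    (inf_le_inf_left J le_sup_left)
    (le_normalizer_inf ((hzZp.trans (inf_le_left.trans inf_le_left)).trans Subgroup.le_normalizer)
      (hzZp.trans (inf_le_left.trans inf_le_right)))
    ⟨hvJ, hvWX⟩ fun a ha => by
      obtain ⟨⟨haJ, haW⟩, hax⟩ := hzZp ha
      refine ⟨J.mul_mem (J.mul_mem (J.mul_mem haJ hvJ) (J.inv_mem haJ)) (J.inv_mem hvJ), ?_⟩
      have e : a * v * a⁻¹ * v⁻¹ = (a * (v * x⁻¹) * a⁻¹) * (v * x⁻¹)⁻¹ := by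
        calc a * v * a⁻¹ * v⁻¹ = a * (v * x⁻¹) * (x * a⁻¹) * v⁻¹ := by group
          _ = a * (v * x⁻¹) * (a⁻¹ * x) * v⁻¹ := by rw [(mem_cn.1 hax).inv_right.eq]
          _ = _ := by group
      rw [e]
      exact W.mul_mem ((Subgroup.mem_normalizer_iff.1 haW _).1 hwx) (W.inv_mem hwx)
  set N := W ⊓ cn z with hN
  have hxN : Subgroup.zpowers x ≤ Subgroup.normalizer (N : Set G) :=
    le_normalizer_inf hxW' ((Subgroup.zpowers_le.2 (mem_cn.2 hxz.symm : x ∈ cn z)).trans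
      Subgroup.le_normalizer)
  have htN : t * x⁻¹ ∈ N := by
    refine ⟨?_, mem_cn.2 ((FlavellGen.commute_of_mem_centralizer htz).mul_right hxz.symm.inv_right)⟩
    rw [show t * x⁻¹ = (t * v⁻¹) * (v * x⁻¹) by group]
    exact W.mul_mem htv.2 hwx
  obtain ⟨m, hmN, hmJ⟩ := Coprime.exists_conj_le_of_forall hxN (C.cop (hWr.to_le inf_le_left) hrp)
    (Or.inl C.solv) J fun a ha => by
      obtain ⟨i, rfl⟩ := mem_powers_iff_mem_zpowers.mpr ha
      dsimp only
      refine ⟨t ^ i * (x ^ i)⁻¹, ?_, by simpa using J.pow_mem ht.1 i⟩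
      clear ha
      induction i with
      | zero => simp
      | succ i ih =>
        rw [show t ^ (i + 1) * (x ^ (i + 1))⁻¹ =
          (t ^ i * (x ^ i)⁻¹) * (x ^ i * (t * x⁻¹) * (x ^ i)⁻¹) by
            rw [pow_succ, pow_succ]; group]
        exact N.mul_mem ih
          (le_normalizer_iff.1 hxN _ (Subgroup.pow_mem _ (Subgroup.mem_zpowers x) i) _ htN)
  have hmW : m ∈ W := hmN.1
  have hmz : Commute z m := mem_cn.1 hmN.2
  set β' := β * m with hβ'
  have hβ'W : β' ∈ W := W.mul_mem hβ hmW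
  have hβ'z : ¬ Commute z β' := fun h => hβz (by
    have := h.mul_right hmz.inv_right
    simpa [hβ', mul_assoc] using this)
  set v' := β'⁻¹ * x * β' with hv'
  set J' := Subgroup.closure ({v', z} : Set G) with hJ'
  have hJ'eq : cj m⁻¹ J = J' := by
    rw [hJ, closure_conj_left, hJ', hv', hv, hβ',
      show m⁻¹ * z * m⁻¹⁻¹ = z by rw [mul_assoc, inv_inv, hmz.eq, inv_mul_cancel_left]]
    congr 2
    group
  have hxJ' : x ∈ J' := by
    rw [← hJ'eq]
    refine mem_cj.2 ?_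
    simpa [mul_assoc] using hmJ (Coprime.conj_mem_conj.2 (Subgroup.mem_zpowers x) :
      m * x * m⁻¹ ∈ MulAut.conj m • Subgroup.zpowers x)
  have Cv' : Ctx G p v' := by simpa [hv'] using C.conj β'⁻¹
  set B := cc x β' with hB
  have hBW : B ≤ W := FlavellGen.cc_le hxW hβ'W
  have hv'J' : v' ∈ J' := Subgroup.subset_closure (Or.inl rfl)
  have hBJ' : B ≤ J' := by
    rw [hB, FlavellGen.cc, Subgroup.closure_le]
    rintro _ ⟨i, rfl⟩
    show β'⁻¹ * x ^ i * β' * (x ^ i)⁻¹ ∈ J'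
    have h1 : v' ^ i = β'⁻¹ * x ^ i * β' := by
      have h := conj_pow (i := i) (a := β'⁻¹) (b := x)
      rwa [inv_inv] at h
    rw [← h1]
    exact J'.mul_mem (J'.pow_mem hv'J' i) (J'.inv_mem (J'.pow_mem hxJ' i))
  have hβ'x : ¬ Commute x β' := fun h => hβ'z (hCW _ hβ'W h)
  have hB1 : B ≠ ⊥ := fun h => hβ'x (by
    have h1 : β'⁻¹ * x * β' * x⁻¹ ∈ B := FlavellGen.gen_one_mem_cc x β'
    rw [h, Subgroup.mem_bot, mul_inv_eq_one, mul_assoc, inv_mul_eq_iff_eq_mul] at h1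
    exact h1)
  have hBr : IsPGroup r B := hWr.to_le hBW
  have hxB : x ∈ Subgroup.normalizer (B : Set G) :=
    FlavellGen.zpowers_le_normalizer_cc x β' (Subgroup.mem_zpowers x)
  have hBx : B ≤ ⁅B, Subgroup.zpowers x⁆ :=
    FlavellGen.cc_le_commutator_cc hxW (C.cop hWr hrp) hβ'W
  set H' := Subgroup.normalizer (B : Set G) with hH'
  have hH'top : H' ≠ ⊤ := C.normalizer_ne_top' hBr hB1
  set A := ⁅oq q H', Subgroup.zpowers x⁆ with hA
  have hxA : Subgroup.zpowers x ≤ Subgroup.normalizer (A : Set G) :=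
    le_normalizer_comm ((Subgroup.zpowers_le.2 hxB).trans le_normalizer_oq) Subgroup.le_normalizer
  have hAR : A ≤ rr x U := by
    by_cases h : A = ⊥
    · exact h ▸ bot_le
    obtain ⟨U', hU', hle⟩ := C.exists_cl hne isPGroup_oq (le_normalizer_oq hxB) h
    rwa [hs U' U hU' hU] at hle
  -- `q`-groups moved by `x` commuting with `B` lie in `A`
  have toA : ∀ (K : Subgroup G), K ≠ ⊤ → x ∈ K → B ≤ K → ⁅oq q K, Subgroup.zpowers x⁆ ≤ A := by
    intro K hK hxK hBK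
    have hBO : B ≤ oq r K := by
      refine hBx.trans ((C.key hrp hK hxK hBr hBK hxB).trans ?_)
      exact Subgroup.le_normalizer_iff_commutator_le_left.1
        (Subgroup.zpowers_le.2 (le_normalizer_oq hxK))
    have hle : oq q K ≤ H' := fun g hg => by
      refine centralizer_le_normalizer_self _ fun b hb => ?_
      exact (oq_commute hrq hg b (hBO hb))
    rw [← C.comm_comm isPGroup_oq hne (le_normalizer_oq hxK)]
    refine C.key hne hH'top hxB ?_ ?_ ?_ |>.trans le_rfl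
    · exact isPGroup_oq.to_le (Subgroup.le_normalizer_iff_commutator_le_left.1
        (Subgroup.zpowers_le.2 (le_normalizer_oq hxK)))
    · exact (Subgroup.le_normalizer_iff_commutator_le_left.1
        (Subgroup.zpowers_le.2 (le_normalizer_oq hxK))).trans hle
    · exact le_normalizer_comm ((Subgroup.zpowers_le.2 hxK).trans le_normalizer_oq)
        Subgroup.le_normalizer (Subgroup.mem_zpowers x)
  -- `[U, x] ⊆ A C(x)`
  have hcover : ∀ b ∈ rr x U, ∃ a ∈ A, ∃ c ∈ cn x, b⁻¹ = a * c := by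
    intro b hbR
    have hbQ : b ∈ Q := C.rr_le_oq_over hne hU hM hbR
    have hbM : b ∈ M := oq_le hbQ
    set xb := b⁻¹ * x * b with hxb
    have hxbc : IsConj x xb := isConj_iff.2 ⟨b⁻¹, by rw [hxb, inv_inv]⟩
    have hv'c : IsConj x v' := isConj_iff.2 ⟨β'⁻¹, by rw [hv', inv_inv]⟩
    have Cb := C.of_isConj hxbc
    set L := Subgroup.closure ({xb, v'} : Set G) with hL
    have hLtop : L ≠ ⊤ := Cb.gen v'
    have hxbL : xb ∈ L := Subgroup.subset_closure (Or.inl rfl)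
    have hv'L : v' ∈ L := Subgroup.subset_closure (Or.inr rfl)
    obtain ⟨S, hS, hxbS⟩ := exists_sylIn Cb.isPGroup
      (Subgroup.zpowers_le.2 (C.mem_xp hLtop hxbc hxbL))
    obtain ⟨α, hα, hαS⟩ := exists_fp_conj hS Cv'.isPGroup
      (Subgroup.zpowers_le.2 (C.mem_xp hLtop hv'c hv'L))
    set w := α * v' * α⁻¹ with hw
    have hwS : w ∈ S := hαS (conj_mem_cj.2 (Subgroup.mem_zpowers v'))
    have hwc : IsConj x w := isConj_conj α hv'c
    have hxSb : x ∈ cj b S := by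
      have := conj_mem_cj (g := b).2 (hxbS (Subgroup.mem_zpowers xb))
      simpa [hxb, mul_assoc] using this
    have hSM : S ≤ M := by
      have h1 := cj_mono (g := b⁻¹) (hloc.sylow _ (isPGroup_cj hS.isP) hxSb)
      rw [cj_inv_cj, cj_eq_self (Subgroup.le_normalizer (M.inv_mem hbM))] at h1
      exact h1
    obtain ⟨m₀, hm₀, hm₀e⟩ := hloc.conjIn hs (cj b S) (b * w * b⁻¹) (isPGroup_cj hS.isP) hxSb
      (conj_mem_cj.2 hwS) (isConj_conj b hwc)
    have hwz : Commute w z := by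
      have h1 := hconjz (b⁻¹ * m₀) (M.mul_mem (M.inv_mem hbM) hm₀)
      have h2 : b⁻¹ * m₀ * x * (b⁻¹ * m₀)⁻¹ = w := by
        calc b⁻¹ * m₀ * x * (b⁻¹ * m₀)⁻¹ = b⁻¹ * (m₀ * x * m₀⁻¹) * b := by group
          _ = w := by rw [← hm₀e]; group
      rwa [h2] at h1
    have Cw := C.of_isConj hwc
    have hwL : w ∈ L := (hS.le.trans xp_le) hwS
    obtain ⟨-, -, -, K, hK, hwK, hccK, hzK, -⟩ :=
      Cw.keyK (W := fp p L) (le_normalizer_fset hwL) (not_dvd_card_fset (Or.inl rfl)) hα hwz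
    have hv'K : v' ∈ K := by
      have h1 : v' = (α⁻¹ * w * α * w⁻¹) * w := by rw [hw]; group
      rw [h1]
      exact K.mul_mem (hccK (FlavellGen.gen_one_mem_cc w α)) hwK
    have hJ'K : J' ≤ K := by
      rw [hJ', Subgroup.closure_le]
      rintro y (rfl | rfl)
      exacts [hv'K, hzK]
    set K' := K ⊓ M with hK'
    have hK'top : K' ≠ ⊤ := fun h => hK (top_le_iff.1 (h.ge.trans inf_le_left))
    have hxK' : x ∈ K' := ⟨hJ'K hxJ', hxM⟩
    have hwK' : w ∈ K' := ⟨hwK, hSM hwS⟩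
    obtain ⟨S', hS', hxS'⟩ := exists_sylIn C.isPGroup
      (Subgroup.zpowers_le.2 (C.mem_xp hK'top (IsConj.refl x) hxK'))
    obtain ⟨a, ha, haS⟩ := exists_fp_conj hS' Cw.isPGroup
      (Subgroup.zpowers_le.2 (C.mem_xp hK'top hwc hwK'))
    -- split `a`
    obtain ⟨aq, haq, a', ha', rfl⟩ :=
      (Coprime.mem_sup_iff (fset_le.trans le_normalizer_oq)).1 (fp_le_sup (q := q) ha)
    set F := fset p q K' with hF
    have hxF : Subgroup.zpowers x ≤ Subgroup.normalizer (F : Set G) :=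
      (Subgroup.zpowers_le.2 hxK').trans le_normalizer_fset
    have hxO : Subgroup.zpowers x ≤ Subgroup.normalizer (oq q K' : Set G) :=
      (Subgroup.zpowers_le.2 hxK').trans le_normalizer_oq
    have hsplitF := Coprime.commutator_sup_centralizer hxF
      (C.cop_of_not_dvd (not_dvd_card_fset (Or.inl rfl))) (Or.inl C.solv)
    obtain ⟨μ₁, hμ₁, γ₁, hγ₁, e₁⟩ := (Coprime.mem_sup_iff (le_normalizer_comm
      (inf_le_left.trans Subgroup.le_normalizer) (inf_le_right.trans (cn_le_normalizer_zpowers x)))).1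
      ((C.split hne isPGroup_oq (hxO (Subgroup.mem_zpowers x))).ge ((oq q K').inv_mem haq))
    obtain ⟨μ₂, hμ₂, γ₂, hγ₂, e₂⟩ := (Coprime.mem_sup_iff (le_normalizer_comm
      (inf_le_left.trans Subgroup.le_normalizer) (inf_le_right.trans (cn_le_normalizer_zpowers x)))).1
      (hsplitF.ge (F.inv_mem ha'))
    have hμ₁O : μ₁ ∈ oq q K' := Subgroup.le_normalizer_iff_commutator_le_left.1 hxO hμ₁
    have hμ₂F : μ₂ ∈ F := Subgroup.le_normalizer_iff_commutator_le_left.1 hxF hμ₂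
    have h12 : Commute μ₁⁻¹ γ₂⁻¹ :=
      fset_commute (F.inv_mem hγ₂.1) _ ((oq q K').inv_mem hμ₁O)
    set γ := γ₁⁻¹ * γ₂⁻¹ with hγ
    have hγx : Commute x γ :=
      (mem_cn.1 hγ₁.2).inv_right.mul_right (mem_cn.1 hγ₂.2).inv_right
    set m₁ := μ₁⁻¹ with hm₁
    set m₂ := μ₂⁻¹ with hm₂
    have haeq : aq * a' = γ * (m₁ * m₂) := by
      have e₁' : aq = γ₁⁻¹ * m₁ := by rw [← inv_inv aq, ← e₁, mul_inv_rev]
      have e₂' : a' = γ₂⁻¹ * m₂ := by rw [← inv_inv a', ← e₂, mul_inv_rev]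
      rw [e₁', e₂', hγ]
      calc γ₁⁻¹ * m₁ * (γ₂⁻¹ * m₂) = γ₁⁻¹ * (m₁ * γ₂⁻¹) * m₂ := by group
        _ = γ₁⁻¹ * (γ₂⁻¹ * m₁) * m₂ := by rw [h12.eq]
        _ = _ := by group
    set w₁ := γ⁻¹ * (aq * a' * w * (aq * a')⁻¹) * γ with hw₁
    have hwe : w = (m₁ * m₂)⁻¹ * w₁ * (m₁ * m₂) := by
      rw [hw₁, haeq]; group
    have hw₁c : IsConj x w₁ := by
      have := isConj_conj γ⁻¹ (isConj_conj (aq * a') hwc)
      rwa [inv_inv] at this
    have hP₁ : IsPGroup p (cj γ⁻¹ S') := isPGroup_cj hS'.isP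
    have hxP₁ : x ∈ cj γ⁻¹ S' := by
      rw [mem_cj, inv_inv, ← hγx.eq, mul_inv_cancel_right]
      exact hxS' (Subgroup.mem_zpowers x)
    have hw₁P₁ : w₁ ∈ cj γ⁻¹ S' := by
      rw [mem_cj, inv_inv, hw₁]
      have h1 : aq * a' * w * (aq * a')⁻¹ ∈ S' :=
        haS (conj_mem_cj.2 (Subgroup.mem_zpowers w))
      simpa [mul_assoc] using h1
    have hm₁A : m₁ ∈ A := by
      refine A.inv_mem ?_
      have h1 := C.key hne hK (hxK'.1) isPGroup_oq (oq_le.trans inf_le_left : oq q K' ≤ K)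
        (hxO (Subgroup.mem_zpowers x)) hμ₁
      exact toA K hK hxK'.1 (hBJ'.trans hJ'K) h1
    have hm₂M : m₂ ∈ fset p q M :=
      (fset p q M).inv_mem (C.comm_fset_le inf_le_right hM.coatom.1 hxK' hμ₂)
    -- the common Sylow subgroups in `M`
    set P₁ := Subgroup.closure ({x, w₁} : Set G) with hP₁def
    have hP₁le : P₁ ≤ cj γ⁻¹ S' := by
      rw [hP₁def, Subgroup.closure_le]
      rintro y (rfl | rfl)
      exacts [hxP₁, hw₁P₁]
    have hw₁M : w₁ ∈ M := hloc.sylow _ hP₁ hxP₁ hw₁P₁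
    have hP₁X : P₁ ≤ xp p M := by
      rw [hP₁def, Subgroup.closure_le]
      intro y hy
      rcases hy with hy | hy <;> rw [hy]
      exacts [C.mem_xp hM.coatom.1 (IsConj.refl x) hxM, C.mem_xp hM.coatom.1 hw₁c hw₁M]
    obtain ⟨SM, hSMs, hP₁SM⟩ := exists_sylIn (hP₁.to_le hP₁le) hP₁X
    set P₂ := Subgroup.closure ({xb, w} : Set G) with hP₂def
    have hP₂S : P₂ ≤ S := by
      rw [hP₂def, Subgroup.closure_le]
      rintro y (rfl | rfl)
      exacts [hxbS (Subgroup.mem_zpowers xb), hwS]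
    have hP₂X : P₂ ≤ xp p M := by
      rw [hP₂def, Subgroup.closure_le]
      rintro y (rfl | rfl)
      exacts [C.mem_xp hM.coatom.1 hxbc (hSM (hxbS (Subgroup.mem_zpowers xb))),
        C.mem_xp hM.coatom.1 hwc (hSM hwS)]
    obtain ⟨f, hf, hfS⟩ := exists_fp_conj hSMs (hS.isP.to_le hP₂S) hP₂X
    have hfxb : f * xb * f⁻¹ ∈ SM := hfS (conj_mem_cj.2 (Subgroup.subset_closure (Or.inl rfl)))
    have hfw : f * w * f⁻¹ ∈ SM := hfS (conj_mem_cj.2 (Subgroup.subset_closure (Or.inr rfl)))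
    have hxSM : x ∈ SM := hP₁SM (Subgroup.subset_closure (Or.inl rfl))
    have hw₁SM : w₁ ∈ SM := hP₁SM (Subgroup.subset_closure (Or.inr rfl))
    set g := b * f⁻¹ with hg
    have hgfp : g ∈ fp p M := (fp p M).mul_mem (oq_le_fp hne M hbQ) ((fp p M).inv_mem hf)
    have hgx : Commute x g := by
      have h1 := commute_of_conj_mem hSMs.isP ((fp p M).inv_mem hgfp) hxSM hxM (by
        rw [hg, show (b * f⁻¹)⁻¹ * x * (b * f⁻¹)⁻¹⁻¹ = f * (b⁻¹ * x * b) * f⁻¹ by group]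
        exact hfxb)
      simpa using h1.inv_left.symm
    obtain ⟨gq, hgq, g', hg', hgeq⟩ :=
      (Coprime.mem_sup_iff (fset_le.trans le_normalizer_oq)).1 (fp_le_sup (q := q) hgfp)
    have hgqx : Commute x gq := commute_left_of_commute_mul oq_inf_fset (le_normalizer_oq hxM)
      (le_normalizer_fset hxM) hgq hg' (hgeq.symm ▸ hgx)
    have hm₁Q : m₁ ∈ Q := C.rr_le_oq_over hne hU hM (hAR hm₁A)
    set d := m₁ * b⁻¹ * gq with hd
    have hdQ : d ∈ Q := Q.mul_mem (Q.mul_mem hm₁Q (Q.inv_mem hbQ)) hgq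
    have hh : Commute w₁ (d * (m₂ * g')) := by
      have hh1 : m₁ * m₂ * f⁻¹ ∈ fp p M :=
        (fp p M).mul_mem ((fp p M).mul_mem (oq_le_fp hne M hm₁Q) (fset_le_fp hm₂M))
          ((fp p M).inv_mem hf)
      have h1 := commute_of_conj_mem hSMs.isP ((fp p M).inv_mem hh1) hw₁SM hw₁M (by
        rw [inv_inv, show (m₁ * m₂ * f⁻¹)⁻¹ * w₁ * (m₁ * m₂ * f⁻¹) =
          f * ((m₁ * m₂)⁻¹ * w₁ * (m₁ * m₂)) * f⁻¹ by group, ← hwe]
        exact hfw)
      have h2 : m₁ * m₂ * f⁻¹ = d * (m₂ * g') := by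
        have hc : Commute (b⁻¹ * gq) m₂ := fset_commute hm₂M _ (Q.mul_mem (Q.inv_mem hbQ) hgq)
        have hfi : f⁻¹ = b⁻¹ * (gq * g') := by rw [hgeq, hg]; group
        rw [hfi, hd]
        calc m₁ * m₂ * (b⁻¹ * (gq * g')) = m₁ * (m₂ * (b⁻¹ * gq)) * g' := by group
          _ = m₁ * (b⁻¹ * gq * m₂) * g' := by rw [hc.eq]
          _ = _ := by group
      rw [← h2]
      simpa using h1.inv_left.symm
    have hdw : Commute w₁ d := commute_left_of_commute_mul oq_inf_fset (le_normalizer_oq hw₁M)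
      (le_normalizer_fset hw₁M) hdQ ((fset p q M).mul_mem hm₂M hg') hh
    have hdMV : d ∈ MV := hlocV.cent _ w₁ hP₁ hxP₁ hw₁P₁ hw₁c (mem_cn.2 hdw)
    set D := Q ⊓ MV with hD
    have hxMV : x ∈ MV := C.mem_over hrp hV hMV
    have hxD : Subgroup.zpowers x ≤ Subgroup.normalizer (D : Set G) :=
      le_normalizer_inf ((Subgroup.zpowers_le.2 hxM).trans le_normalizer_oq)
        ((Subgroup.zpowers_le.2 hxMV).trans Subgroup.le_normalizer)
    have hDq : IsPGroup q D := isPGroup_oq.to_le inf_le_left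
    obtain ⟨a₂, ha₂, c₂, hc₂, e₃⟩ := (Coprime.mem_sup_iff (le_normalizer_comm
      (inf_le_left.trans Subgroup.le_normalizer) (inf_le_right.trans (cn_le_normalizer_zpowers x)))).1
      ((C.split hne hDq (hxD (Subgroup.mem_zpowers x))).ge (⟨hdQ, hdMV⟩ : d ∈ D))
    have ha₂A : a₂ ∈ A :=
      toA MV hMV.coatom.1 hxMV (hBW.trans (C.rr_le_over hrp hV hMV))
        (C.key hne hMV.coatom.1 hxMV hDq inf_le_right (hxD (Subgroup.mem_zpowers x)) ha₂)
    refine ⟨m₁⁻¹ * a₂, A.mul_mem (A.inv_mem hm₁A) ha₂A, c₂ * gq⁻¹,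
      Subgroup.mul_mem _ hc₂.2 (mem_cn.2 hgqx.inv_right), ?_⟩
    calc b⁻¹ = m₁⁻¹ * d * gq⁻¹ := by rw [hd]; group
      _ = _ := by rw [← e₃]; group
  have hRA : rr x U ≤ A := by
    rw [← C.rr_comm hne hU, Subgroup.commutator_le]
    intro b hb g hg
    obtain ⟨a, ha, c, hc, e⟩ := hcover b⁻¹ ((rr x U).inv_mem hb)
    rw [inv_inv] at e
    subst e
    have hgc : g * c = c * g := hc g hg
    have h1 : ⁅a * c, g⁆ = ⁅a, g⁆ := by
      simp only [commutatorElement_def]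
      calc a * c * g * (a * c)⁻¹ * g⁻¹ = a * (c * g) * c⁻¹ * a⁻¹ * g⁻¹ := by group
        _ = a * (g * c) * c⁻¹ * a⁻¹ * g⁻¹ := by rw [hgc]
        _ = _ := by group
    rw [h1]
    exact Subgroup.le_normalizer_iff_commutator_le_left.1 hxA
      (Subgroup.commutator_mem_commutator ha hg)
  -- `z` centralises `B`, hence `β'`
  have hzB : ∀ b ∈ B, Commute z b := by
    intro b hb
    have h1 : z ∈ oq q H' := Subgroup.le_normalizer_iff_commutator_le_left.1
      ((Subgroup.zpowers_le.2 hxB).trans le_normalizer_oq) (hRA hzR)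
    have h2 : b ∈ oq r H' := le_oq Subgroup.le_normalizer le_rfl hBr hb
    exact oq_commute (Ne.symm hrq) h2 z h1
  obtain ⟨a', ha', hax, -⟩ :=
    C.keyK hxW (C.not_dvd_of_isPGroup hrp hWr) hβ'W (Commute.refl x)
  have hc : Commute x (β' * a'⁻¹) := by
    show x * (β' * a'⁻¹) = β' * a'⁻¹ * x
    calc x * (β' * a'⁻¹) = β' * (β'⁻¹ * x * β') * a'⁻¹ := by group
      _ = β' * (a'⁻¹ * x * a') * a'⁻¹ := by rw [hax]
      _ = _ := by group
  refine hβ'z ?_
  have h1 := (hCW _ (W.mul_mem hβ'W (W.inv_mem (hBW ha'))) hc).mul_right (hzB a' ha')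
  simpa using h1

end Ctx

end Cfsg.Agent.SecondFitting
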