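import Cfsg.Agent.Lib.SecondFitting.Good

/-!
# The maximal invariant `q`-groups of `x`

* `Cl x q U`, `rr x U = [U, x]`
* `Ctx.cn_le_normalizer`, `Ctx.single_of_mem`, `Ctx.rr_eq`, `Ctx.le_of_single`
-/

set_option autoImplicit false
set_option linter.style.haveILetI false
set_option linter.unusedSectionVars false

namespace Cfsg.Agent.SecondFitting

open scoped Pointwise commutatorElement
open FlavellGen (cc)

universe u

variable {G : Type u} [Group G] [Finite G]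

/-- A maximal moved `x`-invariant `q`-group. -/
abbrev Cl (x : G) (q : ℕ) (U : Subgroup G) : Prop :=
  Clu (Subgroup.zpowers x) (oq q (cn x)) q U

/-- `[U, x]`. -/
def rr (x : G) (U : Subgroup G) : Subgroup G := ⁅U, Subgroup.zpowers x⁆

/-- Only one maximal moved `x`-invariant `q`-group. -/
def Single (x : G) (q : ℕ) : Prop := ∀ U V : Subgroup G, Cl x q U → Cl x q V → U = V

theorem ne_bot_mono {A B E : Subgroup G} (h : A ≤ B) (hA : ⁅A, E⁆ ≠ ⊥) : ⁅B, E⁆ ≠ ⊥ := fun h0 =>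
  hA (le_bot_iff.1 (h0 ▸ Subgroup.commutator_mono h le_rfl))

theorem cn_le_normalizer_zpowers (x : G) :
    cn x ≤ Subgroup.normalizer ((Subgroup.zpowers x : Subgroup G) : Set G) :=
  centralizer_le_normalizer_self _

theorem om_map {E Y U : Subgroup G} {q : ℕ} (g : G) (h : Om E Y q U) :
    Om (cj g E) (cj g Y) q (cj g U) := by
  refine ⟨isPGroup_cj h.1, ?_, ?_⟩
  · rw [normalizer_cj]; exact cj_mono h.2.1
  · rintro z ⟨hz, hzc⟩
    refine mem_cj.2 (h.2.2 ⟨mem_cj.1 hz, fun e he => ?_⟩)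
    have h1 : (g * e * g⁻¹) * z = z * (g * e * g⁻¹) := hzc _ (conj_mem_cj.2 he)
    calc e * (g⁻¹ * z * g) = g⁻¹ * ((g * e * g⁻¹) * z) * g := by group
      _ = g⁻¹ * (z * (g * e * g⁻¹)) * g := by rw [h1]
      _ = _ := by group

theorem clu_map {E Y U : Subgroup G} {q : ℕ} (g : G) (h : Clu E Y q U) :
    Clu (cj g E) (cj g Y) q (cj g U) := by
  refine ⟨om_map g h.om, fun V hV hle => ?_, fun h0 => h.mov ?_⟩
  · have h1 := om_map g⁻¹ hV
    rw [cj_inv_cj, cj_inv_cj] at h1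
    rw [← cj_cj_inv g V, h.max _ h1 (by rw [← cj_inv_cj g U]; exact cj_mono hle)]
  · rw [← cj_eq_bot (g := g), cj_comm]
    exact h0

theorem cl_map {x : G} {q : ℕ} {U : Subgroup G} (g : G) (h : Cl x q U) :
    Cl (g * x * g⁻¹) q (cj g U) := by
  have h1 := clu_map g h
  rwa [cj_zpowers, oq_cj, cn_cj] at h1

theorem rr_cj (g x : G) (U : Subgroup G) : cj g (rr x U) = rr (g * x * g⁻¹) (cj g U) := by
  rw [rr, rr, cj_comm, cj_zpowers]

theorem single_map {x : G} {q : ℕ} (g : G) (h : Single x q) : Single (g * x * g⁻¹) q := by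
  intro U V hU hV
  have h1 : ∀ {W}, Cl (g * x * g⁻¹) q W → Cl x q (cj g⁻¹ W) := fun {W} hW => by
    simpa [mul_assoc] using cl_map g⁻¹ hW
  rw [← cj_cj_inv g U, h _ _ (h1 hU) (h1 hV), cj_cj_inv]

namespace Ctx

variable {p : ℕ} {x : G} (C : Ctx G p x) {q : ℕ} [Fact q.Prime] (hne : q ≠ p) {U : Subgroup G}

include C hne

theorem rr_le (hU : Cl x q U) : rr x U ≤ U := (C.frame hne).comm_le hU.om.2.1

theorem rr_q (hU : Cl x q U) : IsPGroup q (rr x U) := hU.om.1.to_le (C.rr_le hne hU)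

theorem rr_inv (hU : Cl x q U) : x ∈ Subgroup.normalizer (rr x U : Set G) :=
  le_normalizer_comm hU.om.2.1 Subgroup.le_normalizer (Subgroup.mem_zpowers x)

theorem rr_comm (hU : Cl x q U) : ⁅rr x U, Subgroup.zpowers x⁆ = rr x U :=
  (C.frame hne).comm_comm hU.om.1 hU.om.2.1

theorem exists_cl {W : Subgroup G} (hW : IsPGroup q W) (hxW : x ∈ Subgroup.normalizer (W : Set G))
    (h : ⁅W, Subgroup.zpowers x⁆ ≠ ⊥) :
    ∃ U, Cl x q U ∧ ⁅W, Subgroup.zpowers x⁆ ≤ rr x U := by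
  obtain ⟨U, hU, hle⟩ := (C.frame hne).exists_clu hW (Subgroup.zpowers_le.2 hxW) h
  refine ⟨U, hU, ?_⟩
  rw [← (C.frame hne).comm_comm hW (Subgroup.zpowers_le.2 hxW)]
  exact Subgroup.commutator_mono hle le_rfl

theorem eq_of_meet {V H A B : Subgroup G} (hU : Cl x q U) (hV : Cl x q V) (hH : H ≠ ⊤) (hxH : x ∈ H)
    (hA : A ≤ U) (hAH : A ≤ H) (hA1 : ⁅A, Subgroup.zpowers x⁆ ≠ ⊥)
    (hB : B ≤ V) (hBH : B ≤ H) (hB1 : ⁅B, Subgroup.zpowers x⁆ ≠ ⊥) : U = V :=
  (C.frame hne).same hU hV hH (Subgroup.zpowers_le.2 hxH) (ne_bot_mono (le_inf hA hAH) hA1)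
    (ne_bot_mono (le_inf hB hBH) hB1)

/-- `C(x)` normalises each member. -/
theorem cn_le_normalizer (hU : Cl x q U) : cn x ≤ Subgroup.normalizer (U : Set G) := by
  intro c hc
  have F := C.frame hne
  have hxU : x ∈ Subgroup.normalizer (U : Set G) := hU.om.2.1 (Subgroup.mem_zpowers x)
  have hndvd : ¬ p ∣ Nat.card U := by
    have h1 := C.cop hU.om.1 hne
    rw [Nat.card_zpowers x, C.ord] at h1
    exact C.prime.coprime_iff_not_dvd.1 h1
  obtain ⟨a, ha, hax⟩ : ∃ a ∈ U, ¬ Commute x a := by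
    by_contra h
    push Not at h
    exact hU.mov (Subgroup.commutator_eq_bot_iff_le_centralizer.2 fun a ha => mem_cn.2 (h a ha))
  obtain ⟨-, -, -, K, hK, hxK, hMK, hcK, -⟩ := C.keyK hxU hndvd ha (mem_cn.1 hc)
  set M := cc x a with hM
  have hMU : M ≤ U := FlavellGen.cc_le hxU ha
  have hM1 : ⁅M, Subgroup.zpowers x⁆ ≠ ⊥ := fun h => hax (by
    have h1 : a⁻¹ * x * a * x⁻¹ ∈ (⊥ : Subgroup G) :=
      h ▸ FlavellGen.cc_le_commutator_cc hxU (C.cop hU.om.1 hne) ha (FlavellGen.gen_one_mem_cc x a)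
    rw [Subgroup.mem_bot, mul_inv_eq_one, mul_assoc, inv_mul_eq_iff_eq_mul] at h1
    exact h1)
  refine mem_normalizer_of_cj_le (C.eq_of_meet hne (F.clu_cj hc hU) hU hK hxK
    (cj_mono hMU) ?_ ?_ hMU hMK hM1).le
  · exact (cj_mono hMK).trans (cj_eq_self (Subgroup.le_normalizer hcK)).le
  · intro h
    refine hM1 ?_
    rw [← cj_eq_bot (g := c), cj_comm, cj_eq_self (cn_le_normalizer_zpowers x hc)]
    exact h

theorem oq_cn_le (hU : Cl x q U) : oq q (cn x) ≤ U :=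
  (C.frame hne).Y_le hU (oq_le.trans (C.cn_le_normalizer hne hU))

theorem cn_le_normalizer_rr (hU : Cl x q U) : cn x ≤ Subgroup.normalizer (rr x U : Set G) :=
  le_normalizer_comm (C.cn_le_normalizer hne hU) (cn_le_normalizer_zpowers x)

/-- A nontrivial fixed `q`-element forces one member. -/
theorem single_of_mem {c : G} (hc : c ∈ cn x) (hcq : IsPGroup q (Subgroup.zpowers c))
    (hc1 : c ≠ 1) : Single x q := by
  have key : ∀ U, Cl x q U → ∃ B, B ≤ U ∧ B ≤ cn c ∧ ⁅B, Subgroup.zpowers x⁆ ≠ ⊥ := by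
    intro U hU
    have hcR : Subgroup.zpowers c ≤ Subgroup.normalizer (rr x U : Set G) :=
      (Subgroup.zpowers_le.2 hc).trans (C.cn_le_normalizer_rr hne hU)
    set T := rr x U ⊔ Subgroup.zpowers c with hT
    have hTq : IsPGroup q T := by
      rw [hT, sup_comm]
      exact hcq.to_sup_of_normal_right' (C.rr_q hne hU) hcR
    have hxT : Subgroup.zpowers x ≤ Subgroup.normalizer (T : Set G) := by
      refine le_normalizer_sup (Subgroup.zpowers_le.2 (C.rr_inv hne hU)) ?_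
      refine Subgroup.zpowers_le.2 (centralizer_le_normalizer_self _ ?_)
      exact mem_cn.2 (mem_cn.1 hc).symm
    have hTR : ⁅T, Subgroup.zpowers x⁆ ≤ rr x U := by
      rw [Subgroup.commutator_le]
      intro t ht g hg
      obtain ⟨r, hr, d, hd, rfl⟩ := (Coprime.mem_sup_iff hcR).1 ht
      have hgd : g * d = d * g := (Subgroup.zpowers_le.2 hc hd) g hg
      have h1 : ⁅r * d, g⁆ = ⁅r, g⁆ := by
        simp only [commutatorElement_def]
        calc r * d * g * (r * d)⁻¹ * g⁻¹ = r * (d * g) * d⁻¹ * r⁻¹ * g⁻¹ := by group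
          _ = r * (g * d) * d⁻¹ * r⁻¹ * g⁻¹ := by rw [hgd]
          _ = _ := by group
      rw [h1, ← C.rr_comm hne hU]
      exact Subgroup.commutator_mem_commutator hr hg
    have hT1 : ⁅T, Subgroup.zpowers x⁆ ≠ ⊥ :=
      ne_bot_mono le_sup_left (by rw [C.rr_comm hne hU]; exact hU.mov)
    obtain ⟨N, hNT, hxN, hN1, hNc⟩ := exists_moved_centralising hTq hxT hT1
    refine ⟨⁅N, Subgroup.zpowers x⁆,
      ((Subgroup.commutator_mono hNT le_rfl).trans hTR).trans (C.rr_le hne hU),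
      fun z hz => mem_cn.2 (hNc hz c ⟨Subgroup.mem_sup_right (Subgroup.mem_zpowers c), hc⟩), ?_⟩
    rw [(C.frame hne).comm_comm (hTq.to_le hNT) hxN]
    exact hN1
  intro U V hU hV
  obtain ⟨A, hA, hAH, hA1⟩ := key U hU
  obtain ⟨B, hB, hBH, hB1⟩ := key V hV
  exact C.eq_of_meet hne hU hV (C.cn_ne_top hc1) (mem_cn.2 (mem_cn.1 hc).symm) hA hAH hA1 hB hBH hB1

/-- With several members, `x` fixes no nontrivial `q`-element. -/
theorem inf_cn_eq_bot (h : ¬ Single x q) {W : Subgroup G} (hW : IsPGroup q W) : W ⊓ cn x = ⊥ := by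
  rw [eq_bot_iff]
  intro c hc
  by_contra hc1
  exact h (C.single_of_mem hne hc.2 (hW.to_le (Subgroup.zpowers_le.2 hc.1))
    (fun h => hc1 (Subgroup.mem_bot.2 h)))

/-- `W = [W, x] C_W(x)`. -/
theorem split {W : Subgroup G} (hW : IsPGroup q W) (hxW : x ∈ Subgroup.normalizer (W : Set G)) :
    ⁅W, Subgroup.zpowers x⁆ ⊔ (W ⊓ cn x) = W :=
  Coprime.commutator_sup_centralizer (Subgroup.zpowers_le.2 hxW) (C.cop hW hne) (Or.inl C.solv)

theorem rr_le_oq {H : Subgroup G} (hU : Cl x q U) (hH : H ≠ ⊤) (hxH : x ∈ H) (h : rr x U ≤ H) :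
    rr x U ≤ ⁅oq q H, Subgroup.zpowers x⁆ := by
  have h1 := C.key hne hH hxH (C.rr_q hne hU) h (C.rr_inv hne hU)
  rwa [C.rr_comm hne hU] at h1

/-- `[O_q(H), x] ≤ [U, x]` when `H` meets `U` in a moved subgroup. -/
theorem comm_oq_le {H A : Subgroup G} (hU : Cl x q U) (hH : H ≠ ⊤) (hxH : x ∈ H)
    (hA : A ≤ U) (hAH : A ≤ H) (hA1 : ⁅A, Subgroup.zpowers x⁆ ≠ ⊥) :
    ⁅oq q H, Subgroup.zpowers x⁆ ≤ rr x U := by
  by_cases h : ⁅oq q H, Subgroup.zpowers x⁆ = ⊥
  · exact h ▸ bot_le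
  obtain ⟨V, hV, hle⟩ := C.exists_cl hne isPGroup_oq (le_normalizer_oq hxH) h
  have hVU : V = U := C.eq_of_meet hne hV hU hH hxH (hle.trans (C.rr_le hne hV))
    (((C.frame hne).comm_le ((Subgroup.zpowers_le.2 hxH).trans le_normalizer_oq)).trans oq_le)
    (by rw [(C.frame hne).comm_comm isPGroup_oq ((Subgroup.zpowers_le.2 hxH).trans le_normalizer_oq)]
        exact h) hA hAH hA1
  exact hVU ▸ hle

theorem exists_maximal (hU : Cl x q U) :
    ∃ M : Subgroup G, IsCoatom M ∧ Subgroup.normalizer (rr x U : Set G) ≤ M := by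
  rcases eq_top_or_exists_le_coatom (Subgroup.normalizer (rr x U : Set G)) with h | ⟨M, hM, hle⟩
  · exact absurd h (C.normalizer_ne_top' (C.rr_q hne hU) hU.mov)
  · exact ⟨M, hM, hle⟩

/-- A maximal subgroup over `N([U, x])`. -/
structure Over (x : G) (U M : Subgroup G) : Prop where
  coatom : IsCoatom M
  le : Subgroup.normalizer (rr x U : Set G) ≤ M

variable {M : Subgroup G} (hU : Cl x q U) (hM : Over x U M)

include hU hM

theorem cn_le_over : cn x ≤ M := (C.cn_le_normalizer_rr hne hU).trans hM.le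

theorem mem_over : x ∈ M := C.cn_le_over hne hU hM (mem_cn_self x)

theorem rr_le_over : rr x U ≤ M := Subgroup.le_normalizer.trans hM.le

theorem le_over : U ≤ M := by
  conv_lhs => rw [← C.split hne hU.om.1 (hU.om.2.1 (Subgroup.mem_zpowers x))]
  exact sup_le (C.rr_le_over hne hU hM) (inf_le_right.trans (C.cn_le_over hne hU hM))

/-- `[O_q(M), x] = [U, x]`. -/
theorem rr_eq : ⁅oq q M, Subgroup.zpowers x⁆ = rr x U :=
  le_antisymm
    (C.comm_oq_le hne hU hM.coatom.1 (C.mem_over hne hU hM) (C.rr_le hne hU)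
      (C.rr_le_over hne hU hM) (by rw [C.rr_comm hne hU]; exact hU.mov))
    (C.rr_le_oq hne hU hM.coatom.1 (C.mem_over hne hU hM) (C.rr_le_over hne hU hM))

theorem rr_le_oq_over : rr x U ≤ oq q M :=
  (C.rr_eq hne hU hM).ge.trans
    ((C.frame hne).comm_le ((Subgroup.zpowers_le.2 (C.mem_over hne hU hM)).trans le_normalizer_oq))

theorem oq_over_ne_bot : oq q M ≠ ⊥ := fun h =>
  hU.mov (le_bot_iff.1 ((C.rr_le_oq_over hne hU hM).trans h.le))

theorem normalizer_over : Subgroup.normalizer (M : Set G) = M := by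
  refine (hM.coatom.le_iff.1 Subgroup.le_normalizer).resolve_left fun h => ?_
  refine C.normalizer_ne_top' (q := q) isPGroup_oq (C.oq_over_ne_bot hne hU hM)
    (top_le_iff.1 (h.ge.trans fun g hg => mem_normalizer_oq_of_mem_normalizer hg))

/-- With one member, `M` contains every `x`-invariant `q`-group. -/
theorem le_of_single (hs : Single x q) {W : Subgroup G} (hW : IsPGroup q W)
    (hxW : x ∈ Subgroup.normalizer (W : Set G)) : W ≤ M := by
  rw [← C.split hne hW hxW]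
  refine sup_le ?_ (inf_le_right.trans (C.cn_le_over hne hU hM))
  by_cases h : ⁅W, Subgroup.zpowers x⁆ = ⊥
  · exact h ▸ bot_le
  obtain ⟨V, hV, hle⟩ := C.exists_cl hne hW hxW h
  rw [hs V U hV hU] at hle
  exact hle.trans (C.rr_le_over hne hU hM)

end Ctx

end Cfsg.Agent.SecondFitting
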