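import Cfsg.Agent.Lib.SecondFitting.FitStep
import Cfsg.Agent.Lib.SecondFitting.Cover

/-!
# Flavell: membership of the second Fitting subgroup is detected by two-generated subgroups

`mem_F2_of_two_generated`
-/

set_option autoImplicit false
set_option linter.style.haveILetI false

namespace Cfsg.Agent.SecondFitting

open scoped Pointwise commutatorElement

universe u

variable {G : Type u} [Group G]

/-- `x` lies in `F₂` of every subgroup it generates with one further element. -/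
def Hyp (x : G) : Prop := ∀ y : G, x ∈ f2 (Subgroup.closure ({x, y} : Set G))

variable [Finite G]

theorem Hyp.pow {x : G} (h : Hyp x) (k : ℕ) : Hyp (x ^ k) := fun y => by
  refine f2_mono (H := Subgroup.closure ({x, y} : Set G)) ?_ (Subgroup.pow_mem _ (h y) k)
    (Subgroup.subset_closure (Or.inl rfl))
  rw [Subgroup.closure_le]
  rintro z (rfl | rfl)
  exacts [Subgroup.pow_mem _ (Subgroup.subset_closure (Set.mem_insert x _)) k,
    Subgroup.subset_closure (Set.mem_insert_of_mem x rfl)]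

theorem Hyp.subgroup {x : G} (h : Hyp x) {H : Subgroup G} (hx : x ∈ H) : Hyp (⟨x, hx⟩ : H) := by
  intro y
  rw [← f2_map_iff H.subtype H.subtype_injective, MonoidHom.map_closure, Set.image_pair]
  exact h y

theorem Hyp.quotient {x : G} (h : Hyp x) (N : Subgroup G) [N.Normal] :
    Hyp (QuotientGroup.mk' N x) := by
  intro y
  obtain ⟨y, rfl⟩ := QuotientGroup.mk'_surjective N y
  have h1 := f2_map (QuotientGroup.mk' N) (h y)
  rwa [MonoidHom.map_closure, Set.image_pair] at h1

theorem F2_eq_bot (hF : Cfsg.fittingSubgroup G = ⊥) : F2 G = ⊥ := by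
  haveI : (F2 G).Normal := F2_normal
  have hn : (FittingLength.res (F2 G)).Normal := by
    have := FittingLength.normal_resIter (F2 G) 1
    rwa [FittingLength.resIter_succ, FittingLength.resIter_zero] at this
  have h1 : FittingLength.res (F2 G) = ⊥ :=
    le_bot_iff.1 ((Cores.le_fittingSubgroup hn isNilpotent_res_F2).trans hF.le)
  exact le_bot_iff.1 ((Cores.le_fittingSubgroup inferInstance
    (FittingLength.isNilpotent_of_res_eq_bot h1)).trans hF.le)

theorem mem_F2_of_disjoint (N₁ N₂ : Subgroup G) [N₁.Normal] [N₂.Normal] (h : N₁ ⊓ N₂ = ⊥) {x : G}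
    (h₁ : QuotientGroup.mk' N₁ x ∈ F2 (G ⧸ N₁)) (h₂ : QuotientGroup.mk' N₂ x ∈ F2 (G ⧸ N₂)) :
    x ∈ F2 G := by
  set f₁ := QuotientGroup.mk' N₁
  set f₂ := QuotientGroup.mk' N₂
  haveI : ((F2 (G ⧸ N₁)).comap f₁).Normal := F2_normal.comap f₁
  haveI : ((F2 (G ⧸ N₂)).comap f₂).Normal := F2_normal.comap f₂
  set X := (F2 (G ⧸ N₁)).comap f₁ ⊓ (F2 (G ⧸ N₂)).comap f₂ with hX
  refine le_F2_of_res (X := X) ?_ ⟨h₁, h₂⟩
  set A := FittingLength.res (F2 (G ⧸ N₁))
  set B := FittingLength.res (F2 (G ⧸ N₂))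
  have hA : Group.IsNilpotent A := isNilpotent_res_F2
  have hB : Group.IsNilpotent B := isNilpotent_res_F2
  have hle : (FittingLength.res X).map (f₁.prod f₂) ≤ A.prod B := by
    rintro _ ⟨z, hz, rfl⟩
    refine ⟨?_, ?_⟩
    · have : f₁ z ∈ (FittingLength.res X).map f₁ := ⟨z, hz, rfl⟩
      rw [FittingLength.map_res] at this
      exact FittingLength.res_mono ((Subgroup.map_mono inf_le_left).trans (Subgroup.map_comap_le _ _))
        this
    · have : f₂ z ∈ (FittingLength.res X).map f₂ := ⟨z, hz, rfl⟩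
      rw [FittingLength.map_res] at this
      exact FittingLength.res_mono ((Subgroup.map_mono inf_le_right).trans (Subgroup.map_comap_le _ _))
        this
  have hAB : Group.IsNilpotent ↥(A.prod B) :=
    Group.nilpotent_of_mulEquiv (_h := inferInstance) (A.prodEquiv B).symm
  refine isNilpotent_of_map (f₁.prod f₂) ?_ (Cores.isNilpotent_of_le hle hAB)
  rw [← MonoidHom.ker_eq_bot_iff, MonoidHom.ker_prod, QuotientGroup.ker_mk', QuotientGroup.ker_mk']
  exact h

theorem mem_F2_of_two_generated_aux : ∀ (n : ℕ) (G : Type u) [Group G] [Finite G] (x : G),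
    Nat.card G = n → Hyp x → x ∈ F2 G := by
  intro n
  induction n using Nat.strong_induction_on with
  | _ n ih =>
  intro G _ _ x hn hx
  have hsub : ∀ z : G, Hyp z → ∀ H : Subgroup G, H ≠ ⊤ → z ∈ H → z ∈ f2 H := by
    intro z hz H hH hzH
    have hlt : Nat.card H < n := by
      rw [← hn]
      by_contra hge
      exact hH (Subgroup.card_eq_iff_eq_top H |>.1
        (le_antisymm (Subgroup.card_le_card_group H) (not_lt.1 hge)))
    exact ⟨⟨z, hzH⟩, ih _ hlt H ⟨z, hzH⟩ rfl (hz.subgroup hzH), rfl⟩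
  have hquot : ∀ z : G, Hyp z → ∀ (N : Subgroup G) [N.Normal], N ≠ ⊥ →
      QuotientGroup.mk' N z ∈ F2 (G ⧸ N) := by
    intro z hz N _ hN
    refine ih _ ?_ (G ⧸ N) _ rfl (hz.quotient N)
    rw [← hn, Subgroup.card_eq_card_quotient_mul_card_subgroup N]
    exact lt_mul_of_one_lt_right Nat.card_pos (Subgroup.one_lt_card_iff_ne_bot N |>.2 hN)
  -- `p`-elements
  have hp : ∀ (z : G), Hyp z → ∀ p k : ℕ, p.Prime → orderOf z = p ^ k → z ∈ F2 G := by
    intro z hz p k hp hk
    by_contra hnot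
    haveI : Fact p.Prime := ⟨hp⟩
    have hgen : ∀ (w : G), Hyp w → w ∉ F2 G → ∀ y, Subgroup.closure ({w, y} : Set G) ≠ ⊤ :=
      fun w hw hwn y h => hwn (mem_f2_top_iff.1 (h ▸ hw y))
    have hmeet : ∀ N₁ N₂ : Subgroup G, N₁.Normal → N₂.Normal → N₁ ≠ ⊥ → N₂ ≠ ⊥ → N₁ ⊓ N₂ ≠ ⊥ := by
      intro N₁ N₂ h₁ h₂ hne₁ hne₂ h
      exact hnot (mem_F2_of_disjoint N₁ N₂ h (hquot z hz N₁ hne₁) (hquot z hz N₂ hne₂))
    have hF : Cfsg.fittingSubgroup G = ⊥ :=
      fitting_eq_bot (isPGroup_zpowers_of_orderOf hk) hz (hquot z hz) hmeet hnot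
    cases k with
    | zero =>
      rw [pow_zero, orderOf_eq_one_iff] at hk
      exact hnot (hk ▸ one_mem _)
    | succ k =>
      set w := z ^ p ^ k with hw
      have hwo : orderOf w = p := by
        rw [hw, orderOf_pow_of_dvd (pow_ne_zero _ hp.ne_zero) (hk ▸ pow_dvd_pow p (Nat.le_succ k)),
          hk, pow_succ, Nat.mul_div_cancel_left _ (pow_pos hp.pos k)]
      have hwH : Hyp w := hz.pow _
      have hwn : w ∉ F2 G := by
        rw [F2_eq_bot hF, Subgroup.mem_bot]
        intro h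
        rw [h, orderOf_one] at hwo
        exact hp.one_lt.ne hwo
      exact (⟨hp, hwo, hF, hsub w hwH, hgen w hwH hwn, hmeet⟩ : Ctx G p w).false
  -- all primary parts
  set S := Subgroup.zpowers x ⊓ F2 G with hS
  suffices h : Subgroup.zpowers x ≤ S from (h (Subgroup.mem_zpowers x)).2
  refine (Subgroup.eq_of_le_of_card_ge (inf_le_left : S ≤ Subgroup.zpowers x) ?_).ge
  rw [Nat.card_zpowers]
  refine Nat.le_of_dvd Nat.card_pos ?_
  rw [← Nat.factorization_prime_le_iff_dvd (orderOf_pos x).ne' Nat.card_pos.ne']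
  intro q hq
  set e := (orderOf x).factorization q
  have hdvd : orderOf x / q ^ e ∣ orderOf x := Nat.div_dvd_of_dvd (Nat.ordProj_dvd _ _)
  set w := x ^ (orderOf x / q ^ e) with hw
  have hwo : orderOf w = q ^ e := by
    rw [hw, orderOf_pow_of_dvd (Nat.div_pos (Nat.ordProj_le q (orderOf_pos x).ne')
      (pow_pos hq.pos e)).ne' hdvd, Nat.div_div_self (Nat.ordProj_dvd _ _) (orderOf_pos x).ne']
  have hwS : w ∈ S := ⟨Subgroup.pow_mem _ (Subgroup.mem_zpowers x) _,
    hp w (hx.pow _) q e hq hwo⟩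
  have h1 : q ^ e ∣ Nat.card S := by
    rw [← hwo, ← Subgroup.orderOf_mk w hwS]
    exact orderOf_dvd_natCard _
  exact (Nat.Prime.pow_dvd_iff_le_factorization hq Nat.card_pos.ne').1 h1

/-- Flavell's theorem. -/
theorem mem_F2_of_two_generated {x : G} (h : Hyp x) : x ∈ F2 G :=
  mem_F2_of_two_generated_aux _ G x rfl h

end Cfsg.Agent.SecondFitting
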