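import Cfsg.Agent.Lib.SecondFitting.Basic
import Cfsg.Agent.Lib.FlavellGen.Basic
import Cfsg.Agent.Lib.Coprime.PQ

/-!
# The setting for a minimal counterexample with trivial Fitting subgroup

* `cj g H` : the conjugate `g H g⁻¹`; `cn x` : the centraliser of `⟨x⟩`
* `Ctx G p x` : every proper subgroup has the conjugates of `x` it contains in its `F2`, and `F(G) = 1`
* `Ctx.key` : `[W, x] ≤ O_q(H)` for `x`-invariant `q`-subgroups `W` of a proper subgroup `H ∋ x`
* `Ctx.keyK` : a proper subgroup containing `x`, `[a, ⟨x⟩]` and a given element of `C(x)`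
* `Ctx.exists_conj_of_mem` : conjugates of `x` in a proper subgroup, up to `F(H)`
-/

set_option autoImplicit false
set_option linter.style.haveILetI false
set_option linter.unusedSectionVars false

namespace Cfsg.Agent.SecondFitting

open FlavellGen (cc)
open scoped Pointwise commutatorElement

universe u

variable {G : Type u} [Group G]

/-- The conjugate `g H g⁻¹`. -/
def cj (g : G) (H : Subgroup G) : Subgroup G := H.map (MulAut.conj g).toMonoidHom

/-- The centraliser of `⟨x⟩`. -/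
def cn (x : G) : Subgroup G := Subgroup.centralizer (Subgroup.zpowers x : Set G)

theorem mem_cn {x c : G} : c ∈ cn x ↔ Commute x c :=
  ⟨FlavellGen.commute_of_mem_centralizer, FlavellGen.mem_centralizer_of_commute⟩

theorem mem_cn_self (x : G) : x ∈ cn x := mem_cn.2 (Commute.refl x)

theorem zpowers_le_cn (x : G) : Subgroup.zpowers x ≤ cn x := Subgroup.zpowers_le.2 (mem_cn_self x)

section Cj

theorem mem_cj {g z : G} {H : Subgroup G} : z ∈ cj g H ↔ g⁻¹ * z * g ∈ H := by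
  constructor
  · rintro ⟨w, hw, rfl⟩
    simpa [mul_assoc] using hw
  · intro h
    exact ⟨_, h, by simp [mul_assoc]⟩

theorem conj_mem_cj {g z : G} {H : Subgroup G} : g * z * g⁻¹ ∈ cj g H ↔ z ∈ H := by
  rw [mem_cj]; simp [mul_assoc]

theorem cj_one (H : Subgroup G) : cj 1 H = H := Subgroup.ext fun z => by simp [mem_cj]

theorem cj_cj (g h : G) (H : Subgroup G) : cj g (cj h H) = cj (g * h) H :=
  Subgroup.ext fun z => by simp [mem_cj, mul_assoc]

theorem cj_inv_cj (g : G) (H : Subgroup G) : cj g⁻¹ (cj g H) = H := by simp [cj_cj, cj_one]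

theorem cj_cj_inv (g : G) (H : Subgroup G) : cj g (cj g⁻¹ H) = H := by simp [cj_cj, cj_one]

theorem cj_mono {g : G} {H K : Subgroup G} (h : H ≤ K) : cj g H ≤ cj g K := Subgroup.map_mono h

theorem cj_le_iff {g : G} {H K : Subgroup G} : cj g H ≤ cj g K ↔ H ≤ K :=
  ⟨fun h => by simpa [cj_inv_cj] using cj_mono (g := g⁻¹) h, cj_mono⟩

theorem le_cj_iff {g : G} {H K : Subgroup G} : H ≤ cj g K ↔ cj g⁻¹ H ≤ K := by
  conv_lhs => rw [← cj_cj_inv g H]
  exact cj_le_iff

theorem cj_bot (g : G) : cj g (⊥ : Subgroup G) = ⊥ := Subgroup.map_bot _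

theorem cj_eq_bot {g : G} {H : Subgroup G} : cj g H = ⊥ ↔ H = ⊥ := by
  rw [cj, Subgroup.map_eq_bot_iff_of_injective _ (MulAut.conj g).injective]

theorem cj_ne_top {g : G} {H : Subgroup G} (h : H ≠ ⊤) : cj g H ≠ ⊤ := fun h1 =>
  h (eq_top_iff.2 fun z _ => conj_mem_cj.1 (h1.symm ▸ Subgroup.mem_top _ : g * z * g⁻¹ ∈ cj g H))

theorem cj_comm (g : G) (H K : Subgroup G) : cj g ⁅H, K⁆ = ⁅cj g H, cj g K⁆ :=
  Subgroup.map_commutator _ _ _

theorem cj_zpowers (g x : G) : cj g (Subgroup.zpowers x) = Subgroup.zpowers (g * x * g⁻¹) :=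
  MonoidHom.map_zpowers _ _

theorem isPGroup_cj {q : ℕ} {g : G} {H : Subgroup G} (h : IsPGroup q H) : IsPGroup q (cj g H) :=
  h.map _

theorem mem_normalizer_cj {g n : G} {H : Subgroup G} :
    n ∈ Subgroup.normalizer (cj g H : Set G) ↔
      g⁻¹ * n * g ∈ Subgroup.normalizer (H : Set G) := by
  rw [Subgroup.mem_normalizer_iff, Subgroup.mem_normalizer_iff]
  constructor
  · intro h z
    have := h (g * z * g⁻¹)
    simpa [mem_cj, mul_assoc] using this
  · intro h z
    simpa [mem_cj, mul_assoc] using h (g⁻¹ * z * g)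

theorem normalizer_cj (g : G) (H : Subgroup G) :
    Subgroup.normalizer (cj g H : Set G) = cj g (Subgroup.normalizer (H : Set G)) :=
  Subgroup.ext fun n => by rw [mem_normalizer_cj, mem_cj]

theorem cn_cj (g x : G) : cj g (cn x) = cn (g * x * g⁻¹) := by
  ext z
  rw [mem_cj, mem_cn, mem_cn]
  constructor
  · intro h
    have := h.map (MulAut.conj g)
    simpa [mul_assoc] using this
  · intro h
    have := h.map (MulAut.conj g⁻¹)
    simpa [mul_assoc] using this

theorem oq_cj [Finite G] (q : ℕ) (g : G) (H : Subgroup G) : cj g (oq q H) = oq q (cj g H) := by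
  have key : ∀ (g : G) (H : Subgroup G), cj g (oq q H) ≤ oq q (cj g H) := fun g H =>
    le_oq (cj_mono oq_le)
      ((cj_mono le_normalizer_oq).trans (normalizer_cj g _).ge) (isPGroup_cj isPGroup_oq)
  refine le_antisymm (key g H) ?_
  rw [le_cj_iff]
  simpa [cj_inv_cj] using key g⁻¹ (cj g H)

theorem cj_eq_self [Finite G] {g : G} {H : Subgroup G}
    (h : g ∈ Subgroup.normalizer (H : Set G)) : cj g H = H :=
  Subgroup.ext fun z => by
    rw [mem_cj]
    simpa using (Subgroup.mem_normalizer_iff.1 (inv_mem h) z).symm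

theorem mem_normalizer_of_cj_le [Finite G] {g : G} {H : Subgroup G} (h : cj g H ≤ H) :
    g ∈ Subgroup.normalizer (H : Set G) :=
  Coprime.mem_normalizer_of_forall fun _ hz => h (conj_mem_cj.2 hz)

theorem le_normalizer_iff [Finite G] {A H : Subgroup G} :
    A ≤ Subgroup.normalizer (H : Set G) ↔ ∀ a ∈ A, ∀ h ∈ H, a * h * a⁻¹ ∈ H :=
  ⟨fun hA _ ha h hh => (Subgroup.mem_normalizer_iff.1 (hA ha) h).1 hh,
    fun h _ ha => Coprime.mem_normalizer_of_forall fun z hz => h _ ha z hz⟩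

theorem le_normalizer_inf [Finite G] {A H K : Subgroup G}
    (hH : A ≤ Subgroup.normalizer (H : Set G)) (hK : A ≤ Subgroup.normalizer (K : Set G)) :
    A ≤ Subgroup.normalizer ((H ⊓ K : Subgroup G) : Set G) :=
  le_normalizer_iff.2 fun a ha h hh =>
    ⟨le_normalizer_iff.1 hH a ha h hh.1, le_normalizer_iff.1 hK a ha h hh.2⟩

theorem le_normalizer_comm [Finite G] {A H K : Subgroup G}
    (hH : A ≤ Subgroup.normalizer (H : Set G)) (hK : A ≤ Subgroup.normalizer (K : Set G)) :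
    A ≤ Subgroup.normalizer ((⁅H, K⁆ : Subgroup G) : Set G) := fun a ha => by
  refine mem_normalizer_of_cj_le ?_
  rw [cj_comm, cj_eq_self (hH ha), cj_eq_self (hK ha)]

theorem le_normalizer_sup [Finite G] {A H K : Subgroup G}
    (hH : A ≤ Subgroup.normalizer (H : Set G)) (hK : A ≤ Subgroup.normalizer (K : Set G)) :
    A ≤ Subgroup.normalizer ((H ⊔ K : Subgroup G) : Set G) := fun a ha => by
  refine mem_normalizer_of_cj_le ?_
  rw [cj, Subgroup.map_sup]
  exact sup_le_sup (cj_eq_self (hH ha)).le (cj_eq_self (hK ha)).le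

theorem centralizer_le_normalizer_self (E : Subgroup G) :
    Subgroup.centralizer (E : Set G) ≤ Subgroup.normalizer (E : Set G) :=
  Subgroup.centralizer_le_normalizer _

theorem cj_eq_self_of_commute [Finite G] {c x : G} (h : Commute x c) :
    cj c (Subgroup.zpowers x) = Subgroup.zpowers x := by
  rw [cj_zpowers, ← h.eq, mul_inv_cancel_right]

/-- `[W, ⟨S⟩] ≤ N` when `S` normalises `N` and the commutators with `S` lie in `N`. -/
theorem commutator_closure_le {W N : Subgroup G} {S : Set G}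
    (hS : S ⊆ Subgroup.normalizer (N : Set G)) (h : ∀ w ∈ W, ∀ s ∈ S, ⁅w, s⁆ ∈ N) :
    ⁅W, Subgroup.closure S⁆ ≤ N := by
  rw [Subgroup.commutator_le]
  intro w hw e he
  revert w
  suffices e ∈ Subgroup.normalizer (N : Set G) ∧ ∀ w ∈ W, ⁅w, e⁆ ∈ N from this.2
  induction he using Subgroup.closure_induction with
  | mem s hs => exact ⟨hS hs, fun w hw => h w hw s hs⟩
  | one => exact ⟨one_mem _, fun w _ => by simp⟩
  | mul a b _ _ ha hb =>
    refine ⟨mul_mem ha.1 hb.1, fun w hw => ?_⟩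
    have e1 : ⁅w, a * b⁆ = ⁅w, a⁆ * (a * ⁅w, b⁆ * a⁻¹) := by
      simp only [commutatorElement_def]; group
    rw [e1]
    exact N.mul_mem (ha.2 w hw) ((Subgroup.mem_normalizer_iff.1 ha.1 _).1 (hb.2 w hw))
  | inv a _ ha =>
    refine ⟨inv_mem ha.1, fun w hw => ?_⟩
    have e1 : ⁅w, a⁻¹⁆ = a⁻¹ * ⁅w, a⁆⁻¹ * a⁻¹⁻¹ := by
      simp only [commutatorElement_def]; group
    rw [e1]
    exact (Subgroup.mem_normalizer_iff.1 (inv_mem ha.1) _).1 (N.inv_mem (ha.2 w hw))

end Cj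

/-- An element of `N ⟨x⟩` of the order of `x`, congruent to `x` modulo `N`. -/
theorem exists_conj_of_mem_sup [Finite G] {N : Subgroup G} {x w : G}
    (hx : x ∈ Subgroup.normalizer (N : Set G))
    (hcop : (Nat.card (Subgroup.zpowers x)).Coprime (Nat.card N))
    (hord : orderOf w = orderOf x) (hwx : w * x⁻¹ ∈ N) : ∃ m ∈ N, w = m * x * m⁻¹ := by
  have hL : Subgroup.zpowers w ≤ N ⊔ Subgroup.zpowers x := by
    rw [Subgroup.zpowers_le]
    simpa using Subgroup.mul_mem_sup hwx (Subgroup.mem_zpowers x)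
  obtain ⟨m, hm, hmA⟩ := Coprime.exists_conj_eq_of_le_sup (Subgroup.zpowers_le.2 hx) hcop
    (Or.inl (Group.isSolvable_of_comm fun a b => mul_comm' a b)) hL
    (by rw [Nat.card_zpowers, Nat.card_zpowers, hord])
  have h1 : m⁻¹ * w * m ∈ Subgroup.zpowers x :=
    Coprime.mem_conj.mp (hmA ▸ Subgroup.mem_zpowers w)
  have h2 : m⁻¹ * w * m * x⁻¹ ∈ N := by
    rw [show m⁻¹ * w * m * x⁻¹ = m⁻¹ * (w * x⁻¹) * (x * m * x⁻¹) by group]
    exact N.mul_mem (N.mul_mem (N.inv_mem hm) hwx) ((Subgroup.mem_normalizer_iff.1 hx m).1 hm)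
  have h3 := mul_inv_eq_one.mp (Coprime.eq_one_of_mem_of_mem hcop
    ((Subgroup.zpowers x).mul_mem h1 ((Subgroup.zpowers x).inv_mem (Subgroup.mem_zpowers x))) h2)
  exact ⟨m, hm, by
    calc w = m * (m⁻¹ * w * m) * m⁻¹ := by group
      _ = _ := by rw [h3]⟩

/-- The setting: every proper subgroup has `x` in its second Fitting subgroup, `F(G) = 1`, no two
elements one of which is `x` generate, and nontrivial normal subgroups meet. -/
structure Ctx (G : Type u) [Group G] (p : ℕ) (x : G) : Prop where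
  prime : p.Prime
  ord : orderOf x = p
  fit : Cfsg.fittingSubgroup G = ⊥
  sub : ∀ H : Subgroup G, H ≠ ⊤ → x ∈ H → x ∈ f2 H
  gen : ∀ y : G, Subgroup.closure ({x, y} : Set G) ≠ ⊤
  meet : ∀ N₁ N₂ : Subgroup G, N₁.Normal → N₂.Normal → N₁ ≠ ⊥ → N₂ ≠ ⊥ → N₁ ⊓ N₂ ≠ ⊥

namespace Ctx

variable [Finite G] {p : ℕ} {x : G} (C : Ctx G p x)

include C

theorem conj (g : G) : Ctx G p (g * x * g⁻¹) where
  prime := C.prime
  ord := by
    rw [← C.ord]
    exact orderOf_injective (MulAut.conj g).toMonoidHom (MulAut.conj g).injective x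
  fit := C.fit
  sub H hH hx := by
    have h := C.sub (cj g⁻¹ H) (cj_ne_top hH) (by rw [mem_cj]; simpa using hx)
    have h1 := f2_map (MulAut.conj g).toMonoidHom h
    rw [show (cj g⁻¹ H).map (MulAut.conj g).toMonoidHom = H from cj_cj_inv g H] at h1
    exact h1
  gen y h := by
    refine C.gen (g⁻¹ * y * g) ?_
    have : cj g⁻¹ (Subgroup.closure ({g * x * g⁻¹, y} : Set G)) =
        Subgroup.closure ({x, g⁻¹ * y * g} : Set G) := by
      rw [cj, MonoidHom.map_closure]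
      congr 1
      simp [Set.image_insert_eq, mul_assoc]
    rw [← this, h]
    exact Subgroup.map_top_of_surjective _ (MulAut.conj g⁻¹).surjective
  meet := C.meet

theorem of_isConj {w : G} (h : IsConj x w) : Ctx G p w := by
  obtain ⟨g, rfl⟩ := isConj_iff.1 h
  exact C.conj g

theorem ne_one : x ≠ 1 := fun h => C.prime.one_lt.ne' (by rw [← C.ord, h, orderOf_one])

theorem fact : Fact p.Prime := ⟨C.prime⟩

theorem isPGroup : IsPGroup p (Subgroup.zpowers x) :=
  isPGroup_zpowers_of_orderOf (k := 1) (by rw [C.ord, pow_one])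

theorem cop {q : ℕ} [Fact q.Prime] {W : Subgroup G} (hW : IsPGroup q W) (hne : q ≠ p) :
    (Nat.card (Subgroup.zpowers x)).Coprime (Nat.card W) := by
  haveI := C.fact
  exact IsPGroup.coprime_card_of_ne p q (Ne.symm hne) _ _ C.isPGroup hW

theorem cop_of_not_dvd {W : Subgroup G} (hW : ¬ p ∣ Nat.card W) :
    (Nat.card (Subgroup.zpowers x)).Coprime (Nat.card W) := by
  rw [Nat.card_zpowers, C.ord]
  exact C.prime.coprime_iff_not_dvd.2 hW

theorem solv : Group.IsSolvable (Subgroup.zpowers x) :=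
  Group.isSolvable_of_comm fun a b => mul_comm' a b

/-- `[[W, x], x] = [W, x]`. -/
theorem comm_comm {q : ℕ} [Fact q.Prime] {W : Subgroup G} (hW : IsPGroup q W) (hne : q ≠ p)
    (hxW : x ∈ Subgroup.normalizer (W : Set G)) :
    ⁅⁅W, Subgroup.zpowers x⁆, Subgroup.zpowers x⁆ = ⁅W, Subgroup.zpowers x⁆ :=
  Coprime.commutator_commutator_eq (Subgroup.zpowers_le.2 hxW) (C.cop hW hne) (Or.inl C.solv)

theorem mem_xp {H : Subgroup G} (hH : H ≠ ⊤) {w : G} (hw : IsConj x w) (hwH : w ∈ H) :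
    w ∈ xp p H := by
  haveI := C.fact
  have Cw := C.of_isConj hw
  exact mem_xp_of_mem_f2 Cw.isPGroup (Cw.sub H hH hwH)

theorem commutator_le_xp {H W : Subgroup G} (hH : H ≠ ⊤) (hxH : x ∈ H) (hWH : W ≤ H) :
    ⁅W, Subgroup.zpowers x⁆ ≤ xp p H := by
  refine le_trans (Subgroup.commutator_mono hWH (Subgroup.zpowers_le.2 (C.mem_xp hH (IsConj.refl x) hxH))) ?_
  exact Subgroup.le_normalizer_iff_commutator_le_right.1 le_normalizer_xp

/-- `[W, x] ≤ [O_q(H), x]`. -/
theorem key {q : ℕ} [Fact q.Prime] (hne : q ≠ p) {H W : Subgroup G} (hH : H ≠ ⊤) (hxH : x ∈ H)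
    (hW : IsPGroup q W) (hWH : W ≤ H) (hxW : x ∈ Subgroup.normalizer (W : Set G)) :
    ⁅W, Subgroup.zpowers x⁆ ≤ ⁅oq q H, Subgroup.zpowers x⁆ := by
  haveI := C.fact
  have hle : ⁅W, Subgroup.zpowers x⁆ ≤ W :=
    Subgroup.le_normalizer_iff_commutator_le_left.1 (Subgroup.zpowers_le.2 hxW)
  rw [← C.comm_comm hW hne hxW]
  exact Subgroup.commutator_mono
    (le_oq_of_le_xp (Ne.symm hne) (hW.to_le hle) (C.commutator_le_xp hH hxH hWH)) le_rfl

theorem normalizer_ne_top {D : Subgroup G} (hD : Group.IsNilpotent D) (h1 : D ≠ ⊥) :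
    Subgroup.normalizer (D : Set G) ≠ ⊤ := fun h =>
  h1 (le_bot_iff.1 ((Cores.le_fittingSubgroup (Subgroup.normalizer_eq_top_iff.1 h) hD).trans C.fit.le))

theorem normalizer_ne_top' {q : ℕ} [Fact q.Prime] {D : Subgroup G} (hD : IsPGroup q D)
    (h1 : D ≠ ⊥) : Subgroup.normalizer (D : Set G) ≠ ⊤ :=
  C.normalizer_ne_top hD.isNilpotent h1

theorem center_eq_bot : Subgroup.center G = ⊥ :=
  le_bot_iff.1 (Cores.center_le_fittingSubgroup.trans C.fit.le)

theorem cn_ne_top {z : G} (hz : z ≠ 1) : cn z ≠ ⊤ := fun h => by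
  refine hz (Subgroup.mem_bot.1 (C.center_eq_bot ▸ ?_ : z ∈ (⊥ : Subgroup G)))
  exact Subgroup.mem_center_iff.2 fun g => (mem_cn.1 (h ▸ Subgroup.mem_top g : g ∈ cn z)).eq.symm

/-- Some proper subgroup contains `x`, `[a, ⟨x⟩]` and `c`. -/
theorem keyK {W : Subgroup G} (hxW : x ∈ Subgroup.normalizer (W : Set G))
    (hW : ¬ p ∣ Nat.card W) {a : G} (ha : a ∈ W) {c : G} (hc : Commute x c) :
    ∃ a' ∈ cc x a, a'⁻¹ * x * a' = a⁻¹ * x * a ∧
      ∃ K : Subgroup G, K ≠ ⊤ ∧ x ∈ K ∧ cc x a ≤ K ∧ c ∈ K ∧ a' ∈ K := by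
  set M := cc x a with hM
  have hMW : M ≤ W := FlavellGen.cc_le hxW ha
  have hord : orderOf (a⁻¹ * x * a) = orderOf x := by
    have h := orderOf_injective (MulAut.conj a⁻¹).toMonoidHom (MulAut.conj a⁻¹).injective x
    simpa using h
  obtain ⟨m, hm, hmx⟩ := exists_conj_of_mem_sup
    (FlavellGen.zpowers_le_normalizer_cc x a (Subgroup.mem_zpowers x))
    ((C.cop_of_not_dvd hW).coprime_dvd_right (Subgroup.card_dvd_of_le hMW)) hord
    (FlavellGen.gen_one_mem_cc x a)
  refine ⟨m⁻¹, M.inv_mem hm, by rw [inv_inv]; exact hmx.symm, ?_⟩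
  set y := m⁻¹ * c with hy
  refine ⟨Subgroup.closure {x, y}, C.gen y, Subgroup.subset_closure (Or.inl rfl), ?_⟩
  set K := Subgroup.closure ({x, y} : Set G)
  have hxK : x ∈ K := Subgroup.subset_closure (Or.inl rfl)
  have hyK : y ∈ K := Subgroup.subset_closure (Or.inr rfl)
  have hMK : M ≤ K := by
    have h1 : cj c⁻¹ M ≤ K := by
      rw [cj, hM, FlavellGen.cc, MonoidHom.map_closure, Subgroup.closure_le]
      rintro _ ⟨_, ⟨i, rfl⟩, rfl⟩
      have h2 : a⁻¹ * x ^ i * a = m * x ^ i * m⁻¹ := by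
        have := conj_pow (i := i) (a := a⁻¹) (b := x)
        rw [inv_inv] at this
        rw [← this, hmx, conj_pow]
      have h3 : (x ^ i)⁻¹ * c = c * (x ^ i)⁻¹ := (hc.pow_left i).inv_left.eq
      show c⁻¹ * (a⁻¹ * x ^ i * a * (x ^ i)⁻¹) * c⁻¹⁻¹ ∈ K
      have h4 : c⁻¹ * (a⁻¹ * x ^ i * a * (x ^ i)⁻¹) * c⁻¹⁻¹ =
          y⁻¹ * x ^ i * y * (x ^ i)⁻¹ := by
        rw [h2, inv_inv, mul_assoc c⁻¹, mul_assoc (m * x ^ i * m⁻¹), h3, hy]
        group
      rw [h4]
      exact K.mul_mem (K.mul_mem (K.mul_mem (K.inv_mem hyK) (K.pow_mem hxK i)) hyK)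
        (K.inv_mem (K.pow_mem hxK i))
    intro z hz
    have h5 : c⁻¹ * (m * z * m⁻¹) * c ∈ K := h1 (mem_cj.2 (by
      simpa [mul_assoc] using M.mul_mem (M.mul_mem hm hz) (M.inv_mem hm)))
    have h6 := K.mul_mem (K.mul_mem hyK h5) (K.inv_mem hyK)
    rw [hy] at h6
    simpa [mul_assoc] using h6
  have hmK : m⁻¹ ∈ K := K.inv_mem (hMK hm)
  refine ⟨hMK, ?_, hmK⟩
  have : c = m * y := by rw [hy]; group
  rw [this]
  exact K.mul_mem (hMK hm) hyK

/-- `x` centralises every `O_q(H)`, `q ≠ p`: then it lies in `O_p(H)`. -/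
theorem mem_oq_self {H : Subgroup G} (hH : H ≠ ⊤) (hxH : x ∈ H)
    (h : ∀ q : ℕ, q.Prime → q ≠ p → ∀ y ∈ oq q H, Commute x y) : x ∈ oq p H := by
  haveI := C.fact
  exact mem_oq_self_of_commute C.isPGroup (C.mem_xp hH (IsConj.refl x) hxH) h

end Ctx

end Cfsg.Agent.SecondFitting
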